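import Cfsg.Agent.Lib.Spor.JFourFrame
import Cfsg.Agent.Lib.Spor.MathieuTwentyTwoCounts
import Cfsg.Agent.Lib.Spor.MathieuOutTwo
import Cfsg.Agent.Lib.Spor.M22UPrimeCount

/-!
Elements of order eleven in extensions of the automorphism group of `M22`.
-/

set_option autoImplicit false
set_option maxRecDepth 100000

namespace Cfsg.Agent.Spor.JFour.Eleven

open Cfsg

local notation "G22" => Subtype (fun x => x ∈ Cfsg.Spor.M22)

theorem ea_order : orderOf ea = 11 := by
  haveI : Fact (Nat.Prime 11) := ⟨by norm_num⟩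
  exact orderOf_eq_prime e_pows.1 e_pows.2.1

/-- the normaliser of a subgroup of order eleven -/
theorem card_norm (g : G22) (hg : orderOf g = 11) :
    Nat.card (Subgroup.normalizer (Subgroup.zpowers g : Set G22)) = 55 := by
  classical
  haveI : Fact (Nat.Prime 11) := ⟨by norm_num⟩
  have hc22 : Nat.card G22 = 443520 := Local.FS.Mathieu.card_m22
  have hf : (Nat.card G22).factorization 11 = 1 := by
    rw [hc22, Nat.factorization_def _ (by norm_num : Nat.Prime 11),
      show (443520 : ℕ) = 11 ^ 1 * 40320 by norm_num, padicValNat.mul (by norm_num) (by norm_num),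
      padicValNat.prime_pow, padicValNat.eq_zero_of_not_dvd (by norm_num)]
  let P : Sylow 11 G22 := Sylow.ofCard (Subgroup.zpowers g) (by rw [Nat.card_zpowers, hg, hf, pow_one])
  have hP : (P : Subgroup G22) = Subgroup.zpowers g := rfl
  set NP := Subgroup.normalizer (Subgroup.zpowers g : Set G22) with hNP
  have hmod : Nat.card (Sylow 11 G22) % 11 = 1 := card_sylow_modEq_one 11 G22
  have hidx : Nat.card (Sylow 11 G22) = NP.index := by rw [P.card_eq_index_normalizer]; rfl
  have hCN : Subgroup.centralizer ({g} : Set G22) ≤ NP := by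
    intro c hc
    refine Subgroup.mem_normalizer_fintype fun x hx => ?_
    rw [SetLike.mem_coe, Subgroup.mem_zpowers_iff] at hx
    obtain ⟨i, rfl⟩ := hx
    have h1 : Commute c g := Subgroup.mem_centralizer_singleton_iff.1 hc
    rw [SetLike.mem_coe, (h1.zpow_right i).eq, mul_inv_cancel_right]
    exact Subgroup.zpow_mem _ (Subgroup.mem_zpowers g) i
  -- the action on the subgroup
  let φ : NP →* MulAut (Subgroup.zpowers g) := (Subgroup.zpowers g).normalizerMonoidHom
  have hker : Nat.card φ.ker = 11 := by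
    have e : φ.ker = (Subgroup.centralizer ((Subgroup.zpowers g : Subgroup G22) : Set G22)).subgroupOf NP :=
      Subgroup.normalizerMonoidHom_ker _
    rw [e, Subgroup.zpowers_eq_closure, Subgroup.centralizer_closure]
    rw [Nat.card_congr (Subgroup.subgroupOfEquivOfLe hCN).toEquiv]
    exact M22Cent.card_centralizer_prime (by norm_num) hg
  have hr : Nat.card φ.range ∣ 10 := by
    refine (Subgroup.card_subgroup_dvd_card _).trans (dvd_of_eq ?_)
    haveI : IsCyclic (Subgroup.zpowers g) := inferInstance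
    rw [IsCyclic.card_mulAut, Nat.card_zpowers, hg, Nat.totient_prime (by norm_num)]
  have hN : Nat.card NP = Nat.card φ.range * 11 := by
    rw [Subgroup.card_eq_card_quotient_mul_card_subgroup φ.ker,
      Nat.card_congr (QuotientGroup.quotientKerEquivRange φ).toEquiv, hker]
  have hmul := Subgroup.card_mul_index NP
  rw [hc22, hN] at hmul
  rw [hidx] at hmod
  rw [hN]
  have hle := Nat.le_of_dvd (by norm_num) hr
  generalize Nat.card φ.range = k at *
  generalize NP.index = n at *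
  have hn : k * n = 40320 := by linarith
  interval_cases k <;> omega

theorem not_inverted {g h : G22} (hg : orderOf g = 11) : h * g * h⁻¹ ≠ g⁻¹ := by
  intro e
  have hm : h ∈ Subgroup.normalizer (Subgroup.zpowers g : Set G22) := by
    refine Subgroup.mem_normalizer_fintype fun x hx => ?_
    rw [SetLike.mem_coe, Subgroup.mem_zpowers_iff] at hx
    obtain ⟨i, rfl⟩ := hx
    rw [SetLike.mem_coe, ← conj_zpow, e]
    exact Subgroup.zpow_mem _ (inv_mem (Subgroup.mem_zpowers g)) i
  have h55 : h ^ 55 = 1 := by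
    have := Subgroup.orderOf_dvd_natCard _ hm
    rw [card_norm g hg] at this
    exact orderOf_dvd_iff_pow_eq_one.1 this
  have hn : ∀ n : ℕ, h ^ n * g * (h ^ n)⁻¹ = if Even n then g else g⁻¹ := by
    intro n
    induction n with
    | zero => simp
    | succ n ih =>
      rw [pow_succ', show h * h ^ n * g * (h * h ^ n)⁻¹ = h * (h ^ n * g * (h ^ n)⁻¹) * h⁻¹ by group, ih]
      rcases Nat.even_or_odd n with he | he
      · simp [he, e, Nat.not_even_iff_odd.2 he.add_one]
      · rw [if_neg (Nat.not_even_iff_odd.2 he), if_pos he.add_one]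
        rw [← conj_inv, e, inv_inv]
  have h' := hn 55
  rw [h55, one_mul, inv_one, mul_one, if_neg (by decide)] at h'
  have h2 : g ^ 2 = 1 := by rw [pow_two]; exact eq_inv_iff_mul_eq_one.1 h'
  have := orderOf_dvd_of_pow_eq_one h2
  rw [hg] at this
  norm_num at this

theorem inn_index : (Cfsg.Inn G22).index = 2 := MathieuOutTwo.card_out_M22

/-- an automorphism fixing an element of order eleven -/
theorem aut_fix {g : G22} (hg : orderOf g = 11) {φ : MulAut G22} (hφ : φ g = g) :
    ∃ h ∈ Subgroup.zpowers g, φ = MulAut.conj h := by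
  have hcen : Subgroup.centralizer ({g} : Set G22) = Subgroup.zpowers g := by
    refine (Subgroup.eq_of_le_of_card_ge (Subgroup.zpowers_le.2 (Subgroup.mem_centralizer_singleton_iff.2 rfl)) ?_).symm
    rw [M22Cent.card_centralizer_prime (by norm_num) hg, Nat.card_zpowers, hg]
  by_cases hi : φ ∈ Cfsg.Inn G22
  · obtain ⟨h, rfl⟩ := hi
    refine ⟨h, hcen ▸ Subgroup.mem_centralizer_singleton_iff.2 ?_, rfl⟩
    exact mul_inv_eq_iff_eq_mul.1 hφ
  exfalso
  obtain ⟨k, j, hj⟩ : ∃ (k : G22) (j : ℤ), k * g * k⁻¹ = ea ^ j := by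
    haveI : Fact (Nat.Prime 11) := ⟨by norm_num⟩
    obtain ⟨k, hk⟩ := M22U.PrimeCount.conj_of_card (p := 11) (by norm_num)
      (by rw [Local.FS.Mathieu.card_m22]; norm_num) (by rw [Local.FS.Mathieu.card_m22]; norm_num)
      (X := Subgroup.zpowers g) (Y := Subgroup.zpowers ea)
      (by rw [Nat.card_zpowers, hg]) (by rw [Nat.card_zpowers, ea_order])
    have h1 : k * g * k⁻¹ ∈ Subgroup.zpowers ea := hk ▸ ⟨g, Subgroup.mem_zpowers g, rfl⟩
    obtain ⟨j, hj⟩ := h1
    exact ⟨k, j, hj.symm⟩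
  set ψ : MulAut G22 := MulAut.conj k * φ * (MulAut.conj k)⁻¹ with hψ
  have hψe : ψ (k * g * k⁻¹) = k * g * k⁻¹ := by
    show k * φ ((MulAut.conj k)⁻¹ (k * g * k⁻¹)) * k⁻¹ = _
    rw [MulAut.conj_inv_apply, show k⁻¹ * (k * g * k⁻¹) * k = g by group, hφ]
  rw [hj] at hψe
  have hsig : sigAut ∉ Cfsg.Inn G22 := by
    rintro ⟨h, hh⟩
    refine not_inverted (h := h) ea_order ?_
    have := MulEquiv.congr_fun hh ea
    rw [MulAut.conj_apply] at this
    rw [this, sigAut_ea]
  have hψi : ψ ∉ Cfsg.Inn G22 := fun h => hi (by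
    have := mul_mem (mul_mem (inv_mem (⟨k, rfl⟩ : MulAut.conj k ∈ Cfsg.Inn G22)) h)
      (⟨k, rfl⟩ : MulAut.conj k ∈ Cfsg.Inn G22)
    rw [hψ, show (MulAut.conj k)⁻¹ * (MulAut.conj k * φ * (MulAut.conj k)⁻¹) * MulAut.conj k = φ by group] at this
    exact this)
  have hmem : sigAut * ψ ∈ Cfsg.Inn G22 := by
    rw [Subgroup.mul_mem_iff_of_index_two inn_index]
    exact iff_of_false hsig hψi
  obtain ⟨h, hh⟩ := hmem
  have hgen : ea ∈ Subgroup.zpowers (ea ^ j) := by
    haveI : Fact (Nat.Prime 11) := ⟨by norm_num⟩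
    have hne : ea ^ j ≠ 1 := fun e => by
      rw [e] at hj
      rw [conj_eq_one_iff.1 hj, orderOf_one] at hg
      norm_num at hg
    rw [Subgroup.eq_of_le_of_card_ge (Subgroup.zpowers_le.2 (Subgroup.zpow_mem _ (Subgroup.mem_zpowers ea) j))
      (by rw [Nat.card_zpowers, Nat.card_zpowers, ea_order, orderOf_eq_prime
        (by rw [← zpow_natCast, ← zpow_mul, mul_comm, zpow_mul, zpow_natCast, e_pows.1, one_zpow]) hne])]
    exact Subgroup.mem_zpowers ea
  obtain ⟨i, hi'⟩ := hgen
  have hψea : ψ ea = ea := by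
    have h0 : (ea ^ j) ^ i = ea := hi'
    calc ψ ea = ψ ((ea ^ j) ^ i) := by rw [h0]
      _ = (ea ^ j) ^ i := by rw [map_zpow, hψe]
      _ = ea := h0
  refine not_inverted (h := h) ea_order ?_
  have h1 := MulEquiv.congr_fun hh ea
  rw [MulAut.conj_apply, MulAut.mul_apply, hψea, sigAut_ea] at h1
  exact h1

/-- the powers of an element of order eleven are moved onto each other by automorphisms -/
theorem aut_pow {g : G22} (hg : orderOf g = 11) {i : ℕ} (hi : ¬ 11 ∣ i) :
    ∃ φ : MulAut G22, φ g = g ^ i := by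
  haveI : Fact (Nat.Prime 11) := ⟨by norm_num⟩
  obtain ⟨k, hk⟩ := M22U.PrimeCount.conj_of_card (p := 11) (by norm_num)
    (by rw [Local.FS.Mathieu.card_m22]; norm_num) (by rw [Local.FS.Mathieu.card_m22]; norm_num)
    (X := Subgroup.zpowers g) (Y := Subgroup.zpowers ea)
    (by rw [Nat.card_zpowers, hg]) (by rw [Nat.card_zpowers, ea_order])
  have h1 : k * g * k⁻¹ ∈ Subgroup.zpowers ea := hk ▸ ⟨g, Subgroup.mem_zpowers g, rfl⟩
  obtain ⟨j, hj⟩ := h1
  have hj' : ea ^ j = k * g * k⁻¹ := hj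
  have hstep : ∀ m : ℕ, ∃ φ : MulAut G22, φ ea = ea ^ (3 ^ m) := by
    intro m
    induction m with
    | zero => exact ⟨1, by simp⟩
    | succ m ih =>
      obtain ⟨φ, hφ⟩ := ih
      refine ⟨MulAut.conj ed * φ, ?_⟩
      rw [MulAut.mul_apply, hφ, map_pow, MulAut.conj_apply, e_rels.1, ← pow_mul, pow_succ, mul_comm]
  have hcases : ∀ r < 11, r ≠ 0 → ∃ m < 5, 3 ^ m % 11 = r ∨ (10 * 3 ^ m) % 11 = r := by decide +kernel
  obtain ⟨m, -, hm⟩ := hcases (i % 11) (Nat.mod_lt _ (by norm_num)) (fun e => hi (Nat.dvd_of_mod_eq_zero e))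
  have hmod : ∀ a : ℕ, a % 11 = i % 11 → ea ^ a = ea ^ i := fun a ha => by
    rw [← pow_mod_orderOf, ea_order, ha, ← ea_order, pow_mod_orderOf]
  obtain ⟨φ, hφ⟩ : ∃ φ : MulAut G22, φ ea = ea ^ i := by
    obtain ⟨φ, hφ⟩ := hstep m
    rcases hm with e | e
    · exact ⟨φ, by rw [hφ, hmod _ e]⟩
    · refine ⟨sigAut * φ, ?_⟩
      rw [MulAut.mul_apply, hφ, map_pow, sigAut_ea, ← hmod _ e,
        show ea⁻¹ = ea ^ 10 from inv_eq_of_mul_eq_one_right (by rw [← pow_succ', e_pows.1]), ← pow_mul]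
  refine ⟨(MulAut.conj k)⁻¹ * φ * MulAut.conj k, ?_⟩
  rw [MulAut.mul_apply, MulAut.mul_apply, MulAut.conj_apply, ← hj', map_zpow, hφ, MulAut.conj_inv_apply,
    ← zpow_natCast ea i, ← zpow_mul, mul_comm, zpow_mul, zpow_natCast, hj', conj_pow]
  group

section Ext

variable {C : Type*} [Group C] [Finite C] (F : C →* MulAut G22)

theorem image_inner (hF : ¬ 11 ∣ Nat.card F.ker) {a : C} (ha : orderOf a = 11) :
    ∃ g : G22, orderOf g = 11 ∧ F a = MulAut.conj g := by
  haveI : Fact (Nat.Prime 11) := ⟨by norm_num⟩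
  have h1 : F a ≠ 1 := fun e => hF (ha ▸ Subgroup.orderOf_dvd_natCard F.ker (MonoidHom.mem_ker.2 e))
  have h11 : F a ^ 11 = 1 := by rw [← map_pow, ← ha, pow_orderOf_eq_one, map_one]
  obtain ⟨g, hg⟩ : F a ∈ Cfsg.Inn G22 := by
    have h2 : ∀ n : ℕ, (F a ^ n ∈ Cfsg.Inn G22) ↔ (Even n ∨ F a ∈ Cfsg.Inn G22) := by
      intro n
      induction n with
      | zero => simp [one_mem]
      | succ n ih =>
        rw [pow_succ, Subgroup.mul_mem_iff_of_index_two inn_index, ih, Nat.even_add_one]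
        tauto
    have := (h2 11).1 (by rw [h11]; exact one_mem _)
    rcases this with h | h
    · exact absurd h (by decide)
    · exact h
  refine ⟨g, orderOf_eq_prime (conj_inj22 ?_) (fun e => h1 (by rw [← hg, e, map_one])), hg.symm⟩
  rw [map_pow, hg, h11, map_one]

/-- the image of an element commuting with an element of order eleven -/
theorem image_cent (hF : ¬ 11 ∣ Nat.card F.ker) {a c : C} (ha : orderOf a = 11) (hc : Commute c a) :
    ∃ i : ℤ, F c = F a ^ i := by
  obtain ⟨g, hg, hFa⟩ := image_inner F hF ha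
  have h1 : F c * MulAut.conj g = MulAut.conj g * F c := by
    rw [← hFa, ← map_mul, ← map_mul, hc.eq]
  have h2 : F c g = g := by
    refine conj_inj22 (MulEquiv.ext fun y => ?_)
    have h3 := MulEquiv.congr_fun h1 ((F c).symm y)
    simp only [MulAut.mul_apply, MulAut.conj_apply, map_mul, map_inv, MulEquiv.apply_symm_apply] at h3 ⊢
    exact h3
  obtain ⟨h, ⟨i, rfl⟩, e⟩ := aut_fix hg h2
  exact ⟨i, by rw [e, hFa, map_zpow]⟩

/-- the centraliser of an element of order eleven in an extension -/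
theorem card_cent (hF : ¬ 11 ∣ Nat.card F.ker) {a : C} (ha : orderOf a = 11) :
    Nat.card (Subgroup.centralizer ({a} : Set C)) =
      Nat.card (F.ker ⊓ Subgroup.centralizer ({a} : Set C) : Subgroup C) * 11 := by
  obtain ⟨g, hg, hFa⟩ := image_inner F hF ha
  set Ca := Subgroup.centralizer ({a} : Set C) with hCa
  set χ := F.comp Ca.subtype with hχ
  have hr : χ.range = Subgroup.zpowers (F a) := by
    refine le_antisymm ?_ (Subgroup.zpowers_le.2 ⟨⟨a, Subgroup.mem_centralizer_singleton_iff.2 rfl⟩, rfl⟩)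
    rintro _ ⟨c, rfl⟩
    obtain ⟨i, hi⟩ := image_cent F hF ha (c := c.1) (Subgroup.mem_centralizer_singleton_iff.1 c.2)
    exact ⟨i, hi.symm⟩
  rw [Subgroup.card_eq_card_quotient_mul_card_subgroup χ.ker,
    Nat.card_congr (QuotientGroup.quotientKerEquivRange χ).toEquiv, hr, Nat.card_zpowers, mul_comm]
  congr 1
  · exact Nat.card_congr
      { toFun := fun k => ⟨k.1.1, k.2, k.1.2⟩
        invFun := fun k => ⟨⟨k.1, k.2.2⟩, k.2.1⟩
        left_inv := fun _ => rfl
        right_inv := fun _ => rfl }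
  · rw [hFa, orderOf_injective MulAut.conj conj_inj22, hg]

/-- the powers of an element of order eleven are conjugate in an extension -/
theorem conj_pow (hF : ¬ 11 ∣ Nat.card F.ker) (hs : Function.Surjective F) {a : C} (ha : orderOf a = 11) {i : ℕ}
    (hi : ¬ 11 ∣ i) : ∃ c, c * a * c⁻¹ = a ^ i := by
  haveI : Fact (Nat.Prime 11) := ⟨by norm_num⟩
  obtain ⟨g, hg, hFa⟩ := image_inner F hF ha
  obtain ⟨φ, hφ⟩ := aut_pow hg hi
  obtain ⟨c, rfl⟩ := hs φ
  have hFc : F (c * a * c⁻¹) = F a ^ i := by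
    rw [map_mul, map_mul, map_inv, hFa, ← map_pow]
    refine MulEquiv.ext fun y => ?_
    simp only [MulAut.mul_apply, MulAut.conj_apply, map_mul, map_inv, hφ]
    rw [show (F c) ((F c)⁻¹ y) = y from (F c).apply_symm_apply y]
  set W := (Subgroup.zpowers (F a)).comap F with hW
  have haW : a ∈ W := Subgroup.mem_zpowers _
  have hbW : c * a * c⁻¹ ∈ W := by
    show F _ ∈ Subgroup.zpowers (F a)
    rw [hFc]
    exact Subgroup.pow_mem _ (Subgroup.mem_zpowers _) i
  have hoa : orderOf (F a) = 11 := by rw [hFa, orderOf_injective MulAut.conj conj_inj22, hg]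
  have hWc : Nat.card W = 11 * Nat.card F.ker := by
    rw [Subgroup.card_eq_card_quotient_mul_card_subgroup (F.comp W.subtype).ker,
      Nat.card_congr (QuotientGroup.quotientKerEquivRange _).toEquiv, MonoidHom.range_comp, Subgroup.range_subtype,
      hW, Subgroup.map_comap_eq_self (Subgroup.zpowers_le.2 ⟨a, rfl⟩), Nat.card_zpowers, hoa]
    congr 1
    exact Nat.card_congr
      { toFun := fun k => ⟨k.1.1, k.2⟩
        invFun := fun k => ⟨⟨k.1, by
          show F k.1 ∈ Subgroup.zpowers (F a)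
          rw [MonoidHom.mem_ker.1 k.2]; exact one_mem _⟩, k.2⟩
        left_inv := fun _ => rfl
        right_inv := fun _ => rfl }
  have hconj : orderOf (c * a * c⁻¹) = 11 := by
    rw [← ha, ← MulAut.conj_apply]
    exact orderOf_injective (MulAut.conj c).toMonoidHom (MulAut.conj c).injective a
  have hcz : ∀ u : W, orderOf (u : C) = 11 → Nat.card (Subgroup.zpowers u) = 11 := fun u hu => by
    rw [Nat.card_zpowers, ← Subgroup.orderOf_coe, hu]
  obtain ⟨w, hw⟩ := M22U.PrimeCount.conj_of_card (p := 11) (by norm_num) (by rw [hWc]; exact Dvd.intro _ rfl)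
    (by rw [hWc, Nat.mul_dvd_mul_iff_left (by norm_num)]; exact hF)
    (X := Subgroup.zpowers (⟨c * a * c⁻¹, hbW⟩ : W)) (Y := Subgroup.zpowers (⟨a, haW⟩ : W))
    (hcz _ hconj) (hcz _ ha)
  have h1 : w * ⟨c * a * c⁻¹, hbW⟩ * w⁻¹ ∈ Subgroup.zpowers (⟨a, haW⟩ : W) := hw ▸ ⟨_, Subgroup.mem_zpowers _, rfl⟩
  obtain ⟨j, hj⟩ := h1
  have hj' : a ^ j = (w : C) * (c * a * c⁻¹) * (w : C)⁻¹ := congrArg Subtype.val hj
  obtain ⟨l, hl⟩ : F (w : C) ∈ Subgroup.zpowers (F a) := w.2
  have hFj : F (a ^ j) = F (a ^ i) := by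
    rw [hj', map_mul, map_mul, map_inv, hFc, map_pow, ← hl,
      (((Commute.refl (F a)).zpow_left l).pow_right i).eq, mul_inv_cancel_right]
  refine ⟨(w : C) * c, ?_⟩
  rw [show (w : C) * c * a * ((w : C) * c)⁻¹ = (w : C) * (c * a * c⁻¹) * (w : C)⁻¹ by group, ← hj']
  refine mul_inv_eq_one.1 ?_
  by_contra hne
  refine hF ?_
  have hm : a ^ j * (a ^ i)⁻¹ ∈ Subgroup.zpowers a :=
    mul_mem (Subgroup.zpow_mem _ (Subgroup.mem_zpowers a) j) (inv_mem (Subgroup.pow_mem _ (Subgroup.mem_zpowers a) i))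
  have hdvd : orderOf (a ^ j * (a ^ i)⁻¹) ∣ 11 := by
    have := Subgroup.orderOf_dvd_natCard _ hm
    rwa [Nat.card_zpowers, ha] at this
  rcases (Nat.dvd_prime (by norm_num : Nat.Prime 11)).1 hdvd with e | e
  · exact absurd (orderOf_eq_one_iff.1 e) hne
  · rw [← e]
    exact Subgroup.orderOf_dvd_natCard F.ker (MonoidHom.mem_ker.2 (by rw [map_mul, map_inv, hFj, mul_inv_cancel]))

end Ext

end Cfsg.Agent.Spor.JFour.Eleven
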