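import Mathlib.GroupTheory.PGroup
import Mathlib.GroupTheory.Sylow

/-!
Counting lemmas for an element of prime order acting by conjugation.
-/

set_option autoImplicit false

namespace Cfsg.Agent.Spor.JFour.Eleven

variable {G : Type*} [Group G] [Finite G] {p : ℕ} [hp : Fact p.Prime]

/-- the fixed points of an element of prime order on a subgroup it normalises -/
theorem card_modEq_cent {b : G} (hb : b ^ p = 1) {W : Subgroup G} (hW : ∀ w ∈ W, b * w * b⁻¹ ∈ W) :
    Nat.card W ≡ Nat.card (W ⊓ Subgroup.centralizer ({b} : Set G) : Subgroup G) [MOD p] := by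
  have hpow : ∀ c ∈ Subgroup.zpowers b, ∀ w ∈ W, c * w * c⁻¹ ∈ W := by
    intro c hc
    have hle : Subgroup.zpowers b ≤ Subgroup.normalizer (W : Set G) :=
      Subgroup.zpowers_le.2 (Subgroup.mem_normalizer_fintype hW)
    exact fun w hw => (Subgroup.mem_normalizer_iff.1 (hle hc) w).1 hw
  letI : MulAction (Subgroup.zpowers b) W :=
    { smul := fun c w => ⟨(c : G) * w * (c : G)⁻¹, hpow c c.2 w w.2⟩
      one_smul := fun w => Subtype.ext (by show (1 : G) * w * (1 : G)⁻¹ = w; group)
      mul_smul := fun c d w => Subtype.ext (by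
        show ((c : G) * d) * w * ((c : G) * d)⁻¹ = c * (d * w * (d : G)⁻¹) * (c : G)⁻¹
        group) }
  have hP : IsPGroup p (Subgroup.zpowers b) := by
    intro c
    refine ⟨1, Subtype.ext ?_⟩
    obtain ⟨i, hi⟩ := c.2
    rw [pow_one, SubmonoidClass.coe_pow, ← show b ^ i = (c : G) from hi, ← zpow_natCast, ← zpow_mul, mul_comm,
      zpow_mul, zpow_natCast, hb, one_zpow, OneMemClass.coe_one]
  refine (hP.card_modEq_card_fixedPoints W).trans ?_
  refine congrArg (· % p) ?_
  exact Nat.card_congr
    { toFun := fun w => ⟨(w : W), (w : W).2, Subgroup.mem_centralizer_singleton_iff.2 (by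
        have h : b * ((w : W) : G) * b⁻¹ = (w : W) :=
          congrArg Subtype.val (w.2 (⟨b, Subgroup.mem_zpowers b⟩ : Subgroup.zpowers b))
        exact (mul_inv_eq_iff_eq_mul.1 h).symm)⟩
      invFun := fun w => ⟨⟨w, w.2.1⟩, fun c => Subtype.ext (by
        obtain ⟨i, hi⟩ := c.2
        show (c : G) * w * (c : G)⁻¹ = w
        rw [← show b ^ i = (c : G) from hi,
          (((show Commute (w : G) b from Subgroup.mem_centralizer_singleton_iff.1 w.2.2).zpow_right i).symm).eq,
          mul_inv_cancel_right])⟩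
      left_inv := fun _ => rfl
      right_inv := fun _ => rfl }

/-- centralisers of pairs move along with conjugation -/
theorem card_cent_conj (g u v : G) :
    Nat.card (Subgroup.centralizer ({g * u * g⁻¹} : Set G) ⊓ Subgroup.centralizer ({g * v * g⁻¹} : Set G) :
      Subgroup G) =
      Nat.card (Subgroup.centralizer ({u} : Set G) ⊓ Subgroup.centralizer ({v} : Set G) : Subgroup G) := by
  have e : ∀ {c w : G}, c ∈ Subgroup.centralizer ({g * w * g⁻¹} : Set G) ↔
      g⁻¹ * c * g ∈ Subgroup.centralizer ({w} : Set G) := fun {c w} => by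
    rw [Subgroup.mem_centralizer_singleton_iff, Subgroup.mem_centralizer_singleton_iff]
    constructor
    · intro h
      calc g⁻¹ * c * g * w = g⁻¹ * (c * (g * w * g⁻¹)) * g := by group
        _ = w * (g⁻¹ * c * g) := by rw [h]; group
    · intro h
      calc c * (g * w * g⁻¹) = g * (g⁻¹ * c * g * w) * g⁻¹ := by group
        _ = g * w * g⁻¹ * c := by rw [h]; group
  exact Nat.card_congr
    { toFun := fun c => ⟨g⁻¹ * c * g, e.1 c.2.1, e.1 c.2.2⟩
      invFun := fun c => ⟨g * c * g⁻¹,
        e.2 (by rw [show g⁻¹ * (g * (c : G) * g⁻¹) * g = (c : G) by group]; exact c.2.1),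
        e.2 (by rw [show g⁻¹ * (g * (c : G) * g⁻¹) * g = (c : G) by group]; exact c.2.2)⟩
      left_inv := fun c => Subtype.ext (by show g * (g⁻¹ * (c : G) * g) * g⁻¹ = c; group)
      right_inv := fun c => Subtype.ext (by show g⁻¹ * (g * (c : G) * g⁻¹) * g = c; group) }

end Cfsg.Agent.Spor.JFour.Eleven
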