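import Cfsg.Agent.Lib.Spor.JFourEleven.HSide
import Cfsg.Agent.Lib.Spor.JFourEleven.Generic
import Cfsg.Agent.Lib.Spor.JFourCenPair
import Cfsg.Agent.Lib.Spor.JFourSecond
import Cfsg.Agent.Lib.Spor.JFourOrder.COrder

/-!
Elements of order eleven in the centraliser of the second class of involutions.
-/

set_option autoImplicit false
set_option maxRecDepth 100000
set_option linter.unusedSectionVars false

namespace Cfsg.Agent.Spor.JFour

open Cfsg.Agent.Spor.LFT (iT)

attribute [local irreducible] Gam Kp Chk.app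

universe u

variable {G : Type u} [Group G] [Finite G] {z : G} {Q N : Subgroup G} {x : G}
variable (S : Big z Q N x) (f : Frame z Q x)

include S f

/-- centralisers at a conjugate of the involution -/
theorem Big.cent_eleven_conj {i b : G} (hi : IsConj z i) (hb : orderOf b = 11) (hbi : Commute b i) :
    Nat.card (Subgroup.centralizer ({i} : Set G) ⊓ Subgroup.centralizer ({b} : Set G) : Subgroup G) = 264 ∧
    (∀ k : ℕ, ¬ 11 ∣ k → ∃ c, Commute c i ∧ c * b * c⁻¹ = b ^ k) := by
  obtain ⟨g, rfl⟩ := isConj_iff.1 hi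
  set a := g⁻¹ * b * g with ha
  have hb' : b = g * a * g⁻¹ := by rw [ha]; group
  have hao : orderOf a = 11 := by
    rw [← hb, hb', ← MulAut.conj_apply]
    exact (orderOf_injective (MulAut.conj g).toMonoidHom (MulAut.conj g).injective a).symm
  have haz : Commute a z := by
    have := (Commute.conj_iff g⁻¹).2 hbi
    rwa [inv_inv, show g⁻¹ * (g * z * g⁻¹) * g = z by group] at this
  obtain ⟨h1, -, h3⟩ := S.cent_eleven f hao haz
  refine ⟨by rw [hb', Eleven.card_cent_conj]; exact h1, fun k hk => ?_⟩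
  obtain ⟨c, hc, e⟩ := h3 k hk
  refine ⟨g * c * g⁻¹, (Commute.conj_iff g).2 hc, ?_⟩
  rw [hb', conj_pow, ← e]
  group

/-- the fixed part of the large elementary group of an element of order eleven of its normaliser -/
theorem Big.fixV_eleven {V : Subgroup G} (hVe : Cfsg.IsElementaryAbelian 2 V) (hVc : Nat.card V = 2 ^ 11) {b : G}
    (hb : orderOf b = 11) (hbV : ∀ v ∈ V, b * v * b⁻¹ ∈ V) :
    Nat.card (V ⊓ Subgroup.centralizer ({b} : Set G) : Subgroup G) = 2 := by
  haveI : Fact (Nat.Prime 11) := ⟨by norm_num⟩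
  have hmod := Eleven.card_modEq_cent (p := 11) (hb ▸ pow_orderOf_eq_one b) hbV
  set W := V ⊓ Subgroup.centralizer ({b} : Set G) with hW
  have hd : Nat.card W ∣ 2 ^ 11 := hVc ▸ Subgroup.card_dvd_of_le inf_le_left
  obtain ⟨d, hd11, hWd⟩ := (Nat.dvd_prime_pow Nat.prime_two).1 hd
  rw [hVc, hWd] at hmod
  rw [hWd]
  have hall : d = 1 ∨ d = 11 := by
    unfold Nat.ModEq at hmod
    interval_cases d <;> simp_all
  rcases hall with rfl | rfl
  · norm_num
  exfalso
  have hWV : W = V := Subgroup.eq_of_le_of_card_ge inf_le_left (by rw [hVc, hWd])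
  obtain ⟨v, hvV, hv, -⟩ := S.orbit_z f hVe hVc
  have hbv : Commute b v :=
    (show Commute v b from Subgroup.mem_centralizer_singleton_iff.1 ((hWV ▸ hvV : v ∈ W)).2).symm
  have hle : V ≤ Subgroup.centralizer ({v} : Set G) ⊓ Subgroup.centralizer ({b} : Set G) := fun w hw => by
    haveI := hVe.1
    exact ⟨Subgroup.mem_centralizer_singleton_iff.2
      (congrArg Subtype.val (hVe.1.is_comm.comm (⟨w, hw⟩ : V) ⟨v, hvV⟩)), ((hWV ▸ hw : w ∈ W)).2⟩
  have := Subgroup.card_le_of_le hle
  rw [hVc, (S.cent_eleven_conj f hv hb hbv).1] at this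
  norm_num at this

/-- the quotient map of the centraliser of an involution of the second class -/
theorem Big.quot_map_t {V : Subgroup G} (hVe : Cfsg.IsElementaryAbelian 2 V) (hVc : Nat.card V = 2 ^ 11) {t : G}
    (htV : t ∈ V) (ht : iT z t) :
    ∃ F : Subgroup.centralizer ({t} : Set G) →* MulAut (Subtype fun y => y ∈ Cfsg.Spor.M22),
      Function.Surjective F ∧ ∀ c : Subgroup.centralizer ({t} : Set G), F c = 1 ↔ (c : G) ∈ V := by
  obtain ⟨K, hVC, hKC, hCN, hKV, hsup, ⟨e⟩⟩ := S.cen_iT f hVe hVc htV ht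
  set C := Subgroup.centralizer ({t} : Set G) with hC
  set V' := V.subgroupOf C with hV'
  haveI : V'.Normal := by
    constructor
    intro n hn c
    exact (Subgroup.mem_normalizer_iff.1 (hCN c.2) n).1 hn
  set K' := K.subgroupOf C with hK'
  have hcompl : K'.IsComplement' V' := by
    refine Subgroup.isComplement'_of_disjoint_and_mul_eq_univ ?_ ?_
    · rw [disjoint_iff, hK', hV', Subgroup.subgroupOf, Subgroup.subgroupOf, ← Subgroup.comap_inf, hKV]
      exact (MonoidHom.comap_bot _).trans (MonoidHom.ker_eq_bot_iff _ |>.2 (Subgroup.subtype_injective _))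
    · rw [Set.eq_univ_iff_forall]
      intro c
      have hc : c ∈ K' ⊔ V' := by
        rw [hK', hV', ← Subgroup.subgroupOf_sup hKC hVC, hsup, Subgroup.subgroupOf_self]; trivial
      rw [← SetLike.mem_coe, Subgroup.mul_normal] at hc
      exact hc
  let F : C →* MulAut (Subtype fun y => y ∈ Cfsg.Spor.M22) :=
    (((hcompl.QuotientMulEquiv).trans (Subgroup.subgroupOfEquivOfLe hKC)).trans e).toMonoidHom.comp
      (QuotientGroup.mk' V')
  refine ⟨F, fun y => ?_, fun c => ?_⟩
  · obtain ⟨q, hq⟩ := (((hcompl.QuotientMulEquiv).trans (Subgroup.subgroupOfEquivOfLe hKC)).trans e).surjective y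
    obtain ⟨c, rfl⟩ := QuotientGroup.mk'_surjective V' q
    exact ⟨c, hq⟩
  show (((hcompl.QuotientMulEquiv).trans (Subgroup.subgroupOfEquivOfLe hKC)).trans e) (QuotientGroup.mk' V' c) = 1 ↔ _
  rw [MulEquiv.map_eq_one_iff, QuotientGroup.mk'_apply, QuotientGroup.eq_one_iff, hV', Subgroup.mem_subgroupOf]

/-- an element of order eleven commuting with an involution of the second class -/
theorem Big.cent_eleven_t {V : Subgroup G} (hVe : Cfsg.IsElementaryAbelian 2 V) (hVc : Nat.card V = 2 ^ 11) {t : G}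
    (htV : t ∈ V) (ht : iT z t) {b : G} (hb : orderOf b = 11) (hbt : Commute b t) :
    b ∈ Subgroup.normalizer (V : Set G) ∧
    Nat.card (Subgroup.centralizer ({t} : Set G) ⊓ Subgroup.centralizer ({b} : Set G) : Subgroup G) = 22 ∧
    (∀ k : ℕ, ¬ 11 ∣ k → ∃ c, Commute c t ∧ c * b * c⁻¹ = b ^ k) := by
  set C := Subgroup.centralizer ({t} : Set G) with hC
  obtain ⟨F, hs, hk⟩ : ∃ F : C →* MulAut (Subtype fun y => y ∈ Cfsg.Spor.M22),
      Function.Surjective F ∧ ∀ c : C, F c = 1 ↔ (c : G) ∈ V := S.quot_map_t f hVe hVc htV ht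
  have hCN : C ≤ Subgroup.normalizer (V : Set G) := fun y hy =>
    S.cen_pair f hVe hVc htV ht (Subgroup.mem_centralizer_singleton_iff.1 hy)
  have hVC : V ≤ C := fun w hw => by
    haveI := hVe.1
    exact Subgroup.mem_centralizer_singleton_iff.2
      (congrArg Subtype.val (hVe.1.is_comm.comm (⟨w, hw⟩ : V) ⟨t, htV⟩))
  have hbC : b ∈ C := Subgroup.mem_centralizer_singleton_iff.2 hbt.eq
  have h11 : ¬ 11 ∣ Nat.card F.ker := by
    have e : Nat.card F.ker = Nat.card V :=
      Nat.card_congr
        { toFun := fun c => ⟨(c.1 : G), (hk c.1).1 c.2⟩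
          invFun := fun n => ⟨⟨n, hVC n.2⟩, (hk _).2 n.2⟩
          left_inv := fun _ => rfl
          right_inv := fun _ => rfl }
    rw [e, hVc]
    norm_num
  set bC : C := ⟨b, hbC⟩
  have hbo : orderOf bC = 11 := by rw [← Subgroup.orderOf_coe]; exact hb
  refine ⟨hCN hbC, ?_, fun k hk' => ?_⟩
  · have e1 : Nat.card (C ⊓ Subgroup.centralizer ({b} : Set G) : Subgroup G) =
        Nat.card (Subgroup.centralizer ({bC} : Set C)) :=
      Nat.card_congr
        { toFun := fun c => ⟨⟨c.1, c.2.1⟩, Subgroup.mem_centralizer_singleton_iff.2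
            (Subtype.ext (Subgroup.mem_centralizer_singleton_iff.1 c.2.2))⟩
          invFun := fun c => ⟨c.1.1, c.1.2, Subgroup.mem_centralizer_singleton_iff.2
            (congrArg Subtype.val (Subgroup.mem_centralizer_singleton_iff.1 c.2))⟩
          left_inv := fun _ => rfl
          right_inv := fun _ => rfl }
    have e2 : Nat.card (F.ker ⊓ Subgroup.centralizer ({bC} : Set C) : Subgroup C) =
        Nat.card (V ⊓ Subgroup.centralizer ({b} : Set G) : Subgroup G) :=
      Nat.card_congr
        { toFun := fun c => ⟨c.1.1, (hk c.1).1 c.2.1, Subgroup.mem_centralizer_singleton_iff.2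
            (congrArg Subtype.val (Subgroup.mem_centralizer_singleton_iff.1 c.2.2))⟩
          invFun := fun n => ⟨⟨n, hVC n.2.1⟩, (hk _).2 n.2.1,
            Subgroup.mem_centralizer_singleton_iff.2
              (Subtype.ext (Subgroup.mem_centralizer_singleton_iff.1 n.2.2))⟩
          left_inv := fun _ => rfl
          right_inv := fun _ => rfl }
    rw [e1, Eleven.card_cent F h11 hbo, e2, S.fixV_eleven f hVe hVc hb fun v hv =>
      (Subgroup.mem_normalizer_iff.1 (hCN hbC) v).1 hv]
  · obtain ⟨c, hc⟩ := Eleven.conj_pow F h11 hs hbo hk'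
    refine ⟨(c : G), Subgroup.mem_centralizer_singleton_iff.1 c.2, ?_⟩
    simpa [bC] using congrArg Subtype.val hc

end Cfsg.Agent.Spor.JFour
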