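import Cfsg.Agent.Lib.Spor.JFourEleven.Pair

/-!
The centraliser of the element of order eleven of the centre side.
-/

set_option autoImplicit false
set_option linter.unusedSectionVars false

namespace Cfsg.Agent.Spor.JFour

universe u

variable {G : Type u} [Group G] [Finite G] {z : G} {Q N : Subgroup G} {x : G}

/-- the facts about the Sylow subgroup inside the centraliser of `a` -/
structure ElevenCube (a b : G) (O : Subgroup G) : Prop where
  le : O ≤ Subgroup.centralizer ({a} : Set G)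
  card : Nat.card O = 11 ^ 3
  aO : a ∈ O
  bO : b ∈ O
  nrm : ∀ c, Commute c a → ∀ o ∈ O, c * o * c⁻¹ ∈ O
  ext : Cfsg.IsExtraspecial 11 O
  pow11 : ∀ o ∈ O, o ^ 11 = 1
  cen : ∀ o ∈ O, (∀ o' ∈ O, Commute o o') → o ∈ Subgroup.zpowers a
  cardC : Nat.card (Subgroup.centralizer ({a} : Set G)) = 31944
  cover : ∀ y ∈ O, y ∉ Subgroup.zpowers a → IsConj b y

variable (S : Big z Q N x) (f : Frame z Q x)

include S in
theorem Big.N_normal {c n : G} (hc : Commute c z) (hn : n ∈ N) : c * n * c⁻¹ ∈ N := by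
  obtain ⟨F, -, hk⟩ := S.base.quot
  let cC : Subgroup.centralizer ({z} : Set G) := ⟨c, Subgroup.mem_centralizer_singleton_iff.2 hc.eq⟩
  let nC : Subgroup.centralizer ({z} : Set G) := ⟨n, Subgroup.mem_centralizer_singleton_iff.2 (S.base.le n hn).eq⟩
  refine (hk (cC * nC * cC⁻¹)).1 ?_
  rw [map_mul, map_mul, map_inv, (hk nC).2 hn, mul_one, mul_inv_cancel]

include S f in
theorem Big.Q_normal {c q : G} (hc : Commute c z) (hq : q ∈ Q) : c * q * c⁻¹ ∈ Q := by
  let cC : Subgroup.centralizer ({z} : Set G) := ⟨c, Subgroup.mem_centralizer_singleton_iff.2 hc.eq⟩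
  let qC : Subgroup.centralizer ({z} : Set G) := ⟨q, S.base.mem_C hq⟩
  refine (f.ker (cC * qC * cC⁻¹)).1 ?_
  rw [map_mul, map_mul, map_inv, (f.ker qC).2 hq, mul_one, mul_inv_cancel]

include S f

/-- the odd elements of the common centraliser -/
theorem Big.odd_fixed {a d : G} (ha : orderOf a = 11) (haz : Commute a z) (hdz : Commute d z) (hda : Commute d a)
    (hodd : Odd (orderOf d))
    (hQ : ∀ q ∈ Q, Commute q a → ∀ r ∈ Q, d * q * d⁻¹ * q⁻¹ = r → r = 1) : d ∈ Subgroup.zpowers a := by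
  classical
  haveI : Fact (Nat.Prime 11) := ⟨by norm_num⟩
  obtain ⟨hD, -, -⟩ := S.cent_eleven f ha haz
  set D := Subgroup.centralizer ({z} : Set G) ⊓ Subgroup.centralizer ({a} : Set G) with hDdef
  set M := (N ⊓ Subgroup.centralizer ({a} : Set G)).subgroupOf D with hM
  have hle : N ⊓ Subgroup.centralizer ({a} : Set G) ≤ D := fun n hn =>
    ⟨Subgroup.mem_centralizer_singleton_iff.2 (S.base.le n hn.1), hn.2⟩
  have hMc : Nat.card M = 24 := by
    rw [Nat.card_congr (Subgroup.subgroupOfEquivOfLe hle).toEquiv, S.middle_eleven f ha haz]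
  have hMn : M.Normal := ⟨fun n hn g => Subgroup.mem_subgroupOf.2
    ⟨S.N_normal (Subgroup.mem_centralizer_singleton_iff.1 g.2.1) (Subgroup.mem_subgroupOf.1 hn).1,
      Subgroup.mul_mem _ (Subgroup.mul_mem _ g.2.2 (Subgroup.mem_subgroupOf.1 hn).2) (Subgroup.inv_mem _ g.2.2)⟩⟩
  have hMi : M.index = 11 := by
    have h := Subgroup.card_mul_index M
    rw [hMc, hD] at h
    omega
  set dD : D := ⟨d, Subgroup.mem_centralizer_singleton_iff.2 hdz.eq, Subgroup.mem_centralizer_singleton_iff.2 hda.eq⟩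
  have h33 : orderOf d ∣ 33 := by
    have h := orderOf_dvd_natCard dD
    rw [← Subgroup.orderOf_coe, hD, show (264 : ℕ) = 8 * 33 by norm_num] at h
    refine Nat.Coprime.dvd_of_dvd_mul_left ?_ h
    rw [show (8 : ℕ) = 2 ^ 3 by norm_num]
    exact Nat.Coprime.pow_right _ (Nat.coprime_two_right.2 hodd)
  have hu : (dD ^ 11) ∈ M := hMi ▸ Subgroup.pow_index_mem M dD
  have huN : d ^ 11 ∈ N := (Subgroup.mem_subgroupOf.1 hu).1
  have hd11 : d ^ 11 = 1 := by
    have h3 : (d ^ 11) ^ 3 = 1 := by rw [← pow_mul]; exact orderOf_dvd_iff_pow_eq_one.1 h33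
    have hcen : ∀ q ∈ Q, Commute q a → Commute (d ^ 11) q := fun q hq hqa => by
      refine Commute.pow_left (mul_inv_eq_iff_eq_mul.1 (mul_inv_eq_one.1 ?_)) 11
      exact hQ q hq hqa _ (mul_mem (S.Q_normal f hdz hq) (inv_mem hq)) rfl
    have hQm : d ^ 11 ∈ Q := S.moved_eleven f ha haz (Or.inl ⟨huN, hda.pow_left 11⟩) hcen
    have h8 : Nat.card (Q ⊓ Subgroup.centralizer ({a} : Set G) : Subgroup G) = 8 := (S.fix_eleven f ha haz).1
    have h := Subgroup.orderOf_dvd_natCard (Q ⊓ Subgroup.centralizer ({a} : Set G)) (x := d ^ 11)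
      ⟨hQm, Subgroup.mem_centralizer_singleton_iff.2 (hda.pow_left 11).eq⟩
    rw [h8] at h
    exact orderOf_eq_one_iff.1 (Nat.dvd_one.1 (by
      have := Nat.dvd_gcd h (orderOf_dvd_iff_pow_eq_one.2 h3)
      exact this))
  by_contra hne
  have hA : IsPGroup 11 (Subgroup.zpowers a) := IsPGroup.of_card (n := 1) (by rw [Nat.card_zpowers, ha, pow_one])
  have hd1 : d ≠ 1 := fun e => hne (e ▸ one_mem _)
  have hDp : IsPGroup 11 (Subgroup.zpowers d) :=
    IsPGroup.of_card (n := 1) (by rw [Nat.card_zpowers, orderOf_eq_prime hd11 hd1, pow_one])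
  have hn : Subgroup.zpowers d ≤ Subgroup.normalizer (Subgroup.zpowers a : Set G) := by
    refine Subgroup.zpowers_le.2 (Subgroup.mem_normalizer_fintype ?_)
    rintro _ ⟨i, rfl⟩
    show d * a ^ i * d⁻¹ ∈ (Subgroup.zpowers a : Set G)
    rw [(hda.zpow_right i).eq, mul_inv_cancel_right]
    exact ⟨i, rfl⟩
  obtain ⟨k, hk⟩ := (hA.to_sup_of_normal_left' hDp hn).exists_card_eq
  have hsub : Subgroup.zpowers a ⊔ Subgroup.zpowers d ≤ D :=
    sup_le (Subgroup.zpowers_le.2 ⟨Subgroup.mem_centralizer_singleton_iff.2 haz.eq,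
      Subgroup.mem_centralizer_singleton_iff.2 rfl⟩) (Subgroup.zpowers_le.2 dD.2)
  have h := Subgroup.card_dvd_of_le hsub
  rw [hk, hD] at h
  have hk1 : k ≤ 1 := by
    by_contra hlt
    have := (pow_dvd_pow 11 (show 2 ≤ k by omega)).trans h
    norm_num at this
  refine hne (?_ : d ∈ Subgroup.zpowers a)
  rw [Subgroup.eq_of_le_of_card_ge (le_sup_left : Subgroup.zpowers a ≤ Subgroup.zpowers a ⊔ Subgroup.zpowers d)
    (by rw [hk, Nat.card_zpowers, ha]; exact (Nat.pow_le_pow_right (by norm_num) hk1).trans_eq (pow_one 11))]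
  exact Subgroup.mem_sup_right (Subgroup.mem_zpowers d)

theorem Big.eleven_cube {a b t : G} (P : ElevenPair z a b t) : ∃ O, ElevenCube a b O := by
  classical
  haveI : Fact (Nat.Prime 11) := ⟨by norm_num⟩
  obtain ⟨hD, honly, hapow⟩ := S.cent_eleven f P.ao P.az
  have hzo := S.base.zord
  have z2 : z * z = 1 := by rw [← pow_two, ← hzo]; exact pow_orderOf_eq_one z
  have z1 : z ≠ 1 := fun e => by rw [e, orderOf_one] at hzo; norm_num at hzo
  set K := Subgroup.centralizer ({a} : Set G) with hK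
  set zK : K := ⟨z, Subgroup.mem_centralizer_singleton_iff.2 P.az.symm.eq⟩
  set aK : K := ⟨a, Subgroup.mem_centralizer_singleton_iff.2 rfl⟩
  set bK : K := ⟨b, Subgroup.mem_centralizer_singleton_iff.2 P.ba.eq⟩
  have zK2 : zK * zK = 1 := Subtype.ext z2
  have hiso : Cfsg.IsIsolatedInvolution zK := by
    refine ⟨orderOf_eq_prime (by rw [pow_two, zK2]) fun e => z1 (congrArg Subtype.val e), fun g hg => ?_⟩
    have h := honly ((g * zK * g⁻¹ : K) : G) (congrArg Subtype.val hg.symm.eq)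
      (Subgroup.mem_centralizer_singleton_iff.1 (g * zK * g⁻¹).2)
      (congrArg Subtype.val (show g * zK * g⁻¹ * (g * zK * g⁻¹) = 1 by rw [conj_mul, zK2, mul_one, mul_inv_cancel]))
    rcases h with h | h
    · exact absurd (conj_eq_one_iff.1 (Subtype.ext h : g * zK * g⁻¹ = 1)) fun e => z1 (congrArg Subtype.val e)
    · exact Subtype.ext h
  set O' := Cfsg.oddCore K with hO'
  haveI hOn : O'.Normal := Cfsg.pPrimeCore_normal 2 K
  have hOodd : Odd (Nat.card O') := StrongProd.oddCore_odd K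
  have hacen : ∀ y ∈ Subgroup.zpowers aK, ∀ k : K, Commute y k := by
    rintro _ ⟨i, rfl⟩ k
    exact (show Commute aK k from Subtype.ext (Subgroup.mem_centralizer_singleton_iff.1 k.2).symm).zpow_left i
  have haK : orderOf aK = 11 := by rw [← Subgroup.orderOf_coe]; exact P.ao
  have hAO : Subgroup.zpowers aK ≤ O' := by
    haveI : (Subgroup.zpowers aK).Normal := ⟨fun n hn g => by
      rw [← (hacen n hn g).eq, mul_inv_cancel_right]; exact hn⟩
    exact Fusion.le_pPrimeCore (p := 2) (by rw [Nat.card_zpowers, haK]; norm_num)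
  set QA := Q ⊓ K with hQA
  have hQ8 : Nat.card QA = 8 := (S.fix_eleven f P.ao P.az).1
  -- the fixed points
  have hfix : ∀ o ∈ O', Commute o zK → o ∈ Subgroup.zpowers aK := by
    intro o ho hoz
    have hodd : Odd (orderOf (o : G)) := by
      rw [Subgroup.orderOf_coe]; exact hOodd.of_dvd_nat (Subgroup.orderOf_dvd_natCard O' ho)
    have h := S.odd_fixed f P.ao P.az (congrArg Subtype.val hoz.eq) (Subgroup.mem_centralizer_singleton_iff.1 o.2) hodd
      (fun q hq hqa r hr e => by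
        set qK : K := ⟨q, Subgroup.mem_centralizer_singleton_iff.2 hqa.eq⟩
        have hrO : o * qK * o⁻¹ * qK⁻¹ ∈ O' := by
          have := mul_mem ho (hOn.conj_mem _ (inv_mem ho) qK)
          rwa [show o * (qK * o⁻¹ * qK⁻¹) = o * qK * o⁻¹ * qK⁻¹ by group] at this
        have h1 : orderOf r ∣ Nat.card O' := by
          rw [← e]
          exact (Subgroup.orderOf_coe (o * qK * o⁻¹ * qK⁻¹)).symm ▸ Subgroup.orderOf_dvd_natCard O' hrO
        have h2 : orderOf r ∣ 8 := hQ8 ▸ Subgroup.orderOf_dvd_natCard QA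
          ⟨hr, e ▸ (o * qK * o⁻¹ * qK⁻¹).2⟩
        have hco : Nat.Coprime (Nat.card O') 8 := by
          rw [show (8 : ℕ) = 2 ^ 3 by norm_num]
          exact Nat.Coprime.pow_right _ (Nat.coprime_two_right.2 hOodd)
        exact orderOf_eq_one_iff.1 (Nat.eq_one_of_dvd_coprimes hco h1 h2))
    obtain ⟨i, hi⟩ := h
    exact ⟨i, Subtype.ext (by rw [SubgroupClass.coe_zpow]; exact hi)⟩
  -- the order
  set C := Subgroup.centralizer ({zK} : Set K) with hC
  have hCc : Nat.card C = 264 := by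
    rw [← hD]
    exact Nat.card_congr
      { toFun := fun c => ⟨(c.1 : G), Subgroup.mem_centralizer_singleton_iff.2
          (congrArg Subtype.val (Subgroup.mem_centralizer_singleton_iff.1 c.2)), c.1.2⟩
        invFun := fun c => ⟨⟨c.1, c.2.2⟩, Subgroup.mem_centralizer_singleton_iff.2
          (Subtype.ext (Subgroup.mem_centralizer_singleton_iff.1 c.2.1))⟩
        left_inv := fun _ => rfl
        right_inv := fun _ => rfl }
  have htop : C ⊔ O' = ⊤ := by
    refine eq_top_iff.2 fun g _ => ?_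
    obtain ⟨h, hh, hc⟩ := Eleven.frattini_isolated hiso g
    have := mul_mem (Subgroup.mem_sup_right hh : h ∈ C ⊔ O')
      (Subgroup.mem_sup_left (Subgroup.mem_centralizer_singleton_iff.2 hc.eq) : h⁻¹ * g ∈ C ⊔ O')
    rwa [mul_inv_cancel_left] at this
  have hAC : O' ⊓ C = Subgroup.zpowers aK := by
    refine le_antisymm (fun o ho => hfix o ho.1 (Subgroup.mem_centralizer_singleton_iff.1 ho.2)) ?_
    exact le_inf hAO (Subgroup.zpowers_le.2 (Subgroup.mem_centralizer_singleton_iff.2 (Subtype.ext P.az.eq)))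
  have hidx : O'.index = 24 := by
    have h1 : (O'.subgroupOf C).index = O'.index := by
      rw [← Subgroup.relIndex_top_right O', ← htop]
      exact (Subgroup.relIndex_sup_right (H := C) (K := O')).symm
    have h2 := Subgroup.card_mul_index (O'.subgroupOf C)
    rw [h1, hCc, ← Subgroup.inf_subgroupOf_right, hAC,
      Nat.card_congr (Subgroup.subgroupOfEquivOfLe (hAC ▸ inf_le_right : Subgroup.zpowers aK ≤ C)).toEquiv,
      Nat.card_zpowers, haK] at h2
    omega
  have hcardK : Nat.card K = Nat.card O' * 24 := by rw [← hidx, Subgroup.card_mul_index]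
  have hodd11 : ∀ y : K, y ^ 11 = 1 → y ∈ O' := by
    intro y hy
    have h24 : y ^ 24 ∈ O' := hidx ▸ Subgroup.pow_index_mem O' y
    have e : y = (y ^ 24) ^ 6 := by
      rw [← pow_mul, show 24 * 6 = 11 * 13 + 1 by norm_num, pow_succ, pow_mul, hy, one_pow, one_mul]
    rw [e]; exact Subgroup.pow_mem _ h24 _
  have hbKo : bK ^ 11 = 1 := Subtype.ext (by
    rw [SubmonoidClass.coe_pow]; exact P.bo ▸ pow_orderOf_eq_one b)
  have hbO : bK ∈ O' := hodd11 bK hbKo
  have hinv : ∀ o ∈ O', zK * o * zK⁻¹ * o ∈ Subgroup.zpowers aK := fun o ho =>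
    Eleven.invert_mod zK2 hOodd (fun o' ho' => hOn.conj_mem o' ho' zK) hacen hfix ho
  -- the odd core has order `1331`
  set CO := (O'.map K.subtype) ⊓ Subgroup.centralizer ({b} : Set G) with hCO
  set O := O'.map K.subtype with hO
  have hcardO : Nat.card O = Nat.card O' := Subgroup.card_map_of_injective (Subgroup.subtype_injective _)
  have hCOd : Nat.card CO ∣ 121 := by
    have h1 : Nat.card CO ∣ 242 := P.bcard ▸ Subgroup.card_dvd_of_le inf_le_right
    have h2 : Nat.card CO ∣ Nat.card O' := hcardO ▸ Subgroup.card_dvd_of_le inf_le_left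
    rw [show (242 : ℕ) = 2 * 121 by norm_num] at h1
    exact (Nat.coprime_two_right.2 (hOodd.of_dvd_nat h2)).dvd_of_dvd_mul_left h1
  have hbO' : b ∈ O := ⟨bK, hbO, rfl⟩
  set B := CO.subgroupOf O with hB
  have hBi : B.index ≤ 11 := by
    rw [Subgroup.index_eq_card]
    have hmem : ∀ q : O ⧸ B, (q.out : G) * b * (q.out : G)⁻¹ * b⁻¹ ∈ Subgroup.zpowers a := by
      intro q
      obtain ⟨o, ho, he⟩ := q.out.2
      obtain ⟨i, hi⟩ := Eleven.comm_mod hacen hinv ho hbO
      refine ⟨i, ?_⟩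
      have := congrArg Subtype.val (show aK ^ i = o * bK * o⁻¹ * bK⁻¹ from hi)
      rw [SubgroupClass.coe_zpow] at this
      rw [← he]; exact this
    let F : O ⧸ B → Subgroup.zpowers a := fun q => ⟨_, hmem q⟩
    have hF : Function.Injective F := by
      intro q q' e
      have e' : (q.out : G) * b * (q.out : G)⁻¹ = (q'.out : G) * b * (q'.out : G)⁻¹ :=
        mul_right_cancel (congrArg Subtype.val e)
      rw [← Quotient.out_eq' q, ← Quotient.out_eq' q']
      refine QuotientGroup.eq.2 (Subgroup.mem_subgroupOf.2 ⟨(q.out⁻¹ * q'.out).2, ?_⟩)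
      refine Subgroup.mem_centralizer_singleton_iff.2 (mul_inv_eq_iff_eq_mul.1 ?_)
      calc (q.out : G)⁻¹ * (q'.out : G) * b * ((q.out : G)⁻¹ * (q'.out : G))⁻¹ =
            (q.out : G)⁻¹ * ((q'.out : G) * b * (q'.out : G)⁻¹) * (q.out : G) := by group
        _ = b := by rw [← e']; group
    have := Nat.card_le_card_of_injective F hF
    rwa [Nat.card_zpowers, P.ao] at this
  have hO3 : Nat.card O = 11 ^ 3 := by
    have h := Subgroup.card_mul_index B
    rw [Nat.card_congr (Subgroup.subgroupOfEquivOfLe (inf_le_left : CO ≤ O)).toEquiv] at h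
    have h1331 : 1331 ∣ Nat.card O := by
      have := P.big
      rw [hcardK] at this
      rw [hcardO]
      exact (by norm_num : Nat.Coprime 1331 24).dvd_of_dvd_mul_right this
    have hle : Nat.card O ≤ 121 * 11 := h ▸ Nat.mul_le_mul (Nat.le_of_dvd (by norm_num) hCOd) hBi
    have := Nat.le_of_dvd Nat.card_pos h1331
    omega
  have hcardC : Nat.card K = 31944 := by rw [hcardK, ← hcardO, hO3]; norm_num
  have hOK : O ≤ K := Subgroup.map_subtype_le _
  have haO : a ∈ O := ⟨aK, hAO (Subgroup.mem_zpowers _), rfl⟩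
  have hnrm : ∀ c, Commute c a → ∀ o ∈ O, c * o * c⁻¹ ∈ O := by
    rintro c hc _ ⟨o, ho, rfl⟩
    exact ⟨_, hOn.conj_mem o ho ⟨c, Subgroup.mem_centralizer_singleton_iff.2 hc.eq⟩, rfl⟩
  obtain ⟨s, hs⟩ : ∃ s : O, s * ⟨b, hbO'⟩ ≠ ⟨b, hbO'⟩ * s := by
    by_contra hno
    push Not at hno
    have h := Subgroup.card_dvd_of_le (fun y hy => Subgroup.mem_centralizer_singleton_iff.2
      (congrArg Subtype.val (hno ⟨y, hy⟩)) : O ≤ Subgroup.centralizer ({b} : Set G))
    rw [hO3, P.bcard] at h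
    norm_num at h
  have hext := Eleven.cube_extraspecial hO3 hs
  have hcen : ∀ o ∈ O, (∀ o' ∈ O, Commute o o') → o ∈ Subgroup.zpowers a := by
    intro o ho hoc
    set aO : O := ⟨a, haO⟩
    have hA : Subgroup.zpowers aO = Subgroup.center O := by
      refine Subgroup.eq_of_le_of_card_ge (Subgroup.zpowers_le.2 (Subgroup.mem_center_iff.2 fun y =>
        Subtype.ext (Subgroup.mem_centralizer_singleton_iff.1 (hOK y.2)))) ?_
      rw [hext.2, Nat.card_zpowers, ← Subgroup.orderOf_coe]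
      exact P.ao.ge
    obtain ⟨i, hi⟩ : (⟨o, ho⟩ : O) ∈ Subgroup.zpowers aO := hA ▸ Subgroup.mem_center_iff.2 fun y =>
      Subtype.ext (hoc y y.2).symm.eq
    exact ⟨i, by
      have := congrArg Subtype.val (show aO ^ i = ⟨o, ho⟩ from hi)
      rwa [SubgroupClass.coe_zpow] at this⟩
  have hexp : ∀ o ∈ O, o ^ 11 = 1 := by
    rintro o ⟨oK, hoK, rfl⟩
    obtain ⟨i, hi⟩ := hinv oK hoK
    have hq : (oK : G) ^ 11 ∈ Subgroup.zpowers a := by
      have h := Solv.extraspecial_pow_mem_center hext ⟨(oK : G), oK, hoK, rfl⟩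
      exact hcen _ (Subgroup.pow_mem _ (show (oK : G) ∈ O from ⟨oK, hoK, rfl⟩) _) fun o' ho' =>
        (congrArg Subtype.val (Subgroup.mem_center_iff.1 h ⟨o', ho'⟩)).symm
    obtain ⟨j, hj⟩ := hq
    have hzj : zK * oK ^ 11 * zK⁻¹ = oK ^ 11 := by
      refine mul_inv_eq_iff_eq_mul.2 (Subtype.ext ?_)
      show z * (oK : G) ^ 11 = (oK : G) ^ 11 * z
      rw [← show a ^ j = (oK : G) ^ 11 from hj]
      exact (P.az.zpow_left j).symm.eq
    have e1 : (zK * oK * zK⁻¹) ^ 11 * oK ^ 11 = 1 := by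
      have e2 : zK * oK * zK⁻¹ = aK ^ i * oK⁻¹ := by rw [show aK ^ i = _ from hi]; group
      rw [e2, (hacen _ ⟨i, rfl⟩ oK⁻¹).mul_pow, ← zpow_natCast, ← zpow_mul, mul_comm i, zpow_mul, zpow_natCast,
        show aK ^ 11 = 1 from haK ▸ pow_orderOf_eq_one aK, one_zpow, one_mul, inv_pow, inv_mul_cancel]
    rw [conj_pow, hzj] at e1
    have h2 : ((oK : G) ^ 11) ^ 2 = 1 := by
      rw [pow_two]; exact congrArg Subtype.val e1
    have hodd : Odd (orderOf ((oK : G) ^ 11)) := by
      refine (hOodd.of_dvd_nat ?_)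
      rw [← SubmonoidClass.coe_pow, Subgroup.orderOf_coe]
      exact Subgroup.orderOf_dvd_natCard O' (Subgroup.pow_mem _ hoK _)
    have h3 := pow_gcd_eq_one.2 ⟨h2, pow_orderOf_eq_one ((oK : G) ^ 11)⟩
    rwa [(Nat.coprime_two_left.2 hodd).gcd_eq_one, pow_one] at h3
  refine ⟨O, hOK, hO3, haO, hbO', hnrm, hext, hexp, hcen, hcardC, ?_⟩
  -- the stabiliser of the line of `b`
  set NB := Subgroup.normalizer (Subgroup.zpowers b : Set G) ⊓ K with hNB
  have hNBc : Nat.card NB ≤ 242 := by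
    set χ : NB →* MulAut (Subgroup.zpowers b) :=
      (Subgroup.zpowers b).normalizerMonoidHom.comp (Subgroup.inclusion inf_le_left) with hχ
    have hk : ∀ c : NB, χ c = 1 → Commute (c : G) b := by
      intro c hc
      have h : Subgroup.inclusion (inf_le_left : NB ≤ _) c ∈ (Subgroup.zpowers b).normalizerMonoidHom.ker := hc
      rw [Subgroup.normalizerMonoidHom_ker] at h
      exact (Subgroup.mem_centralizer_iff.1 (Subgroup.mem_subgroupOf.1 h) b (Subgroup.mem_zpowers b)).symm
    have hker : Nat.card χ.ker ∣ 121 := by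
      have h1 : Nat.card χ.ker = Nat.card (χ.ker.map NB.subtype) :=
        (Subgroup.card_map_of_injective (Subgroup.subtype_injective _)).symm
      set KE := χ.ker.map NB.subtype with hKE
      rw [h1]
      have hle : KE ≤ Subgroup.centralizer ({b} : Set G) := by
        rintro _ ⟨c, hc, rfl⟩
        exact Subgroup.mem_centralizer_singleton_iff.2 (hk c hc).eq
      have h242 := P.bcard ▸ Subgroup.card_dvd_of_le hle
      rw [show (242 : ℕ) = 2 * 121 by norm_num] at h242
      refine (Nat.Coprime.symm ?_).dvd_of_dvd_mul_left h242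
      refine (Nat.Prime.coprime_iff_not_dvd Nat.prime_two).2 fun h2 => ?_
      haveI : Fact (Nat.Prime 2) := ⟨Nat.prime_two⟩
      obtain ⟨i, hi⟩ := exists_prime_orderOf_dvd_card' (G := KE) 2 h2
      obtain ⟨c, hcχ, hci⟩ := i.2
      set iK : K := ⟨(i : G), hci ▸ c.2.2⟩
      have hio : orderOf iK = 2 := by
        rw [← Subgroup.orderOf_coe]
        show orderOf (i : G) = 2
        rw [Subgroup.orderOf_coe, hi]
      -- an involution of the centraliser is a conjugate of `z`
      obtain ⟨g, hg⟩ : ∃ g : K, g * iK * g⁻¹ = zK := by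
        have h8 : Nat.card QA = 8 := hQ8
        set R := QA.subgroupOf K with hR
        have hRc : Nat.card R = 2 ^ 3 := by
          rw [Nat.card_congr (Subgroup.subgroupOfEquivOfLe (inf_le_right : QA ≤ K)).toEquiv, h8]; norm_num
        have hfac : (Nat.card K).factorization 2 = 3 := by
          rw [hcardC, Nat.factorization_def _ Nat.prime_two, show (31944 : ℕ) = 2 ^ 3 * 3993 by norm_num,
            padicValNat.mul (by norm_num) (by norm_num), padicValNat.prime_pow,
            padicValNat.eq_zero_of_not_dvd (by norm_num)]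
        let SR : Sylow 2 K := Sylow.ofCard R (by rw [hRc, hfac])
        obtain ⟨T, hT⟩ := (IsPGroup.of_card (n := 1) (by rw [Nat.card_zpowers, hio, pow_one]) :
          IsPGroup 2 (Subgroup.zpowers iK)).exists_le_sylow
        obtain ⟨g, hgT⟩ := MulAction.exists_smul_eq K T SR
        refine ⟨g, ?_⟩
        have hmem : g * iK * g⁻¹ ∈ R := by
          have : MulAut.conj g • iK ∈ (g • T : Sylow 2 K) :=
            Subgroup.smul_mem_pointwise_smul _ (MulAut.conj g) _ (hT (Subgroup.mem_zpowers iK))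
          rw [hgT] at this
          exact this
        have hmem' : ((g * iK * g⁻¹ : K) : G) ∈ QA := Subgroup.mem_subgroupOf.1 hmem
        have i2 : iK * iK = 1 := by rw [← pow_two, ← hio]; exact pow_orderOf_eq_one iK
        rcases (S.fix_eleven f P.ao P.az).2 _ hmem'.1 (Subgroup.mem_centralizer_singleton_iff.1 hmem'.2)
          (congrArg Subtype.val (show g * iK * g⁻¹ * (g * iK * g⁻¹) = 1 by
            rw [conj_mul, i2, mul_one, mul_inv_cancel])) with h | h
        · exfalso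
          rw [conj_eq_one_iff.1 (Subtype.ext h : g * iK * g⁻¹ = 1), orderOf_one] at hio
          norm_num at hio
        · exact Subtype.ext h
      have hib : Commute iK bK := Subtype.ext (by
        show (i : G) * b = b * (i : G)
        rw [← hci]; exact (hk c hcχ).eq)
      have hzb : Commute zK (g * bK * g⁻¹) := hg ▸ (Commute.conj_iff g).2 hib
      obtain ⟨j, hj⟩ := hfix _ (hOn.conj_mem bK hbO g) hzb.symm
      refine P.bA ⟨j, ?_⟩
      have e : bK = aK ^ j := by
        calc bK = g⁻¹ * (g * bK * g⁻¹) * g := by group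
          _ = g⁻¹ * aK ^ j * g := by rw [show aK ^ j = _ from hj]
          _ = aK ^ j := by rw [← (hacen _ ⟨j, rfl⟩ g⁻¹).eq, inv_mul_cancel_right]
      have := congrArg Subtype.val e
      rw [SubgroupClass.coe_zpow] at this
      exact this.symm
    have hr10 : Nat.card χ.range ∣ 10 := by
      have := Subgroup.card_subgroup_dvd_card χ.range
      rwa [IsCyclic.card_mulAut, Nat.card_zpowers, P.bo, Nat.totient_prime (by norm_num)] at this
    have hNK : Nat.card χ.range ∣ 31944 := by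
      refine (Subgroup.card_range_dvd χ).trans ?_
      exact hcardC ▸ Subgroup.card_dvd_of_le inf_le_right
    have hr2 : Nat.card χ.range ≤ 2 := Nat.le_of_dvd (by norm_num) ((Nat.dvd_gcd hr10 hNK).trans (by norm_num))
    rw [Subgroup.card_eq_card_quotient_mul_card_subgroup χ.ker,
      Nat.card_congr (QuotientGroup.quotientKerEquivRange χ).toEquiv]
    exact (Nat.mul_le_mul hr2 (Nat.le_of_dvd (by norm_num) hker)).trans (by norm_num)
  -- the count
  let A' := Subgroup.zpowers a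
  let X : Set G := (O : Set G) \ (A' : Set G)
  have hb1 : b ≠ 1 := fun e => by have := P.bo; rw [e, orderOf_one] at this; norm_num at this
  have hb11 : b ^ 11 = 1 := P.bo ▸ pow_orderOf_eq_one b
  have hXc : X.ncard = 1320 := by
    rw [Set.ncard_sdiff (Subgroup.zpowers_le.2 haO : A' ≤ O)]
    rw [← Nat.card_coe_set_eq, ← Nat.card_coe_set_eq]
    show Nat.card O - Nat.card A' = 1320
    rw [hO3, Nat.card_zpowers, P.ao]
    norm_num
  let Φ : K × Fin 10 → G := fun p => (p.1 : G) * b ^ ((p.2 : ℕ) + 1) * (p.1 : G)⁻¹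
  have hpne : ∀ j : Fin 10, b ^ ((j : ℕ) + 1) ≠ 1 := fun j h => by
    have := orderOf_dvd_of_pow_eq_one h
    rw [P.bo] at this
    have := Nat.le_of_dvd (by omega) this
    have := j.isLt
    omega
  have hΦX : Set.range Φ ⊆ X := by
    rintro _ ⟨p, rfl⟩
    refine ⟨hnrm _ (Subgroup.mem_centralizer_singleton_iff.1 p.1.2) _ (Subgroup.pow_mem _ hbO' _), fun h => ?_⟩
    have hb' : b ^ ((p.2 : ℕ) + 1) ∈ A' := by
      obtain ⟨i, hi⟩ := h
      refine ⟨i, ?_⟩
      have hc : Commute (p.1 : G) (a ^ i) :=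
        (show Commute (p.1 : G) a from Subgroup.mem_centralizer_singleton_iff.1 p.1.2).zpow_right i
      calc a ^ i = (p.1 : G)⁻¹ * (a ^ i) * (p.1 : G) := by rw [← hc.inv_left.symm.eq, inv_mul_cancel_right]
        _ = _ := by rw [show a ^ i = (p.1 : G) * b ^ ((p.2 : ℕ) + 1) * (p.1 : G)⁻¹ from hi]; group
    obtain ⟨i, hi⟩ := zpowers_gen (q := 11) hb11 (Subgroup.pow_mem _ (Subgroup.mem_zpowers b) _) (hpne p.2)
    exact P.bA (hi ▸ Subgroup.zpow_mem _ hb' i)
  have hfib : ∀ y, Nat.card {p : K × Fin 10 // Φ p = y} ≤ 242 := by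
    intro y
    rcases isEmpty_or_nonempty {p : K × Fin 10 // Φ p = y} with h | ⟨⟨p₀, hp₀⟩⟩
    · simp
    refine le_trans ?_ hNBc
    have key : ∀ p : {p : K × Fin 10 // Φ p = y}, (p₀.1 : G)⁻¹ * (p.1.1 : G) ∈ NB := by
      rintro ⟨p, hp⟩
      refine ⟨?_, Subgroup.mul_mem _ (Subgroup.inv_mem _ p₀.1.2) p.1.2⟩
      set c := (p₀.1 : G)⁻¹ * (p.1 : G) with hc
      have e : c * b ^ ((p.2 : ℕ) + 1) * c⁻¹ = b ^ ((p₀.2 : ℕ) + 1) := by
        have e' : (p.1 : G) * b ^ ((p.2 : ℕ) + 1) * (p.1 : G)⁻¹ =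
            (p₀.1 : G) * b ^ ((p₀.2 : ℕ) + 1) * (p₀.1 : G)⁻¹ := hp.trans hp₀.symm
        calc c * b ^ ((p.2 : ℕ) + 1) * c⁻¹ =
              (p₀.1 : G)⁻¹ * ((p.1 : G) * b ^ ((p.2 : ℕ) + 1) * (p.1 : G)⁻¹) * (p₀.1 : G) := by rw [hc]; group
          _ = _ := by rw [e']; group
      obtain ⟨i, hi⟩ := zpowers_gen (q := 11) hb11 (Subgroup.pow_mem _ (Subgroup.mem_zpowers b) _) (hpne p.2)
      refine Subgroup.mem_normalizer_fintype ?_
      rintro _ ⟨j, rfl⟩
      show c * b ^ j * c⁻¹ ∈ (Subgroup.zpowers b : Set G)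
      rw [show b ^ j = (b ^ ((p.2 : ℕ) + 1)) ^ (i * j) by rw [zpow_mul]; exact congrArg (· ^ j) hi.symm,
        ← conj_zpow, e]
      exact Subgroup.zpow_mem _ (Subgroup.pow_mem _ (Subgroup.mem_zpowers b) _) (i * j)
    refine Nat.card_le_card_of_injective (fun p => (⟨_, key p⟩ : NB)) ?_
    rintro ⟨p, hp⟩ ⟨p', hp'⟩ e
    have e1 : (p.1 : G) = p'.1 := mul_left_cancel (congrArg Subtype.val e)
    have e2 : b ^ ((p.2 : ℕ) + 1) = b ^ ((p'.2 : ℕ) + 1) := by
      have h : (p.1 : G) * b ^ ((p.2 : ℕ) + 1) * (p.1 : G)⁻¹ = (p'.1 : G) * b ^ ((p'.2 : ℕ) + 1) * (p'.1 : G)⁻¹ :=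
        hp.trans hp'.symm
      rw [e1] at h
      exact mul_left_cancel (mul_right_cancel h)
    have e3 : p.2 = p'.2 := by
      have h := pow_eq_pow_iff_modEq.1 e2
      rw [P.bo] at h
      have := p.2.isLt
      have := p'.2.isLt
      exact Fin.ext (by unfold Nat.ModEq at h; omega)
    exact Subtype.ext (Prod.ext (Subtype.ext e1) e3)
  have hlow : 31944 * 10 ≤ (Set.range Φ).ncard * 242 := by
    haveI := Fintype.ofFinite (Set.range Φ)
    have e : Nat.card (K × Fin 10) = ∑ y : Set.range Φ, Nat.card {p : K × Fin 10 // Set.rangeFactorization Φ p = y} := by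
      rw [← Nat.card_sigma]
      exact Nat.card_congr (Equiv.sigmaFiberEquiv _).symm
    rw [Nat.card_prod, hcardC, Nat.card_fin] at e
    rw [e]
    refine (Finset.sum_le_card_nsmul _ _ 242 fun y _ => ?_).trans_eq ?_
    · refine le_trans (le_of_eq (Nat.card_congr (Equiv.subtypeEquivRight fun p => ?_))) (hfib y.1)
      exact Subtype.ext_iff
    · rw [smul_eq_mul, Finset.card_univ, ← Nat.card_eq_fintype_card, Nat.card_coe_set_eq]
  have hEq : Set.range Φ = X := Set.eq_of_subset_of_ncard_le hΦX (by omega) (Set.toFinite _)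
  intro y hy hya
  obtain ⟨⟨c, j⟩, hp⟩ : y ∈ Set.range Φ := hEq.symm ▸ (show y ∈ X from ⟨hy, hya⟩)
  obtain ⟨d, hd⟩ := P.bpow ((j : ℕ) + 1) (fun h => by
    have := Nat.le_of_dvd (by omega) h
    have := j.isLt
    omega)
  exact (isConj_iff.2 ⟨d, hd⟩).trans (isConj_iff.2 ⟨(c : G), hp⟩)

end Cfsg.Agent.Spor.JFour
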