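import Cfsg.Agent.Lib.Spor.JFourEleven.Stab

/-!
The centraliser of an element of order eleven centralising an involution of the second class has order `242`.
-/

set_option autoImplicit false

namespace Cfsg.Agent.Spor.JFour.Eleven

universe u

variable {G : Type u} [Group G] [Finite G]

/-- the centraliser of `b` -/
structure CentB (V : Subgroup G) (t b g w : G) : Prop where
  card : Nat.card (Subgroup.centralizer ({b} : Set G)) = 242
  gM : g ∈ Subgroup.normalizer (V : Set G)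
  g2 : g * g = 1
  g1 : g ≠ 1
  gb : g * b * g⁻¹ = b⁻¹
  gt : Commute g t
  wo : orderOf w = 11
  wB : w ∉ Subgroup.zpowers b
  wb : Commute w b
  gw : Commute g w
  tw : t * w * t⁻¹ = w⁻¹
  mem : ∀ c, Commute c b → Odd (orderOf c) → c ∈ Subgroup.zpowers b ⊔ Subgroup.zpowers w

variable {V : Subgroup G} {t b : G} {π : ↥(Subgroup.normalizer (V : Set G)) →* Cfsg.M24}
variable (X : Ctx V t b π)

include X

theorem Ctx.cent_b : ∃ g w, CentB V t b g w := by
  classical
  haveI : Fact (Nat.Prime 11) := ⟨by norm_num⟩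
  obtain ⟨O, hOb, hOodd, hbO, hcard, hOm, hinv, hcommB⟩ := X.odd_part
  set B := Subgroup.zpowers b with hB
  have hbo := X.bo
  have hcb : ∀ {c}, c ∈ O → Commute c b := fun hc => Subgroup.mem_centralizer_singleton_iff.1 (hOb hc)
  have hBc : ∀ {c β}, Commute c b → β ∈ B → Commute c β := by
    rintro c _ hc ⟨i, rfl⟩
    exact hc.zpow_right i
  have hoO : ∀ o ∈ O, Odd (orderOf o) := fun o ho => hOodd.of_dvd_nat (Subgroup.orderOf_dvd_natCard O ho)
  have hBO : B ≤ O := Subgroup.zpowers_le.2 hbO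
  -- the Sylow subgroup
  obtain ⟨P, hPO, hPc⟩ := Solv.exists_isSylIn 11 O
  have hPp : IsPGroup 11 P := IsPGroup.of_card hPc
  have hmax : ∀ R : Subgroup G, IsPGroup 11 R → P ≤ R → R ≤ O → R ≤ P := by
    intro R hR h1 h2
    obtain ⟨i, hi⟩ := hR.exists_card_eq
    refine (Subgroup.eq_of_le_of_card_ge h1 ?_).ge
    rw [hi, hPc]
    refine Nat.pow_le_pow_right (by norm_num) ?_
    exact ((by norm_num : Nat.Prime 11).pow_dvd_iff_le_factorization Nat.card_pos.ne').1 (hi ▸ Subgroup.card_dvd_of_le h2)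
  have hBp : IsPGroup 11 B := IsPGroup.of_card (n := 1) (by rw [hB, Nat.card_zpowers, hbo, pow_one])
  have hBP : B ≤ P := by
    have h := hBp.to_sup_of_normal_left' hPp (fun p hp => by
      refine Subgroup.mem_normalizer_fintype fun β hβ => ?_
      rw [SetLike.mem_coe] at hβ ⊢
      rw [(hBc (hcb (hPO hp)) hβ).eq, mul_inv_cancel_right]
      exact hβ)
    exact le_sup_left.trans (hmax _ h le_sup_right (sup_le hBO hPO))
  have hPn : ∀ o ∈ O, ∀ p ∈ P, o * p * o⁻¹ ∈ P := fun o ho p hp => by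
    have := mul_mem (hBP (hcommB o ho p (hPO hp))) hp
    rwa [inv_mul_cancel_right] at this
  have hPall : ∀ y ∈ O, ∀ k : ℕ, y ^ 11 ^ k = 1 → y ∈ P := by
    intro y hy k hk
    obtain ⟨i, -, hi⟩ := (Nat.dvd_prime_pow (by norm_num : Nat.Prime 11)).1 (orderOf_dvd_of_pow_eq_one hk)
    have hY : IsPGroup 11 (Subgroup.zpowers y) := IsPGroup.of_card (n := i) (by rw [Nat.card_zpowers, hi])
    have h := hY.to_sup_of_normal_right' hPp (Subgroup.zpowers_le.2 (Subgroup.mem_normalizer_fintype (hPn y hy)))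
    exact hmax _ h le_sup_right (sup_le (Subgroup.zpowers_le.2 hy) hPO) (Subgroup.mem_sup_left (Subgroup.mem_zpowers y))
  -- the Sylow subgroup is large
  have h121 : 121 ≤ Nat.card P := by
    obtain ⟨S, hS⟩ := (hBp).exists_le_sylow
    have hScard : Nat.card (S : Subgroup G) = 11 ^ 3 := by
      rw [S.card_eq_multiplicity, X.cardG]
      congr 1
      rw [Nat.factorization_def _ (by norm_num : Nat.Prime 11),
        show (86775571046077562880 : ℕ) = 11 ^ 3 * 65195770883604480 by norm_num,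
        padicValNat.mul (by norm_num) (by norm_num), padicValNat.prime_pow,
        padicValNat.eq_zero_of_not_dvd (by norm_num)]
    set CS := (S : Subgroup G) ⊓ Subgroup.centralizer ({b} : Set G) with hCS
    obtain ⟨i, hi3, hi⟩ := (Nat.dvd_prime_pow (by norm_num : Nat.Prime 11)).1
      (hScard ▸ Subgroup.card_dvd_of_le (inf_le_left : CS ≤ (S : Subgroup G)))
    have hi2 : 2 ≤ i := by
      by_contra hlt
      have hbS : b ∈ (S : Subgroup G) := hS (Subgroup.mem_zpowers b)
      haveI : Nontrivial (S : Subgroup G) := Finite.one_lt_card_iff_nontrivial.1 (by rw [hScard]; norm_num)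
      haveI := S.2.center_nontrivial
      obtain ⟨c, hc⟩ := exists_ne (1 : Subgroup.center (S : Subgroup G))
      have hcCS : ((c : (S : Subgroup G)) : G) ∈ CS := ⟨(c : (S : Subgroup G)).2,
        Subgroup.mem_centralizer_singleton_iff.2
          (congrArg Subtype.val (Subgroup.mem_center_iff.1 c.2 ⟨b, hbS⟩)).symm⟩
      have hBCS : B ≤ CS := Subgroup.zpowers_le.2 ⟨hbS, Subgroup.mem_centralizer_singleton_iff.2 rfl⟩
      have hEq : B = CS := by
        refine Subgroup.eq_of_le_of_card_ge hBCS ?_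
        rw [hi, hB, Nat.card_zpowers, hbo]
        exact (Nat.pow_le_pow_right (by norm_num) (by omega : i ≤ 1)).trans_eq (pow_one 11)
      obtain ⟨j, hj⟩ := hEq ▸ hcCS
      have hgen : b ∈ Subgroup.zpowers ((c : (S : Subgroup G)) : G) := by
        have hc1 : ((c : (S : Subgroup G)) : G) ≠ 1 := fun e => hc (Subtype.ext (Subtype.ext e))
        have ho : orderOf ((c : (S : Subgroup G)) : G) = 11 := by
          have := Subgroup.orderOf_dvd_natCard B (hEq ▸ hcCS)
          rw [hB, Nat.card_zpowers, hbo] at this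
          exact ((Nat.dvd_prime (by norm_num)).1 this).resolve_left fun h => hc1 (orderOf_eq_one_iff.1 h)
        rw [Subgroup.eq_of_le_of_card_ge (Subgroup.zpowers_le.2 (hEq ▸ hcCS) : Subgroup.zpowers _ ≤ B)
          (by rw [hB, Nat.card_zpowers, Nat.card_zpowers, hbo, ho])]
        exact Subgroup.mem_zpowers b
      have hall : (S : Subgroup G) ≤ CS := fun y hy => ⟨hy, Subgroup.mem_centralizer_singleton_iff.2 (by
        obtain ⟨k, hk⟩ := hgen
        have h := congrArg Subtype.val (Subgroup.mem_center_iff.1 c.2 ⟨y, hy⟩)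
        rw [← show ((c : (S : Subgroup G)) : G) ^ k = b from hk]
        exact ((show Commute y ((c : (S : Subgroup G)) : G) from h).zpow_right k).eq)⟩
      have := Subgroup.card_le_of_le hall
      rw [hScard, hi] at this
      exact absurd ((Nat.pow_le_pow_iff_right (by norm_num)).1 this) (by omega)
    have hd : 11 ^ 2 ∣ 2 * Nat.card O :=
      hcard ▸ (pow_dvd_pow 11 hi2).trans (hi ▸ Subgroup.card_dvd_of_le inf_le_right)
    have hd' : 11 ^ 2 ∣ Nat.card O := (Nat.Coprime.dvd_of_dvd_mul_left (by norm_num) hd)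
    rw [hPc, show (121 : ℕ) = 11 ^ 2 by norm_num]
    exact Nat.pow_le_pow_right (by norm_num)
      (((by norm_num : Nat.Prime 11).pow_dvd_iff_le_factorization Nat.card_pos.ne').1 hd')
  obtain ⟨s₀, hs₀, hs₀B⟩ : ∃ s ∈ P, s ∉ B := by
    by_contra hno
    push Not at hno
    have := Subgroup.card_le_of_le (show P ≤ B from hno)
    rw [hB, Nat.card_zpowers, hbo] at this
    omega
  have hstabP : ∀ s ∈ P, s ∉ B → ∃ g ∈ Subgroup.normalizer (V : Set G), g * g = 1 ∧ g * b * g⁻¹ = b⁻¹ ∧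
      g * s * g⁻¹ * s⁻¹ ∈ B := by
    intro s hs hsB
    obtain ⟨k, hk⟩ := hPp ⟨s, hs⟩
    exact X.stab hOb hOm hOodd hinv (hPO hs) hsB (m := 1) (l := k) (by rw [pow_one]; exact hsB)
      (by rw [pow_one]; exact congrArg Subtype.val hk)
  obtain ⟨g, hgM, hg2, hgb, hgs₀⟩ := hstabP s₀ hs₀ hs₀B
  have hb2 : b⁻¹ ≠ b := fun e => by
    have h2 : b ^ 2 = 1 := by
      rw [pow_two]
      calc b * b = b⁻¹ * b := by rw [e]
        _ = 1 := inv_mul_cancel b
    have := orderOf_dvd_of_pow_eq_one h2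
    rw [hbo] at this
    norm_num at this
  have hg1 : g ≠ 1 := fun e => hb2 (by rw [← hgb, e]; group)
  have hgi : g⁻¹ = g := inv_eq_of_mul_eq_one_right hg2
  have hsq := X.sq
  have hgt : Commute g t := by
    have h1 : g * t * g⁻¹ ∈ V := (Subgroup.mem_normalizer_iff.1 hgM t).1 X.tV
    have h2 : Commute (g * t * g⁻¹) t := by
      have h3 := inv_eq_of_mul_eq_one_right (hsq _ (mul_mem h1 X.tV))
      rw [mul_inv_rev, inv_eq_of_mul_eq_one_right X.t2, inv_eq_of_mul_eq_one_right (hsq _ h1)] at h3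
      exact h3.symm
    have h3 : Commute (g * t * g⁻¹) b := by
      have h4 := (Commute.conj_iff g).2 X.bt.symm
      rw [hgb] at h4
      exact Commute.inv_right_iff.1 h4
    rcases X.invol_mem h2 h3 (hsq _ h1) with e | e
    · exact absurd (conj_eq_one_iff.1 e) X.t1
    · exact mul_inv_eq_iff_eq_mul.1 e
  -- congruence modulo `b`
  have hgB : ∀ β ∈ B, g * β * g⁻¹ ∈ B := by
    rintro _ ⟨i, rfl⟩
    exact ⟨-i, by show b ^ (-i) = g * b ^ i * g⁻¹; rw [← conj_zpow, hgb, inv_zpow, zpow_neg]⟩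
  have hgO : ∀ o ∈ O, g * o * g⁻¹ ∈ O := fun o ho =>
    hOm _ (X.b_mem_of_conj (hgb ▸ inv_mem (Subgroup.mem_zpowers b)) (hcb ho)) (by
      rw [← MulAut.conj_apply, show orderOf (MulAut.conj g o) = orderOf o from
        orderOf_injective (MulAut.conj g).toMonoidHom (MulAut.conj g).injective o]
      exact hoO o ho)
  have htb : Commute t b := X.bt.symm
  have htB : ∀ β ∈ B, t * β * t⁻¹ = β := fun β hβ => by rw [(hBc htb hβ).eq, mul_inv_cancel_right]
  have hdich : ∀ g' ∈ Subgroup.normalizer (V : Set G), g' * b * g'⁻¹ = b⁻¹ → ∀ o ∈ O,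
      g' * o * g'⁻¹ * o⁻¹ ∈ B → g * o * g⁻¹ * o⁻¹ ∈ B ∨ g * o * g⁻¹ * o ∈ B := by
    intro g' hg'M hg'b o ho hfix
    set c := g' * g with hc
    have hcb' : Commute c b := by
      refine mul_inv_eq_iff_eq_mul.1 ?_
      rw [hc, show g' * g * b * (g' * g)⁻¹ = g' * (g * b * g⁻¹) * g'⁻¹ by group, hgb, ← conj_inv, hg'b, inv_inv]
    have hcM : c ∈ Subgroup.normalizer (V : Set G) := mul_mem hg'M hgM
    set D := Subgroup.normalizer (V : Set G) ⊓ Subgroup.centralizer ({b} : Set G) with hD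
    have hbD : b ∈ D := ⟨X.bM, Subgroup.mem_centralizer_singleton_iff.2 rfl⟩
    set BD := B.subgroupOf D with hBD
    have hBi : BD.index = 2 := by
      have h := Subgroup.card_mul_index BD
      rw [Nat.card_congr (Subgroup.subgroupOfEquivOfLe (show B ≤ D from Subgroup.zpowers_le.2 hbD)).toEquiv, hB,
        Nat.card_zpowers, hbo, show Nat.card D = 22 from X.cb] at h
      omega
    have hcD : c ∈ D := ⟨hcM, Subgroup.mem_centralizer_singleton_iff.2 hcb'.eq⟩
    have htD : t ∈ D := ⟨Subgroup.le_normalizer X.tV, Subgroup.mem_centralizer_singleton_iff.2 htb.eq⟩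
    have hogb : Commute (g * o * g⁻¹) b := hcb (hgO o ho)
    have hg' : g' = c * g := by rw [hc, mul_assoc, hg2, mul_one]
    have e : g' * o * g'⁻¹ = c * (g * o * g⁻¹) * c⁻¹ := by rw [hg']; group
    by_cases hcB : c ∈ B
    · left
      rw [← show g' * o * g'⁻¹ = g * o * g⁻¹ by rw [e, ← (hBc hogb hcB).eq, mul_inv_cancel_right]]
      exact hfix
    · right
      have htB' : t ∉ B := fun h => X.t1 (by
        have h11 := orderOf_dvd_iff_pow_eq_one.1 (show orderOf t ∣ 11 by
          have := Subgroup.orderOf_dvd_natCard B h; rwa [hB, Nat.card_zpowers, hbo] at this)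
        have := pow_gcd_eq_one.2 ⟨(by rw [pow_two, X.t2] : t ^ 2 = 1), h11⟩
        rwa [show Nat.gcd 2 11 = 1 from rfl, pow_one] at this)
      have h3 : (⟨c, hcD⟩ : D) * ⟨t, htD⟩ ∈ BD := by
        rw [Subgroup.mul_mem_iff_of_index_two hBi]
        exact iff_of_false (fun h' => hcB (Subgroup.mem_subgroupOf.1 h')) (fun h' => htB' (Subgroup.mem_subgroupOf.1 h'))
      have h4 : c * t ∈ B := Subgroup.mem_subgroupOf.1 h3
      have e2 : g' * o * g'⁻¹ = t * (g * o * g⁻¹) * t⁻¹ := by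
        rw [e]
        have hc' : c = (c * t) * t := by rw [mul_assoc, X.t2, mul_one]
        have hto : Commute (t * (g * o * g⁻¹) * t⁻¹) b := by
          have := (Commute.conj_iff t).2 hogb
          rwa [htb.eq, mul_inv_cancel_right] at this
        conv_lhs => rw [hc']
        calc (c * t) * t * (g * o * g⁻¹) * ((c * t) * t)⁻¹
            = (c * t) * (t * (g * o * g⁻¹) * t⁻¹) * (c * t)⁻¹ := by group
          _ = t * (g * o * g⁻¹) * t⁻¹ := by rw [← (hBc hto h4).eq, mul_inv_cancel_right]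
      set og := g * o * g⁻¹ with hog
      have h5 := hinv og (hgO o ho)
      rw [← e2] at h5
      have hoo : Commute o (g' * o * g'⁻¹ * o⁻¹) := hBc (hcb ho) hfix
      have h7 := mul_mem (inv_mem hfix) h5
      have e7 : (g' * o * g'⁻¹ * o⁻¹)⁻¹ * (g' * o * g'⁻¹ * og) = o * og := by
        generalize g' * o * g'⁻¹ = x
        group
      rw [e7] at h7
      have h9 : og * o = o⁻¹ * (o * og) * o := by group
      rw [h9, ← ((hBc (hcb ho) h7).inv_left).symm.eq]
      simpa [mul_assoc] using h7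
  -- one of the two alternatives for the whole Sylow subgroup
  have hcong : ∀ {x β}, Commute x b → β ∈ B → x * β = β * x := fun hx hβ => (hBc hx hβ).eq
  have hP1 : ∀ p ∈ P, g * p * g⁻¹ * p⁻¹ ∈ B := by
    have hnoA : ∀ s ∈ P, g * s * g⁻¹ * s ∈ B → g * s * g⁻¹ * s⁻¹ ∈ B → s ∈ B := by
      intro s hs hA hR
      have h := mul_mem (inv_mem hR) hA
      rw [show (g * s * g⁻¹ * s⁻¹)⁻¹ * (g * s * g⁻¹ * s) = s * s by group] at h
      obtain ⟨n, hn⟩ := hoO s (hPO hs)
      have e : s = (s * s) ^ (n + 1) := by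
        rw [← pow_two, ← pow_mul, show 2 * (n + 1) = 2 * n + 1 + 1 by ring, pow_succ _ (2 * n + 1), ← hn,
          pow_orderOf_eq_one, one_mul]
      exact e ▸ Subgroup.pow_mem _ h _
    intro p hp
    by_cases hpB : p ∈ B
    · exact mul_mem (hgB p hpB) (inv_mem hpB)
    obtain ⟨g', hg'M, -, hg'b, hfix⟩ := hstabP p hp hpB
    refine (hdich g' hg'M hg'b p (hPO hp) hfix).resolve_right fun hA => ?_
    -- the product
    obtain ⟨i, hi⟩ := hgs₀
    obtain ⟨j, hj⟩ := hA
    have e0 : g * s₀ * g⁻¹ = b ^ i * s₀ := by rw [show b ^ i = _ from hi, inv_mul_cancel_right]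
    have ep : g * p * g⁻¹ = b ^ j * p⁻¹ := by rw [show b ^ j = _ from hj, mul_inv_cancel_right]
    set q := s₀ * p with hq
    have hqP : q ∈ P := mul_mem hs₀ hp
    have hbj : b ^ j ∈ B := ⟨j, rfl⟩
    have hbi : b ^ i ∈ B := ⟨i, rfl⟩
    have eq' : g * q * g⁻¹ = b ^ i * b ^ j * (s₀ * p⁻¹) := by
      rw [hq, show g * (s₀ * p) * g⁻¹ = (g * s₀ * g⁻¹) * (g * p * g⁻¹) by group, e0, ep,
        mul_assoc (b ^ i), ← mul_assoc s₀, hcong (hcb (hPO hs₀)) hbj]
      group
    have hij : b ^ i * b ^ j ∈ B := mul_mem hbi hbj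
    have hcp : s₀ * p * s₀⁻¹ * p⁻¹ ∈ B := hcommB s₀ (hPO hs₀) p (hPO hp)
    have hR0 : g * s₀ * g⁻¹ * s₀⁻¹ ∈ B := ⟨i, hi⟩
    have hAp : g * p * g⁻¹ * p ∈ B := ⟨j, hj⟩
    have hsquare : ∀ y ∈ P, y * y ∈ B → y ∈ B := by
      intro y hy h
      obtain ⟨n, hn⟩ := hoO y (hPO hy)
      have e : y = (y * y) ^ (n + 1) := by
        rw [← pow_two, ← pow_mul, show 2 * (n + 1) = 2 * n + 1 + 1 by ring, pow_succ _ (2 * n + 1), ← hn,
          pow_orderOf_eq_one, one_mul]
      exact e ▸ Subgroup.pow_mem _ h _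
    by_cases hqB : q ∈ B
    · refine hpB (hnoA p hp hAp ?_)
      have h1 : p = s₀⁻¹ * q := by rw [hq, inv_mul_cancel_left]
      have e2 : g * p * g⁻¹ = s₀⁻¹ * ((b ^ i)⁻¹ * (g * q * g⁻¹)) := by
        rw [h1, show g * (s₀⁻¹ * q) * g⁻¹ = (g * s₀ * g⁻¹)⁻¹ * (g * q * g⁻¹) by group, e0]
        group
      rw [e2, show p⁻¹ = q⁻¹ * s₀ by rw [h1]; group]
      have h3 : (b ^ i)⁻¹ * (g * q * g⁻¹) * q⁻¹ ∈ B := mul_mem (mul_mem (inv_mem hbi) (hgB q hqB)) (inv_mem hqB)
      rw [show s₀⁻¹ * ((b ^ i)⁻¹ * (g * q * g⁻¹)) * (q⁻¹ * s₀) =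
        s₀⁻¹ * ((b ^ i)⁻¹ * (g * q * g⁻¹) * q⁻¹) * s₀ by group,
        ((hBc (hcb (hPO hs₀)) h3).inv_left).eq, inv_mul_cancel_right]
      exact h3
    obtain ⟨g'', hg''M, -, hg''b, hfix'⟩ := hstabP q hqP hqB
    rcases hdich g'' hg''M hg''b q (hPO hqP) hfix' with h | h
    · -- both fixed
      rw [eq'] at h
      refine hpB (hsquare p hp ?_)
      have h1 : s₀ * (p⁻¹ * p⁻¹) * s₀⁻¹ ∈ B := by
        have h2 := mul_mem (inv_mem hij) h
        rwa [hq, show (b ^ i * b ^ j)⁻¹ * (b ^ i * b ^ j * (s₀ * p⁻¹) * (s₀ * p)⁻¹) = s₀ * (p⁻¹ * p⁻¹) * s₀⁻¹ by group] at h2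
      have h3 : p⁻¹ * p⁻¹ ∈ B := by
        have : s₀⁻¹ * (s₀ * (p⁻¹ * p⁻¹) * s₀⁻¹) * s₀ ∈ B := by
          rw [((hBc (hcb (hPO hs₀)) h1).inv_left).eq, inv_mul_cancel_right]; exact h1
        rwa [show s₀⁻¹ * (s₀ * (p⁻¹ * p⁻¹) * s₀⁻¹) * s₀ = p⁻¹ * p⁻¹ by group] at this
      have := inv_mem h3
      rwa [mul_inv_rev, inv_inv] at this
    · -- both inverted
      rw [eq'] at h
      refine hs₀B (hsquare s₀ hs₀ ?_)
      have h1 : s₀ * p⁻¹ * s₀ * p ∈ B := by
        have h2 := mul_mem (inv_mem hij) h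
        rwa [hq, show (b ^ i * b ^ j)⁻¹ * (b ^ i * b ^ j * (s₀ * p⁻¹) * (s₀ * p)) = s₀ * p⁻¹ * s₀ * p by group] at h2
      have h4 : p⁻¹ * s₀ * p * s₀⁻¹ ∈ B := by
        have := hcommB p⁻¹ (inv_mem (hPO hp)) s₀ (hPO hs₀)
        rwa [inv_inv] at this
      have h5 : s₀ * (p⁻¹ * s₀ * p * s₀⁻¹) ⁻¹ * s₀⁻¹ ∈ B := by
        rw [(hBc (hcb (hPO hs₀)) (inv_mem h4)).eq, mul_inv_cancel_right]; exact inv_mem h4
      have := mul_mem h5 h1
      rwa [show s₀ * (p⁻¹ * s₀ * p * s₀⁻¹)⁻¹ * s₀⁻¹ * (s₀ * p⁻¹ * s₀ * p) = s₀ * s₀ by group] at this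
  -- fixed elements
  have hne : g * b * g⁻¹ ≠ b := fun e => hb2 (hgb ▸ e)
  have hgb' : g * b * g⁻¹ ∈ B := hgb ▸ inv_mem (Subgroup.mem_zpowers b)
  have hshift : ∀ p ∈ P, ∃ u ∈ B, Commute g (p * u) := by
    intro p hp
    obtain ⟨i, hi⟩ := hP1 p hp
    refine fix_shift hbo hgb' hne (β := b ^ i) ?_ ⟨i, rfl⟩
    rw [((hcb (hPO hp)).zpow_right i).eq, show b ^ i = _ from hi, inv_mul_cancel_right]
  set CP := P ⊓ Subgroup.centralizer ({g} : Set G) with hCP
  have hPle : Nat.card P ≤ Nat.card CP * 11 := by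
    have hsurj : Function.Surjective fun x : CP × B => (⟨(x.1 : G) * x.2, mul_mem x.1.2.1 (hBP x.2.2)⟩ : P) := by
      intro p
      obtain ⟨u, hu, hc⟩ := hshift p p.2
      refine ⟨(⟨p * u, mul_mem p.2 (hBP hu), Subgroup.mem_centralizer_singleton_iff.2 hc.symm.eq⟩,
        ⟨u⁻¹, inv_mem hu⟩), Subtype.ext ?_⟩
      show (p : G) * u * u⁻¹ = p
      rw [mul_inv_cancel_right]
    have := Nat.card_le_card_of_surjective _ hsurj
    rwa [Nat.card_prod, hB, Nat.card_zpowers, hbo] at this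
  obtain ⟨j, hj⟩ := (hPp.to_le (inf_le_left : CP ≤ P)).exists_card_eq
  have hj1 : j ≤ 1 := by
    by_contra hlt
    exact X.hI2 g hg2 hg1 ((show (121 : ℕ) ∣ 11 ^ j by
      rw [show (121 : ℕ) = 11 ^ 2 by norm_num]; exact pow_dvd_pow 11 (by omega)).trans
      (hj ▸ Subgroup.card_dvd_of_le inf_le_right))
  have hj' : j = 1 := by
    rcases (by omega : j = 0 ∨ j = 1) with rfl | rfl
    · rw [hj, pow_zero] at hPle
      omega
    · rfl
  subst hj'
  rw [pow_one] at hj
  have hP121 : Nat.card P = 121 := by rw [hj] at hPle; omega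
  obtain ⟨⟨w, hwCP⟩, hw⟩ := exists_prime_orderOf_dvd_card' (G := CP) 11 (by rw [hj])
  have hwo : orderOf w = 11 := by rw [← hw, ← Subgroup.orderOf_coe]
  have hwP : w ∈ P := hwCP.1
  have hgw : Commute g w := (Subgroup.mem_centralizer_singleton_iff.1 hwCP.2 : Commute w g).symm
  have hBw : ∀ u ∈ B, Commute g u → u = 1 := by
    intro u hu hgu
    by_contra hu1
    have huo : orderOf u = 11 := by
      have := Subgroup.orderOf_dvd_natCard B hu
      rw [hB, Nat.card_zpowers, hbo] at this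
      exact ((Nat.dvd_prime (by norm_num)).1 this).resolve_left fun h => hu1 (orderOf_eq_one_iff.1 h)
    obtain ⟨i, hi⟩ : b ∈ Subgroup.zpowers u := by
      rw [Subgroup.eq_of_le_of_card_ge (Subgroup.zpowers_le.2 hu : Subgroup.zpowers u ≤ B)
        (by rw [hB, Nat.card_zpowers, Nat.card_zpowers, hbo, huo])]
      exact Subgroup.mem_zpowers b
    refine hne ?_
    rw [← show u ^ i = b from hi, (hgu.zpow_right i).eq, mul_inv_cancel_right]
  have hwB : w ∉ B := fun h => by
    rw [hBw w h hgw, orderOf_one] at hwo; norm_num at hwo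
  have hwb : Commute w b := hcb (hPO hwP)
  have hsup : B ⊔ Subgroup.zpowers w = P := by
    have hle : B ⊔ Subgroup.zpowers w ≤ P := sup_le hBP (Subgroup.zpowers_le.2 hwP)
    refine Subgroup.eq_of_le_of_card_ge hle ?_
    obtain ⟨i, hi⟩ := (hPp.to_le hle).exists_card_eq
    rw [hP121, hi]
    have h2 : 2 ≤ i := by
      by_contra hlt
      refine hwB ?_
      rw [Subgroup.eq_of_le_of_card_ge (le_sup_left : B ≤ B ⊔ Subgroup.zpowers w) (by
        rw [hi, hB, Nat.card_zpowers, hbo]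
        exact (Nat.pow_le_pow_right (by norm_num) (by omega : i ≤ 1)).trans_eq (pow_one 11))]
      exact Subgroup.mem_sup_right (Subgroup.mem_zpowers w)
    rw [show (121 : ℕ) = 11 ^ 2 by norm_num]
    exact Nat.pow_le_pow_right (by norm_num) h2
  have hwtw : t * w * t⁻¹ = w⁻¹ := by
    set c := t * w * t⁻¹ * w with hc
    have hcB : c ∈ B := hinv w (hPO hwP)
    have hcg : Commute g c := (((hgt.mul_right hgw).mul_right hgt.inv_right)).mul_right hgw
    have h1 := hBw c hcB hcg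
    exact eq_inv_of_mul_eq_one_left h1
  -- nothing else in the odd part
  have hOP : O = P := by
    refine (Subgroup.eq_of_le_of_card_ge hPO ?_).symm
    by_contra hlt
    push Not at hlt
    obtain ⟨k, hk⟩ := Subgroup.card_dvd_of_le hPO
    have hk1 : k ≠ 1 := fun e => by rw [e, mul_one] at hk; omega
    obtain ⟨q, hq, hqk⟩ := Nat.exists_prime_and_dvd hk1
    haveI := Fact.mk hq
    have hqO : q ∣ Nat.card O := hk ▸ hqk.mul_left _
    have hq11 : q ≠ 11 := by
      rintro rfl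
      have h : 11 ^ 3 ∣ Nat.card O := by
        rw [hk, hP121]
        exact (show (11 : ℕ) ^ 3 = 121 * 11 by norm_num) ▸ Nat.mul_dvd_mul_left _ hqk
      have h2 : (Nat.card O).factorization 11 = 2 := by
        have := hPc
        rw [hP121, show (121 : ℕ) = 11 ^ 2 by norm_num] at this
        exact (Nat.pow_right_injective (by norm_num) this).symm
      have := ((by norm_num : Nat.Prime 11).pow_dvd_iff_le_factorization Nat.card_pos.ne').1 h
      omega
    obtain ⟨⟨r, hrO⟩, hr⟩ := exists_prime_orderOf_dvd_card' (G := O) q hqO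
    have hro : orderOf r = q := by rw [← hr, ← Subgroup.orderOf_coe]
    have hq2 : q ≠ 2 := fun e => by
      have := hoO r hrO
      rw [hro, e] at this
      exact absurd this (by decide)
    have hrq : r ^ q = 1 := hro ▸ pow_orderOf_eq_one r
    have hcop : Nat.Coprime q 11 := (Nat.coprime_primes hq (by norm_num)).2 hq11
    have h11B : ∀ u ∈ B, u ^ 11 = 1 := fun u hu => by
      have := Subgroup.orderOf_dvd_natCard B hu
      rw [hB, Nat.card_zpowers, hbo] at this
      exact orderOf_dvd_iff_pow_eq_one.1 this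
    have hkill : ∀ u ∈ B, u ^ q = 1 → u = 1 := fun u hu huq => by
      have := pow_gcd_eq_one.2 ⟨huq, h11B u hu⟩
      rwa [hcop.gcd_eq_one, pow_one] at this
    have hrw : Commute r w := by
      set c := r * w * r⁻¹ * w⁻¹ with hc
      have hcB : c ∈ B := hcommB r hrO w (hPO hwP)
      have hrc : r * c * r⁻¹ = c := by rw [(hBc (hcb hrO) hcB).eq, mul_inv_cancel_right]
      have hn : ∀ n : ℕ, r ^ n * w * (r ^ n)⁻¹ = c ^ n * w := by
        intro n
        induction n with
        | zero => simp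
        | succ n ih =>
          calc r ^ (n + 1) * w * (r ^ (n + 1))⁻¹ = r * (r ^ n * w * (r ^ n)⁻¹) * r⁻¹ := by rw [pow_succ']; group
            _ = (r * c * r⁻¹) ^ n * (r * w * r⁻¹) := by rw [ih, conj_pow]; group
            _ = c ^ (n + 1) * w := by rw [hrc, pow_succ, hc, mul_assoc]; group
      have h := hn q
      rw [hrq, one_mul, inv_one, mul_one, eq_comm, mul_eq_right] at h
      have h1 := hkill c hcB h
      rw [hc, mul_inv_eq_one] at h1
      exact mul_inv_eq_iff_eq_mul.1 h1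
    set s := w * r with hs
    have hsq' : s ^ q = w ^ q := by rw [hs, hrw.symm.mul_pow, hrq, mul_one]
    have hwgen : ∀ n : ℕ, ¬ 11 ∣ n → w ^ n ∉ B := by
      intro n hn h
      refine hwB ?_
      have hcop' : Nat.Coprime n 11 := ((Nat.Prime.coprime_iff_not_dvd (by norm_num)).2 hn).symm
      obtain ⟨m, -, hm⟩ := Nat.exists_mul_mod_eq_one_of_coprime hcop' (by norm_num)
      have : (w ^ n) ^ m = w := by
        rw [← pow_mul, ← pow_mod_orderOf, hwo, hm, pow_one]
      exact this ▸ Subgroup.pow_mem _ h m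
    have hq' : ¬ 11 ∣ q := fun h => hq11 ((Nat.prime_dvd_prime_iff_eq (by norm_num) hq).1 h).symm
    have hsB : s ∉ B := fun h => hwgen q hq' (hsq' ▸ Subgroup.pow_mem _ h q)
    obtain ⟨g', hg'M, -, hg'b, hfix⟩ := X.stab hOb hOm hOodd hinv (mul_mem (hPO hwP) hrO) hsB (m := q) (l := 1)
      (by rw [hsq']; exact hwgen q hq')
      (by rw [hsq', pow_one, ← pow_mul, mul_comm, pow_mul, ← hwo, pow_orderOf_eq_one, one_pow])
    rcases hdich g' hg'M hg'b s (mul_mem (hPO hwP) hrO) hfix with h | h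
    · -- `r` is fixed
      obtain ⟨i, hi⟩ := h
      have hi' : g * s * g⁻¹ = b ^ i * s := by rw [show b ^ i = _ from hi, inv_mul_cancel_right]
      have hgwi : g * w * g⁻¹ = w := by rw [hgw.eq, mul_inv_cancel_right]
      have e1 : g * r * g⁻¹ = b ^ i * r := by
        refine mul_left_cancel (a := w) ?_
        rw [show w * (g * r * g⁻¹) = (g * w * g⁻¹) * (g * r * g⁻¹) by rw [hgwi],
          show (g * w * g⁻¹) * (g * r * g⁻¹) = g * (w * r) * g⁻¹ by group, ← hs, hi', hs, ← mul_assoc, ← mul_assoc,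
          (hwb.zpow_right i).eq]
      have e2 : (b ^ i) ^ q = 1 := by
        have h1 : (g * r * g⁻¹) ^ q = 1 := by rw [conj_pow, hrq, mul_one, mul_inv_cancel]
        rwa [e1, ((hcb hrO).symm.zpow_left i).mul_pow, hrq, mul_one] at h1
      rw [hkill (b ^ i) ⟨i, rfl⟩ e2, one_mul] at e1
      have hgr : Commute r g := (mul_inv_eq_iff_eq_mul.1 e1).symm
      have hrmem : r ∈ Subgroup.centralizer ({g} : Set G) ⊓ Subgroup.centralizer ({w} : Set G) :=
        ⟨Subgroup.mem_centralizer_singleton_iff.2 hgr.eq, Subgroup.mem_centralizer_singleton_iff.2 hrw.eq⟩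
      have hd := Subgroup.orderOf_dvd_natCard _ hrmem
      rw [hro] at hd
      have hq3 : q = 3 := by
        rcases X.hI g w hg2 hg1 hwo hgw.symm with e | e <;> rw [e] at hd
        · have := Nat.le_of_dvd (by norm_num) hd
          rcases (show q = 3 ∨ q ≠ 3 from em _) with h' | h'
          · exact h'
          · exfalso
            rw [show (264 : ℕ) = 2 ^ 3 * 3 * 11 by norm_num] at hd
            rcases hq.dvd_mul.1 hd with h'' | h''
            · rcases hq.dvd_mul.1 h'' with h3 | h3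
              · exact hq2 ((Nat.prime_dvd_prime_iff_eq hq Nat.prime_two).1 (hq.dvd_of_dvd_pow h3))
              · exact h' ((Nat.prime_dvd_prime_iff_eq hq Nat.prime_three).1 h3)
            · exact hq11 ((Nat.prime_dvd_prime_iff_eq hq (by norm_num)).1 h'')
        · exfalso
          rw [show (22 : ℕ) = 2 * 11 by norm_num] at hd
          rcases hq.dvd_mul.1 hd with h'' | h''
          · exact hq2 ((Nat.prime_dvd_prime_iff_eq hq Nat.prime_two).1 h'')
          · exact hq11 ((Nat.prime_dvd_prime_iff_eq hq (by norm_num)).1 h'')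
      refine X.h3 r (hro.trans hq3) (hP121 ▸ Subgroup.card_dvd_of_le ?_)
      rw [← hsup]
      exact sup_le (Subgroup.zpowers_le.2 (Subgroup.mem_centralizer_singleton_iff.2 (hcb hrO).symm.eq))
        (Subgroup.zpowers_le.2 (Subgroup.mem_centralizer_singleton_iff.2 hrw.symm.eq))
    · -- impossible
      obtain ⟨i, hi⟩ := h
      have hi' : g * s * g⁻¹ = b ^ i * s⁻¹ := by rw [show b ^ i = _ from hi, mul_inv_cancel_right]
      have h1 : (g * s * g⁻¹) ^ q = w ^ q := by
        rw [conj_pow, hsq', (hgw.pow_right q).eq, mul_inv_cancel_right]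
      rw [hi', (((hcb (mul_mem (hPO hwP) hrO)).inv_left).zpow_right i).symm.mul_pow, inv_pow, hsq'] at h1
      refine hwgen (2 * q) (fun h' => ?_) ?_
      · rcases (Nat.Prime.dvd_mul (by norm_num)).1 h' with h'' | h''
        · norm_num at h''
        · exact hq' h''
      · rw [two_mul, pow_add]
        refine ⟨i * q, ?_⟩
        show b ^ (i * q : ℤ) = _
        rw [zpow_mul, zpow_natCast]
        calc (b ^ i) ^ q = (b ^ i) ^ q * (w ^ q)⁻¹ * w ^ q := by group
          _ = w ^ q * w ^ q := by rw [h1]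
  refine ⟨g, w, ⟨?_, hgM, hg2, hg1, hgb, hgt, hwo, hwB, hwb, hgw, hwtw, fun c hc ho => ?_⟩⟩
  · rw [hcard, hOP, hP121]
  · rw [hsup, ← hOP]
    exact hOm c hc ho

end Cfsg.Agent.Spor.JFour.Eleven
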