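import Cfsg.Agent.Lib.Spor.JFourEleven.Generic
import Cfsg.Agent.Lib.Char.ZStar
import Cfsg.Agent.Lib.Fusion.Cores
import Cfsg.Agent.Lib.Fusion.Product.Local
import Cfsg.Prelude.Def_Sporadic_a

/-!
An element of order eleven centralising an involution of the second class: its odd centraliser.
-/

set_option autoImplicit false

namespace Cfsg.Agent.Spor.JFour.Eleven

universe u

variable {G : Type u} [Group G] [Finite G]

/-- what is used of the group and of the normaliser of the large elementary subgroup -/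
structure Ctx (V : Subgroup G) (t b : G) (π : ↥(Subgroup.normalizer (V : Set G)) →* Cfsg.M24) : Prop where
  Vc : Nat.card V = 2 ^ 11
  sq : ∀ v ∈ V, v * v = 1
  ker : ∀ c, π c = 1 ↔ (c : G) ∈ V
  cardM : Nat.card (Subgroup.normalizer (V : Set G)) = 501397585920
  tV : t ∈ V
  t1 : t ≠ 1
  bo : orderOf b = 11
  bM : b ∈ Subgroup.normalizer (V : Set G)
  bt : Commute b t
  cb : Nat.card (Subgroup.normalizer (V : Set G) ⊓ Subgroup.centralizer ({b} : Set G) : Subgroup G) = 22
  fixV : Nat.card (V ⊓ Subgroup.centralizer ({b} : Set G) : Subgroup G) = 2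
  cardG : Nat.card G = 86775571046077562880
  hI : ∀ i d : G, i * i = 1 → i ≠ 1 → orderOf d = 11 → Commute d i →
    Nat.card (Subgroup.centralizer ({i} : Set G) ⊓ Subgroup.centralizer ({d} : Set G) : Subgroup G) = 264 ∨
    Nat.card (Subgroup.centralizer ({i} : Set G) ⊓ Subgroup.centralizer ({d} : Set G) : Subgroup G) = 22
  hI2 : ∀ i : G, i * i = 1 → i ≠ 1 → ¬ 121 ∣ Nat.card (Subgroup.centralizer ({i} : Set G))
  cT : Nat.card (Subgroup.centralizer ({t} : Set G) ⊓ Subgroup.centralizer ({b} : Set G) : Subgroup G) = 22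
  h5 : ∀ f d : G, orderOf f = 5 → orderOf d = 11 → ¬ Commute f d
  h3 : ∀ y : G, orderOf y = 3 → ¬ 121 ∣ Nat.card (Subgroup.centralizer ({y} : Set G))
  hS2 : ∀ A : Subgroup Cfsg.M24, Nat.card A = 2 ^ 10 → ¬ ∀ a ∈ A, ∀ c ∈ A, Commute a c

variable {V : Subgroup G} {t b : G} {π : ↥(Subgroup.normalizer (V : Set G)) →* Cfsg.M24}
variable (X : Ctx V t b π)

/-- an element of odd order commuting with `b`, inside a group of order twenty two -/
theorem mem_zpowers_of_odd {D : Subgroup G} (hD : Nat.card D = 22) (hb : orderOf b = 11) (hbD : b ∈ D) {c : G}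
    (hc : c ∈ D) (hodd : Odd (orderOf c)) : c ∈ Subgroup.zpowers b := by
  set B := (Subgroup.zpowers b).subgroupOf D with hB
  have hBi : B.index = 2 := by
    have h := Subgroup.card_mul_index B
    rw [Nat.card_congr (Subgroup.subgroupOfEquivOfLe (Subgroup.zpowers_le.2 hbD)).toEquiv, Nat.card_zpowers, hb,
      hD] at h
    omega
  have h2 : ∀ n : ℕ, ((⟨c, hc⟩ : D) ^ n ∈ B) ↔ (Even n ∨ (⟨c, hc⟩ : D) ∈ B) := by
    intro n
    induction n with
    | zero => simp [one_mem]
    | succ n ih =>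
      rw [pow_succ, Subgroup.mul_mem_iff_of_index_two hBi, ih, Nat.even_add_one]
      tauto
  have h1 := (h2 (orderOf c)).1 (by
    rw [show (⟨c, hc⟩ : D) ^ orderOf c = 1 from Subtype.ext (by
      rw [SubmonoidClass.coe_pow]; exact pow_orderOf_eq_one c)]
    exact one_mem _)
  rcases h1 with h | h
  · exact absurd h (Nat.not_even_iff_odd.2 hodd)
  · exact Subgroup.mem_subgroupOf.1 h

include X

theorem Ctx.t2 : t * t = 1 := X.sq t X.tV

theorem Ctx.t_commute {c : G} (hc : c ∈ Subgroup.normalizer (V : Set G)) (hcb : Commute c b) : Commute c t := by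
  classical
  set W := V ⊓ Subgroup.centralizer ({b} : Set G) with hW
  have htW : t ∈ W := ⟨X.tV, Subgroup.mem_centralizer_singleton_iff.2 X.bt.symm.eq⟩
  have hmem : c * t * c⁻¹ ∈ W := by
    refine ⟨(Subgroup.mem_normalizer_iff.1 hc t).1 X.tV, Subgroup.mem_centralizer_singleton_iff.2 ?_⟩
    have := (Commute.conj_iff c).2 X.bt.symm
    rw [hcb.eq, mul_inv_cancel_right] at this
    exact this.eq
  have h2 := (Nat.card_eq_two_iff' (1 : W)).1 X.fixV
  obtain ⟨y, -, hy⟩ := h2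
  have e1 : (⟨t, htW⟩ : W) = y := hy _ fun e => X.t1 (congrArg Subtype.val e)
  have e2 : (⟨c * t * c⁻¹, hmem⟩ : W) = y := hy _ fun e => X.t1 (conj_eq_one_iff.1 (congrArg Subtype.val e))
  exact mul_inv_eq_iff_eq_mul.1 (congrArg Subtype.val (e2.trans e1.symm))

/-- an element of odd order of the normaliser commuting with `b` -/
theorem Ctx.odd_mem {c : G} (hc : c ∈ Subgroup.normalizer (V : Set G)) (hcb : Commute c b)
    (hodd : Odd (orderOf c)) : c ∈ Subgroup.zpowers b :=
  mem_zpowers_of_odd X.cb X.bo ⟨X.bM, Subgroup.mem_centralizer_singleton_iff.2 rfl⟩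
    ⟨hc, Subgroup.mem_centralizer_singleton_iff.2 hcb.eq⟩ hodd

/-- an element of the normaliser commuting with `b` and with square one -/
theorem Ctx.invol_mem {i : G} (hit : Commute i t) (hib : Commute i b) (hi : i * i = 1) : i = 1 ∨ i = t := by
  by_cases hi1 : i = 1
  · exact Or.inl hi1
  right
  set D := Subgroup.centralizer ({t} : Set G) ⊓ Subgroup.centralizer ({b} : Set G) with hD
  have hbD : b ∈ D := ⟨Subgroup.mem_centralizer_singleton_iff.2 X.bt.eq, Subgroup.mem_centralizer_singleton_iff.2 rfl⟩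
  set B := (Subgroup.zpowers b).subgroupOf D with hB
  have hBi : B.index = 2 := by
    have h := Subgroup.card_mul_index B
    rw [Nat.card_congr (Subgroup.subgroupOfEquivOfLe (Subgroup.zpowers_le.2 hbD)).toEquiv, Nat.card_zpowers, X.bo,
      X.cT] at h
    omega
  have hnotB : ∀ u : G, u * u = 1 → u ≠ 1 → u ∉ Subgroup.zpowers b := fun u hu hu1 hmem => by
    have h11 : u ^ 11 = 1 := by
      have := Subgroup.orderOf_dvd_natCard _ hmem
      rw [Nat.card_zpowers, X.bo] at this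
      exact orderOf_dvd_iff_pow_eq_one.1 this
    have := pow_gcd_eq_one.2 ⟨(by rw [pow_two, hu] : u ^ 2 = 1), h11⟩
    rw [show Nat.gcd 2 11 = 1 from rfl, pow_one] at this
    exact hu1 this
  have hiD : i ∈ D := ⟨Subgroup.mem_centralizer_singleton_iff.2 hit.eq, Subgroup.mem_centralizer_singleton_iff.2 hib.eq⟩
  have htD : t ∈ D := ⟨Subgroup.mem_centralizer_singleton_iff.2 rfl, Subgroup.mem_centralizer_singleton_iff.2 X.bt.symm.eq⟩
  have hit' : (⟨i * t, mul_mem hiD htD⟩ : D) ∈ B := by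
    rw [show (⟨i * t, mul_mem hiD htD⟩ : D) = ⟨i, hiD⟩ * ⟨t, htD⟩ from rfl, Subgroup.mul_mem_iff_of_index_two hBi]
    exact iff_of_false (fun h => hnotB i hi hi1 (Subgroup.mem_subgroupOf.1 h))
      (fun h => hnotB t X.t2 X.t1 (Subgroup.mem_subgroupOf.1 h))
  by_contra hne
  refine hnotB (i * t) ?_ (fun e => hne ?_) (Subgroup.mem_subgroupOf.1 hit')
  · rw [hit.symm.mul_mul_mul_comm, hi, X.t2, mul_one]
  · rw [eq_inv_of_mul_eq_one_left e, inv_eq_of_mul_eq_one_right X.t2]

/-- the odd part of the centraliser of `b` -/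
theorem Ctx.odd_part : ∃ O : Subgroup G, O ≤ Subgroup.centralizer ({b} : Set G) ∧ Odd (Nat.card O) ∧ b ∈ O ∧
    Nat.card (Subgroup.centralizer ({b} : Set G)) = 2 * Nat.card O ∧
    (∀ c, Commute c b → Odd (orderOf c) → c ∈ O) ∧
    (∀ o ∈ O, t * o * t⁻¹ * o ∈ Subgroup.zpowers b) ∧
    (∀ o ∈ O, ∀ o' ∈ O, o * o' * o⁻¹ * o'⁻¹ ∈ Subgroup.zpowers b) := by
  classical
  set CB := Subgroup.centralizer ({b} : Set G) with hCB
  have htC : t ∈ CB := Subgroup.mem_centralizer_singleton_iff.2 X.bt.symm.eq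
  set tC : CB := ⟨t, htC⟩
  have htC2 : tC * tC = 1 := Subtype.ext X.t2
  have hto : orderOf tC = 2 := orderOf_eq_prime (by rw [pow_two, htC2]) fun e => X.t1 (congrArg Subtype.val e)
  have hiso : Cfsg.IsIsolatedInvolution tC := by
    refine ⟨hto, fun g hg => ?_⟩
    have h := X.invol_mem (i := ((g * tC * g⁻¹ : CB) : G)) (congrArg Subtype.val hg.symm.eq)
      (Subgroup.mem_centralizer_singleton_iff.1 (g * tC * g⁻¹).2)
      (congrArg Subtype.val (show g * tC * g⁻¹ * (g * tC * g⁻¹) = 1 by rw [conj_mul, htC2, mul_one, mul_inv_cancel]))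
    rcases h with h | h
    · exact absurd (conj_eq_one_iff.1 (Subtype.ext h : g * tC * g⁻¹ = 1)) fun e => X.t1 (congrArg Subtype.val e)
    · exact Subtype.ext h
  have hz := Char.zStar_isolated hiso
  set O' := Cfsg.oddCore CB with hO'
  haveI hOn : O'.Normal := Cfsg.pPrimeCore_normal 2 CB
  have hOodd : Odd (Nat.card O') := StrongProd.oddCore_odd CB
  set bC : CB := ⟨b, Subgroup.mem_centralizer_singleton_iff.2 rfl⟩
  have hbcen : ∀ g : CB, g * bC * g⁻¹ = bC := fun g => mul_inv_eq_iff_eq_mul.2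
    (Subtype.ext (Subgroup.mem_centralizer_singleton_iff.1 g.2))
  have hbO : bC ∈ O' := by
    haveI : (Subgroup.zpowers bC).Normal := ⟨fun n hn g => by
      obtain ⟨k, rfl⟩ := hn
      rw [← conj_zpow, hbcen]
      exact Subgroup.zpow_mem _ (Subgroup.mem_zpowers bC) k⟩
    refine (Fusion.le_pPrimeCore (p := 2) ?_) (Subgroup.mem_zpowers bC)
    rw [Nat.card_zpowers, ← Subgroup.orderOf_coe, X.bo]
    norm_num
  have hnotO : tC ∉ O' := fun h => by
    have h2 := Subgroup.orderOf_dvd_natCard O' h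
    rw [hto] at h2
    exact (Nat.not_even_iff_odd.2 hOodd) (even_iff_two_dvd.2 h2)
  -- every element is in the two cosets
  have hdec : ∀ g : CB, g ∈ O' ∨ g * tC ∈ O' := by
    intro g
    set n := Nat.card O' with hn
    obtain ⟨m, hm⟩ := hOodd
    set c := tC * g * tC⁻¹ * g⁻¹ with hc
    have hcO : c ∈ O' := hz g
    have htc : tC * c * tC⁻¹ = c⁻¹ := by
      rw [hc, show tC * (tC * g * tC⁻¹ * g⁻¹) * tC⁻¹ = (tC * tC) * g * tC⁻¹ * g⁻¹ * tC⁻¹ by group, htC2,
        inv_eq_of_mul_eq_one_right htC2]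
      simp only [one_mul, mul_inv_rev, inv_inv, mul_assoc, inv_eq_of_mul_eq_one_right htC2]
    set h := (c⁻¹) ^ (m + 1) with hh
    have hhO : h ∈ O' := Subgroup.pow_mem _ (inv_mem hcO) _
    have hth : tC * h * tC⁻¹ = h⁻¹ := by
      rw [hh, ← conj_pow, ← conj_inv, htc, inv_pow, inv_pow, inv_inv]
    have hh2 : h * h = c⁻¹ := by
      rw [hh, ← pow_add, show m + 1 + (m + 1) = (2 * m + 1) + 1 by ring, pow_succ,
        show (c⁻¹) ^ (2 * m + 1) = 1 by
          rw [← hm]
          exact orderOf_dvd_iff_pow_eq_one.1 (Subgroup.orderOf_dvd_natCard O' (inv_mem hcO)), one_mul]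
    have e1 : h * tC * h⁻¹ = g * tC * g⁻¹ := by
      have e2 : h * tC * h⁻¹ = h * (tC * h⁻¹ * tC⁻¹) * tC := by group
      rw [e2, ← conj_inv, hth, inv_inv, hh2, hc, inv_eq_of_mul_eq_one_right htC2]
      simp only [mul_inv_rev, inv_inv, mul_assoc, inv_eq_of_mul_eq_one_right htC2, htC2, mul_one]
    set y := h⁻¹ * g with hy
    have hyt : Commute y tC := by
      refine mul_inv_eq_iff_eq_mul.1 ?_
      calc y * tC * y⁻¹ = h⁻¹ * (g * tC * g⁻¹) * h := by rw [hy]; group
        _ = tC := by rw [← e1]; group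
    have hyD : (y : G) ∈ Subgroup.centralizer ({t} : Set G) ⊓ Subgroup.centralizer ({b} : Set G) :=
      ⟨Subgroup.mem_centralizer_singleton_iff.2 (congrArg Subtype.val hyt.eq), y.2⟩
    have hbD : b ∈ Subgroup.centralizer ({t} : Set G) ⊓ Subgroup.centralizer ({b} : Set G) :=
      ⟨Subgroup.mem_centralizer_singleton_iff.2 X.bt.eq, Subgroup.mem_centralizer_singleton_iff.2 rfl⟩
    set D := Subgroup.centralizer ({t} : Set G) ⊓ CB with hD
    set B := (Subgroup.zpowers b).subgroupOf D with hB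
    have hBi : B.index = 2 := by
      have h' := Subgroup.card_mul_index B
      rw [Nat.card_congr (Subgroup.subgroupOfEquivOfLe (Subgroup.zpowers_le.2 hbD)).toEquiv, Nat.card_zpowers,
        X.bo, show Nat.card D = 22 from X.cT] at h'
      omega
    have hBO : ∀ u : CB, (u : G) ∈ Subgroup.zpowers b → u ∈ O' := by
      rintro u ⟨k, hk⟩
      rw [show u = bC ^ k from Subtype.ext (by rw [SubgroupClass.coe_zpow]; exact hk.symm)]
      exact Subgroup.zpow_mem _ hbO k
    by_cases hyB : (y : G) ∈ Subgroup.zpowers b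
    · left
      have := mul_mem hhO (hBO y hyB)
      rwa [hy, mul_inv_cancel_left] at this
    · right
      have htD : t ∈ D := ⟨Subgroup.mem_centralizer_singleton_iff.2 rfl, htC⟩
      have h3 : (⟨(y : G), hyD⟩ : D) * ⟨t, htD⟩ ∈ B := by
        rw [Subgroup.mul_mem_iff_of_index_two hBi]
        refine iff_of_false (fun h' => hyB (Subgroup.mem_subgroupOf.1 h')) (fun h' => hnotO ?_)
        exact hBO tC (Subgroup.mem_subgroupOf.1 h')
      have := mul_mem hhO (hBO (y * tC) (Subgroup.mem_subgroupOf.1 h3))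
      rwa [hy, mul_assoc h⁻¹, mul_inv_cancel_left] at this
  have hidx : O'.index = 2 := by
    rw [Subgroup.index_eq_two_iff]
    refine ⟨tC, fun g => ?_⟩
    by_cases hg : g ∈ O'
    · refine Or.inr ⟨hg, fun h' => hnotO ?_⟩
      have := mul_mem (inv_mem hg) h'
      rwa [inv_mul_cancel_left] at this
    · exact Or.inl ⟨(hdec g).resolve_left hg, hg⟩
  have hmem : ∀ c, Commute c b → Odd (orderOf c) → c ∈ O'.map CB.subtype := by
    intro c hc hodd
    set cC : CB := ⟨c, Subgroup.mem_centralizer_singleton_iff.2 hc.eq⟩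
    have h2 : ∀ n : ℕ, (cC ^ n ∈ O') ↔ (Even n ∨ cC ∈ O') := by
      intro n
      induction n with
      | zero => simp [one_mem]
      | succ n ih =>
        rw [pow_succ, Subgroup.mul_mem_iff_of_index_two hidx, ih, Nat.even_add_one]
        tauto
    have h1 := (h2 (orderOf c)).1 (by
      rw [show cC ^ orderOf c = 1 from Subtype.ext (by rw [SubmonoidClass.coe_pow]; exact pow_orderOf_eq_one c)]
      exact one_mem _)
    exact ⟨cC, h1.resolve_left (Nat.not_even_iff_odd.2 hodd), rfl⟩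
  set O := O'.map CB.subtype with hO
  have hcardO : Nat.card O = Nat.card O' := Subgroup.card_map_of_injective (Subgroup.subtype_injective _)
  have hOC : O ≤ CB := Subgroup.map_subtype_le _
  have hbO' : b ∈ O := ⟨bC, hbO, rfl⟩
  have hcomm : ∀ o ∈ O, Commute o b := fun o ho => Subgroup.mem_centralizer_singleton_iff.1 (hOC ho)
  have hoddO : ∀ o ∈ O, Odd (orderOf o) := fun o ho => by
    have := Subgroup.orderOf_dvd_natCard O ho
    rw [hcardO] at this
    exact hOodd.of_dvd_nat this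
  have htO : ∀ o ∈ O, t * o * t⁻¹ ∈ O := by
    rintro o ⟨u, hu, rfl⟩
    exact ⟨tC * u * tC⁻¹, hOn.conj_mem u hu tC, rfl⟩
  -- inversion modulo `b`
  have hti : t⁻¹ = t := inv_eq_of_mul_eq_one_right X.t2
  let φ : O → O := fun w => ⟨(w : G)⁻¹ * (t * w * t⁻¹), mul_mem (inv_mem w.2) (htO w w.2)⟩
  have hφinv : ∀ w : O, t * (φ w : G) * t⁻¹ = (φ w : G)⁻¹ := fun w => by
    show t * ((w : G)⁻¹ * (t * w * t⁻¹)) * t⁻¹ = ((w : G)⁻¹ * (t * w * t⁻¹))⁻¹
    rw [hti]
    calc t * ((w : G)⁻¹ * (t * w * t)) * t = t * (w : G)⁻¹ * t * w * (t * t) := by group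
      _ = t * (w : G)⁻¹ * t * w := by rw [X.t2, mul_one]
      _ = (t⁻¹ * (w : G)⁻¹ * t⁻¹) * w := by rw [hti]
      _ = ((w : G)⁻¹ * (t * w * t))⁻¹ := by group
  have hinvB : ∀ {u : G}, u ∈ Subgroup.zpowers b → t * u * t⁻¹ = u := by
    rintro u ⟨k, rfl⟩
    rw [← (X.bt.zpow_left k).eq, mul_inv_cancel_right]
  have hfib : ∀ w w' : O, φ w = φ w' → (w' : G) * (w : G)⁻¹ ∈ Subgroup.zpowers b := by
    intro w w' e
    have e' : (w : G)⁻¹ * (t * w * t⁻¹) = (w' : G)⁻¹ * (t * w' * t⁻¹) := congrArg Subtype.val e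
    have hc : Commute ((w' : G) * (w : G)⁻¹) t := by
      refine (mul_inv_eq_iff_eq_mul.1 ?_).symm
      calc t * ((w' : G) * (w : G)⁻¹) * t⁻¹ = (t * w' * t⁻¹) * (t * w * t⁻¹)⁻¹ := by group
        _ = (w' : G) * ((w' : G)⁻¹ * (t * w' * t⁻¹)) * (t * w * t⁻¹)⁻¹ := by group
        _ = (w' : G) * (w : G)⁻¹ := by rw [← e']; group
    exact mem_zpowers_of_odd X.cT X.bo
      ⟨Subgroup.mem_centralizer_singleton_iff.2 X.bt.eq, Subgroup.mem_centralizer_singleton_iff.2 rfl⟩
      ⟨Subgroup.mem_centralizer_singleton_iff.2 hc.eq, Subgroup.mem_centralizer_singleton_iff.2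
        ((hcomm _ (mul_mem w'.2 (inv_mem w.2))).eq)⟩ (hoddO _ (mul_mem w'.2 (inv_mem w.2)))
  set B := (Subgroup.zpowers b).subgroupOf O with hB
  have hinj : Function.Injective fun q : O ⧸ B => (QuotientGroup.mk (φ q.out) : O ⧸ B) := by
    intro q q' e
    have e1 := Subgroup.mem_subgroupOf.1 (QuotientGroup.eq.1 e)
    set r : G := (φ q.out : G)⁻¹ * (φ q'.out : G) with hr
    have e2 : r ∈ Subgroup.zpowers b := e1
    have e3 : t * r * t⁻¹ = r := hinvB e2
    have hrc : Commute (φ q.out : G) r := by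
      obtain ⟨k, hk⟩ := e2
      rw [← hk]
      exact (hcomm _ (φ q.out).2).zpow_right k
    have e4 : r = r⁻¹ := by
      have h4 : (φ q'.out : G) = φ q.out * r := by rw [hr, mul_inv_cancel_left]
      have h5 := hφinv q'.out
      rw [h4, ← conj_mul, e3, hφinv] at h5
      calc r = (φ q.out : G) * ((φ q.out : G)⁻¹ * r) := (mul_inv_cancel_left _ _).symm
        _ = (φ q.out : G) * ((φ q.out : G) * r)⁻¹ := by rw [h5]
        _ = r⁻¹ := by rw [hrc.eq]; group
    have e5 : r = 1 := by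
      have h2 : r ^ 2 = 1 := by rw [pow_two]; exact eq_inv_iff_mul_eq_one.1 e4
      have hmem' : r ∈ O := mul_mem (inv_mem (φ q.out).2) (φ q'.out).2
      have := pow_gcd_eq_one.2 ⟨h2, pow_orderOf_eq_one r⟩
      rwa [(Nat.coprime_two_left.2 (hoddO r hmem')).gcd_eq_one, pow_one] at this
    have e6 : φ q.out = φ q'.out := Subtype.ext (inv_mul_eq_one.1 e5)
    have e7 := hfib _ _ e6
    rw [← Quotient.out_eq' q, ← Quotient.out_eq' q']
    refine QuotientGroup.eq.2 (Subgroup.mem_subgroupOf.2 ?_)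
    obtain ⟨k, hk⟩ := e7
    have hq' : (q'.out : G) = b ^ k * (q.out : G) := by rw [show b ^ k = _ from hk, inv_mul_cancel_right]
    show (q.out : G)⁻¹ * (q'.out : G) ∈ Subgroup.zpowers b
    rw [hq', ← mul_assoc, (((hcomm _ q.out.2).inv_left).zpow_right k).eq, mul_assoc, inv_mul_cancel, mul_one]
    exact ⟨k, rfl⟩
  have hinvert : ∀ o ∈ O, t * o * t⁻¹ * o ∈ Subgroup.zpowers b := by
    intro o ho
    obtain ⟨q, hq⟩ := (Finite.injective_iff_surjective.1 hinj) (QuotientGroup.mk (⟨o, ho⟩ : O))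
    obtain ⟨k, hk⟩ := Subgroup.mem_subgroupOf.1 (QuotientGroup.eq.1 hq)
    have hk' : b ^ k = (φ q.out : G)⁻¹ * o := hk
    have ho' : o = (φ q.out : G) * b ^ k := by rw [hk', mul_inv_cancel_left]
    have hcom : Commute (φ q.out : G) (b ^ k) := (hcomm _ (φ q.out).2).zpow_right k
    rw [ho', ← conj_mul, hφinv, hinvB ⟨k, rfl⟩]
    refine ⟨k + k, ?_⟩
    show b ^ (k + k) = _
    rw [zpow_add]
    calc b ^ k * b ^ k = (φ q.out : G)⁻¹ * ((φ q.out : G) * b ^ k) * b ^ k := by group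
      _ = (φ q.out : G)⁻¹ * (b ^ k * (φ q.out : G)) * b ^ k := by rw [hcom.eq]
      _ = _ := by group
  refine ⟨O, hOC, hcardO ▸ hOodd, hbO', ?_, hmem, hinvert, fun o ho o' ho' => ?_⟩
  · have h := Subgroup.card_mul_index O'
    rw [hidx] at h
    rw [hcardO, ← h, mul_comm]
  · have h1 := hinvert _ (inv_mem ho)
    have h2 := hinvert _ (inv_mem ho')
    have h3 := hinvert _ (mul_mem (inv_mem ho) (inv_mem ho'))
    obtain ⟨i, hi⟩ := h1
    obtain ⟨j, hj⟩ := h2
    obtain ⟨l, hl⟩ := h3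
    have hi' : t * o⁻¹ * t⁻¹ = b ^ i * o := by rw [show b ^ i = _ from hi]; group
    have hj' : t * o'⁻¹ * t⁻¹ = b ^ j * o' := by rw [show b ^ j = _ from hj]; group
    have hl' : t * (o⁻¹ * o'⁻¹) * t⁻¹ = b ^ l * (o' * o) := by rw [show b ^ l = _ from hl]; group
    rw [← conj_mul, hi', hj'] at hl'
    have hc1 : o * b ^ j = b ^ j * o := ((hcomm o ho).zpow_right j).eq
    have hc2 : b ^ i * o * (b ^ j * o') = b ^ i * b ^ j * (o * o') := by
      rw [mul_assoc (b ^ i), ← mul_assoc o, hc1]; group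
    refine ⟨-(i + j) + l, ?_⟩
    show b ^ (-(i + j) + l) = _
    have h4 : o * o' = (b ^ i * b ^ j)⁻¹ * (b ^ l * (o' * o)) := by
      rw [← hl', hc2]; group
    rw [h4]
    simp only [mul_inv_rev, mul_assoc, mul_inv_cancel_left, mul_inv_cancel, mul_one]
    rw [zpow_add, zpow_neg, zpow_add, mul_inv_rev, mul_assoc]

end Cfsg.Agent.Spor.JFour.Eleven
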