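import Cfsg.Agent.Lib.Spor.JFourEleven.AutM22
import Cfsg.Agent.Lib.Spor.JFourLoc.Group
import Cfsg.Agent.Lib.Spor.JFourClassThree
import Cfsg.Agent.Lib.Spor.JFourLoc.Five

/-!
Elements of order eleven in the centraliser of the involution.
-/

set_option autoImplicit false
set_option maxRecDepth 100000
set_option linter.unusedSectionVars false

namespace Cfsg.Agent.Spor.JFour

open Cfsg.Agent.Spor.SUSix (V6 code code_lt vecOf_code)
open Cfsg.Agent.Spor.CC
open Cfsg.Agent.Spor.SpFour (F4)
open Cfsg.Agent.Small.Unitary (herm)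

/-- the check on the fixed vectors of the element of order eleven -/
theorem fixA_ok : ((List.range 4096).all fun k => !Nat.beq (Chk.app Chk.cA k) k || (Nat.beq k 0 || Chk.qb k)) = true ∧
    ((List.range 4096).filter fun k => Nat.beq (Chk.app Chk.cA k) k).length = 4 := by
  decide +kernel

attribute [local irreducible] wd gP Gam Kp Chk.app

theorem fixA_facts : (Fx gA).ncard = 4 ∧ ∀ v, gA v = v → v ≠ 0 → herm v v ≠ 0 := by
  have hA : AddP gA := (gP_spec 0).1
  have cA : cols gA = Chk.cA := (gP_spec 0).2.1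
  obtain ⟨h1, h2⟩ := fixA_ok
  constructor
  · rw [← count_code (fun k => Nat.beq (Chk.app Chk.cA k) k) h2]
    congr 1
    ext v
    simp only [Fx, Set.mem_setOf_eq]
    rw [← cA, beq_fix hA]
  · intro v hv hv0 h0
    simp only [List.all_eq_true, List.mem_range, Bool.or_eq_true, Bool.not_eq_true'] at h1
    rcases h1 (code v) (code_lt v) with h | h | h
    · rw [← cA, (beq_fix hA).2 hv] at h
      exact Bool.false_ne_true h.symm
    · exact hv0 (code_inj ((Nat.eq_of_beq_eq_true h).trans code_zero.symm))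
    · rw [qb_spec, if_pos h] at h0
      exact one_ne_zero h0

universe u

variable {G : Type u} [Group G] [Finite G] {z : G} {Q N : Subgroup G} {x : G}
variable (S : Big z Q N x) (f : Frame z Q x)

include S f

theorem Big.standard_eleven {c : Subgroup.centralizer ({z} : Set G)} (hc : c ^ 11 = 1) (hc1 : c ≠ 1) :
    ∃ f' : Frame z Q x, Fx (f'.π c) = Fx gA := by
  haveI : Fact (Nat.Prime 11) := ⟨by norm_num⟩
  obtain ⟨hg11, hg1, -⟩ := gA_facts
  have hcK := f.odd_Kp S.base hc (by decide)
  have hπ1 : f.π c ≠ 1 := fun e => hc1 (f.eq_one_of_pow S.base hc (by decide) e)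
  have hd : 11 ∣ Nat.card Kp := by rw [card_Kp f.mdl]; norm_num
  have hnd : ¬ 11 * 11 ∣ Nat.card Kp := by rw [card_Kp f.mdl]; norm_num
  have hcard : ∀ u : Kp, (u : PV) ^ 11 = 1 → (u : PV) ≠ 1 → Nat.card (Subgroup.zpowers u) = 11 := fun u h h' => by
    rw [Nat.card_zpowers]
    exact orderOf_eq_prime (Subtype.ext (by rw [SubmonoidClass.coe_pow]; exact h)) fun e => h' (congrArg Subtype.val e)
  obtain ⟨k, hk⟩ := M22U.PrimeCount.conj_of_card (p := 11) (by norm_num) hd hnd
    (hcard ⟨f.π c, hcK⟩ (by show f.π c ^ 11 = 1; rw [← map_pow, hc, map_one]) hπ1) (hcard ⟨gA, gA_mem⟩ hg11 hg1)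
  obtain ⟨f', hf', -⟩ := f.twist k.2
  refine ⟨f', ?_⟩
  have hk' : k * ⟨f.π c, hcK⟩ * k⁻¹ ∈ Subgroup.zpowers (⟨gA, gA_mem⟩ : Kp) := hk ▸ ⟨_, Subgroup.mem_zpowers _, rfl⟩
  obtain ⟨i, hi⟩ := hk'
  have hi' : gA ^ i = f'.π c := by rw [hf']; exact congrArg Subtype.val hi
  have h1' : f'.π c ≠ 1 := by rw [hf']; exact fun e => hπ1 (conj_eq_one_iff.1 e)
  obtain ⟨l, hl⟩ := zpowers_gen hg11 ⟨i, hi'⟩ h1'
  have hl' : f'.π c ^ l = gA := hl
  ext v
  constructor
  · intro hv
    have hv' : f'.π c ∈ MulAction.stabilizer PV v := MulAction.mem_stabilizer_iff.2 hv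
    have := (Subgroup.zpow_mem _ hv' l)
    rw [hl'] at this
    exact MulAction.mem_stabilizer_iff.1 this
  · intro hv
    have hv' : gA ∈ MulAction.stabilizer PV v := MulAction.mem_stabilizer_iff.2 hv
    have := (Subgroup.zpow_mem _ hv' i)
    rw [hi'] at this
    exact MulAction.mem_stabilizer_iff.1 this

/-- the fixed part in the kernel of an element of order eleven -/
theorem Big.fix_eleven {a : G} (ha : orderOf a = 11) (haz : Commute a z) :
    Nat.card (Q ⊓ Subgroup.centralizer ({a} : Set G) : Subgroup G) = 8 ∧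
    ∀ u ∈ Q, Commute u a → u * u = 1 → u = 1 ∨ u = z := by
  set c : Subgroup.centralizer ({z} : Set G) := ⟨a, Subgroup.mem_centralizer_singleton_iff.2 haz.eq⟩
  have hc : c ^ 11 = 1 := Subtype.ext (by rw [SubmonoidClass.coe_pow]; exact ha ▸ pow_orderOf_eq_one a)
  have hc1 : c ≠ 1 := fun e => by
    rw [show a = 1 from congrArg Subtype.val e, orderOf_one] at ha; norm_num at ha
  obtain ⟨f', hf'⟩ := S.standard_eleven f hc hc1
  refine ⟨?_, fun u hu hua hu2 => ?_⟩
  · rw [show ({a} : Set G) = {(c : G)} from rfl, f'.card_fix S.base hc (by decide), hf', fixA_facts.1]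
  · by_contra hne
    push Not at hne
    have h1 : f'.π c (f'.vec u) = f'.vec u := (f'.comm_iff_fix S.base hc (by decide) hu).1 hua.symm
    have h2 : f'.vec u ∈ Fx gA := hf' ▸ h1
    exact fixA_facts.2 _ h2 (f'.vec_ne S.base hu hne.1 hne.2) ((f'.sq_iff u hu).1 hu2)

/-- the quotient map to the automorphism group -/
theorem Big.quot_map : ∃ F : Subgroup.centralizer ({z} : Set G) →* MulAut (Subtype fun y => y ∈ Cfsg.Spor.M22),
    Function.Surjective F ∧ (∀ c : Subgroup.centralizer ({z} : Set G), F c = 1 ↔ (c : G) ∈ N) ∧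
    ¬ 11 ∣ Nat.card F.ker := by
  obtain ⟨F, hs, hk⟩ := S.base.quot
  refine ⟨F, hs, hk, fun h => ?_⟩
  have e : Nat.card F.ker = Nat.card N :=
    Nat.card_congr
      { toFun := fun c => ⟨(c.1 : G), (hk c.1).1 c.2⟩
        invFun := fun n => ⟨⟨n, Subgroup.mem_centralizer_singleton_iff.2 (S.base.le n n.2)⟩, (hk _).2 n.2⟩
        left_inv := fun _ => rfl
        right_inv := fun _ => rfl }
  rw [e, S.base.cardN, S.base.ord.cardQ] at h
  norm_num at h

/-- the part of the middle subgroup centralising an element of order eleven -/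
theorem Big.middle_eleven {a : G} (ha : orderOf a = 11) (haz : Commute a z) :
    Nat.card (N ⊓ Subgroup.centralizer ({a} : Set G) : Subgroup G) = 24 := by
  classical
  haveI : Fact (Nat.Prime 11) := ⟨by norm_num⟩
  haveI : Fact (Nat.Prime 3) := ⟨Nat.prime_three⟩
  set c : Subgroup.centralizer ({z} : Set G) := ⟨a, Subgroup.mem_centralizer_singleton_iff.2 haz.eq⟩
  have hc : c ^ 11 = 1 := Subtype.ext (by rw [SubmonoidClass.coe_pow]; exact ha ▸ pow_orderOf_eq_one a)
  set M := (N ⊓ Subgroup.centralizer ({a} : Set G)).subgroupOf (Subgroup.centralizer ({z} : Set G)) with hM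
  have hr : (f.π.comp M.subtype).range = Subgroup.zpowers gW := by
    refine le_antisymm ?_ (Subgroup.zpowers_le.2 ?_)
    · rintro _ ⟨m, rfl⟩
      exact (f.N_iff S.base m.1).1 (Subgroup.mem_subgroupOf.1 m.2).1
    · obtain ⟨h, hh, he⟩ := f.norm_lift S.base (q := 11) (by norm_num) hc (Kp_le gW_mem) (k := 1) (by
        rw [pow_one, ((gW_comm (Kp_le_LinG (f.odd_Kp S.base hc (by decide)))).eq), mul_inv_cancel_right])
      rw [pow_one] at he
      refine ⟨⟨h, Subgroup.mem_subgroupOf.2 ⟨(f.N_iff S.base h).2 (by rw [hh]; exact Subgroup.mem_zpowers _),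
        Subgroup.mem_centralizer_singleton_iff.2 (congrArg Subtype.val (mul_inv_eq_iff_eq_mul.1 he))⟩⟩, hh⟩
  have e1 : Nat.card (N ⊓ Subgroup.centralizer ({a} : Set G) : Subgroup G) = Nat.card M :=
    (Nat.card_congr (Subgroup.subgroupOfEquivOfLe (show N ⊓ Subgroup.centralizer ({a} : Set G) ≤
      Subgroup.centralizer ({z} : Set G) from fun n hn =>
        Subgroup.mem_centralizer_singleton_iff.2 (S.base.le n hn.1))).toEquiv).symm
  rw [e1, Subgroup.card_eq_card_quotient_mul_card_subgroup (f.π.comp M.subtype).ker,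
    Nat.card_congr (QuotientGroup.quotientKerEquivRange _).toEquiv, hr, Nat.card_zpowers,
    orderOf_eq_prime gW_facts.1 gW_facts.2]
  have e2 : Nat.card (f.π.comp M.subtype).ker = Nat.card (Q ⊓ Subgroup.centralizer ({a} : Set G) : Subgroup G) :=
    Nat.card_congr
      { toFun := fun m => ⟨((m.1.1 : Subgroup.centralizer ({z} : Set G)) : G),
          (f.ker m.1.1).1 m.2, (Subgroup.mem_subgroupOf.1 m.1.2).2⟩
        invFun := fun r => ⟨⟨⟨r, S.base.mem_C r.2.1⟩, Subgroup.mem_subgroupOf.2 ⟨S.base.QN r.2.1, r.2.2⟩⟩,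
          (f.ker ⟨(r : G), S.base.mem_C r.2.1⟩).2 r.2.1⟩
        left_inv := fun _ => rfl
        right_inv := fun _ => rfl }
  rw [e2, (S.fix_eleven f ha haz).1]

/-- the centraliser of an element of order eleven inside the centraliser of the involution -/
theorem Big.cent_eleven {a : G} (ha : orderOf a = 11) (haz : Commute a z) :
    Nat.card (Subgroup.centralizer ({z} : Set G) ⊓ Subgroup.centralizer ({a} : Set G) : Subgroup G) = 264 ∧
    (∀ i, Commute i z → Commute i a → i * i = 1 → i = 1 ∨ i = z) ∧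
    (∀ k : ℕ, ¬ 11 ∣ k → ∃ c, Commute c z ∧ c * a * c⁻¹ = a ^ k) := by
  classical
  haveI : Fact (Nat.Prime 11) := ⟨by norm_num⟩
  obtain ⟨F, hs, hk, h11⟩ := S.quot_map f
  set aC : Subgroup.centralizer ({z} : Set G) := ⟨a, Subgroup.mem_centralizer_singleton_iff.2 haz.eq⟩ with haC
  have hao : orderOf aC = 11 := by rw [← Subgroup.orderOf_coe]; exact ha
  refine ⟨?_, ?_, ?_⟩
  · have h := Eleven.card_cent F h11 hao
    have e1 : Nat.card (Subgroup.centralizer ({z} : Set G) ⊓ Subgroup.centralizer ({a} : Set G) : Subgroup G) =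
        Nat.card (Subgroup.centralizer ({aC} : Set (Subgroup.centralizer ({z} : Set G)))) :=
      Nat.card_congr
        { toFun := fun c => ⟨⟨c.1, c.2.1⟩, Subgroup.mem_centralizer_singleton_iff.2
            (Subtype.ext (Subgroup.mem_centralizer_singleton_iff.1 c.2.2))⟩
          invFun := fun c => ⟨c.1.1, c.1.2, Subgroup.mem_centralizer_singleton_iff.2
            (congrArg Subtype.val (Subgroup.mem_centralizer_singleton_iff.1 c.2))⟩
          left_inv := fun _ => rfl
          right_inv := fun _ => rfl }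
    have e2 : Nat.card (F.ker ⊓ Subgroup.centralizer ({aC} : Set (Subgroup.centralizer ({z} : Set G))) : Subgroup _) =
        Nat.card (N ⊓ Subgroup.centralizer ({a} : Set G) : Subgroup G) :=
      Nat.card_congr
        { toFun := fun c => ⟨c.1.1, (hk c.1).1 c.2.1, Subgroup.mem_centralizer_singleton_iff.2
            (congrArg Subtype.val (Subgroup.mem_centralizer_singleton_iff.1 c.2.2))⟩
          invFun := fun n => ⟨⟨n, Subgroup.mem_centralizer_singleton_iff.2 (S.base.le n n.2.1)⟩, (hk _).2 n.2.1,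
            Subgroup.mem_centralizer_singleton_iff.2
              (Subtype.ext (Subgroup.mem_centralizer_singleton_iff.1 n.2.2))⟩
          left_inv := fun _ => rfl
          right_inv := fun _ => rfl }
    rw [e1, h, e2, S.middle_eleven f ha haz]
  · intro i hiz hia hi2
    set iC : Subgroup.centralizer ({z} : Set G) := ⟨i, Subgroup.mem_centralizer_singleton_iff.2 hiz.eq⟩
    have hi2' : iC * iC = 1 := Subtype.ext hi2
    obtain ⟨j, hj⟩ := Eleven.image_cent F h11 hao (c := iC) (Subtype.ext hia.eq)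
    have h1 : F iC ^ 2 = 1 := by rw [pow_two, ← map_mul, hi2', map_one]
    have h2 : F iC ^ 11 = 1 := by
      rw [hj, ← zpow_natCast, ← zpow_mul, mul_comm, zpow_mul, zpow_natCast, ← map_pow, ← hao, pow_orderOf_eq_one,
        map_one, one_zpow]
    have h3 : F iC = 1 := by
      have := pow_gcd_eq_one.2 ⟨h1, h2⟩
      rwa [show Nat.gcd 2 11 = 1 from rfl, pow_one] at this
    have hiQ : i ∈ Q := by
      refine (f.ker iC).1 ?_
      rcases gW_cases ((f.N_iff S.base iC).1 ((hk iC).1 h3)) with e | e | e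
      · exact e
      · have h4 : f.π iC * f.π iC = 1 := by rw [← map_mul, hi2', map_one]
        rw [e] at h4
        have h5 := gW_facts.1
        rw [pow_succ, pow_two, h4, one_mul] at h5
        exact absurd h5 gW_facts.2
      · have h4 : f.π iC * f.π iC = 1 := by rw [← map_mul, hi2', map_one]
        rw [e, show gW * gW * (gW * gW) = gW ^ 3 * gW by rw [pow_succ, pow_two]; group, gW_facts.1, one_mul] at h4
        exact absurd h4 gW_facts.2
    exact (S.fix_eleven f ha haz).2 i hiQ hia hi2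
  · intro k hk'
    obtain ⟨c, hc⟩ := Eleven.conj_pow F h11 hs hao hk'
    refine ⟨(c : G), Subgroup.mem_centralizer_singleton_iff.1 c.2, ?_⟩
    have := congrArg Subtype.val hc
    simpa using this

/-- elements acting trivially on the fixed part of an element of order eleven -/
theorem Big.moved_eleven {a u : G} (ha : orderOf a = 11) (haz : Commute a z)
    (hu : (u ∈ N ∧ Commute u a) ∨ (Commute u z ∧ u * a * u⁻¹ = a⁻¹))
    (hcen : ∀ q ∈ Q, Commute q a → Commute u q) : u ∈ Q := by
  classical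
  haveI : Fact (Nat.Prime 11) := ⟨by norm_num⟩
  set c : Subgroup.centralizer ({z} : Set G) := ⟨a, Subgroup.mem_centralizer_singleton_iff.2 haz.eq⟩
  have hc : c ^ 11 = 1 := Subtype.ext (by rw [SubmonoidClass.coe_pow]; exact ha ▸ pow_orderOf_eq_one a)
  have huz : Commute u z := by
    rcases hu with h | h
    · exact S.base.le u h.1
    · exact h.1
  set uC : Subgroup.centralizer ({z} : Set G) := ⟨u, Subgroup.mem_centralizer_singleton_iff.2 huz.eq⟩
  -- a fixed vector
  obtain ⟨q, hqQ, hqa, hq1, hqz⟩ : ∃ q ∈ Q, Commute q a ∧ q ≠ 1 ∧ q ≠ z := by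
    by_contra hno
    push Not at hno
    have hle : Q ⊓ Subgroup.centralizer ({a} : Set G) ≤ Subgroup.zpowers z := fun r hr => by
      by_cases r1 : r = 1
      · rw [r1]; exact one_mem _
      · rw [hno r hr.1 (Subgroup.mem_centralizer_singleton_iff.1 hr.2) r1]; exact Subgroup.mem_zpowers z
    have := Subgroup.card_le_of_le hle
    rw [(S.fix_eleven f ha haz).1, Nat.card_zpowers, S.base.zord] at this
    omega
  set v := f.vec q with hv
  have hv0 : v ≠ 0 := f.vec_ne S.base hqQ hq1 hqz
  have hcv : f.π c v = v := (f.comm_iff_fix S.base hc (by decide) hqQ).1 hqa.symm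
  -- everything fixed by `a` is fixed by `u`
  have hall : ∀ w, f.π c w = w → f.π uC w = w := by
    intro w hw
    obtain ⟨r, hr, rfl⟩ := f.vec_surj w
    have hra : Commute r a := ((f.comm_iff_fix S.base hc (by decide) hr).2 hw).symm
    rw [← f.vec_conj uC r hr]
    show f.vec (u * r * u⁻¹) = _
    rw [(hcen r hr hra).eq, mul_inv_cancel_right]
  have hne : ∀ r : F4, r ≠ 1 → r • v ≠ v := fun r hr e => by
    have : (r - 1) • v = 0 := by rw [sub_smul, e, one_smul, sub_self]
    rcases smul_eq_zero.1 this with h | h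
    · exact hr (sub_eq_zero.1 h)
    · exact hv0 h
  have hw1 : F4.w ≠ 1 ∧ F4.w * F4.w ≠ 1 ∧ F4.w * F4.w ≠ F4.w := by decide +kernel
  by_cases hK : f.π uC ∈ Kp
  · rcases hu with ⟨huN, -⟩ | ⟨-, hinv⟩
    · refine (f.ker uC).1 ?_
      rcases gW_cases ((f.N_iff S.base uC).1 huN) with e | e | e
      · exact e
      · have := hall v hcv
        rw [e, gW_apply] at this
        exact absurd this (hne _ hw1.1)
      · have := hall v hcv
        rw [e, Equiv.Perm.mul_apply, gW_apply, gW_apply, smul_smul] at this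
        exact absurd this (hne _ hw1.2.1)
    · exfalso
      obtain ⟨ψ, O⟩ := f.mdl
      have hcK := f.odd_Kp S.base hc (by decide)
      have h3 : (⟨f.π uC, hK⟩ : Kp) * ⟨f.π c, hcK⟩ * (⟨f.π uC, hK⟩ : Kp)⁻¹ = (⟨f.π c, hcK⟩ : Kp)⁻¹ :=
        Subtype.ext (by
          show f.π uC * f.π c * (f.π uC)⁻¹ = (f.π c)⁻¹
          rw [← map_inv, ← map_inv, ← map_mul, ← map_mul]
          exact congrArg f.π (Subtype.ext hinv))
      have h4 := congrArg ψ h3
      rw [map_mul, map_mul, map_inv, map_inv] at h4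
      refine Eleven.not_inverted ?_ h4
      refine orderOf_eq_prime ?_ fun e => ?_
      · rw [← map_pow, show (⟨f.π c, hcK⟩ : Kp) ^ 11 = 1 from Subtype.ext (by
          show f.π c ^ 11 = 1
          rw [← map_pow, hc, map_one]), map_one]
      · have hg := (O.ker _).1 e
        have h33 : f.π c ^ 3 = 1 := by
          obtain ⟨k, hk⟩ := hg
          rw [← show gW ^ k = f.π c from hk, ← zpow_natCast, ← zpow_mul, mul_comm, zpow_mul, zpow_natCast,
            gW_facts.1, one_zpow]
        have h11 : f.π c ^ 11 = 1 := by rw [← map_pow, hc, map_one]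
        have h1 := pow_gcd_eq_one.2 ⟨h33, h11⟩
        rw [show Nat.gcd 3 11 = 1 from rfl, pow_one] at h1
        have := f.eq_one_of_pow S.base hc (by decide) h1
        rw [show a = 1 from congrArg Subtype.val this, orderOf_one] at ha
        norm_num at ha
  · exfalso
    have hG : f.π uC ∈ Gam := (f.range _).2 ⟨uC, rfl⟩
    have hnc : ¬ Commute (f.π uC) gW := fun h => hK ((comm_gW_iff hG).1 h)
    have h := (f.N_iff S.base (uC * S.base.xC * uC⁻¹)).1 (S.base.N_normal huz S.base.xN)
    rw [map_mul, map_mul, map_inv, f.pi_x S.base.xC rfl] at h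
    rcases gW_cases h with e | e | e
    · exact gW_facts.2 (conj_eq_one_iff.1 e)
    · exact hnc (mul_inv_eq_iff_eq_mul.1 e)
    · have hwv : f.π c (F4.w • v) = F4.w • v := by
        rw [(Kp_le_LinG (f.odd_Kp S.base hc (by decide)) : Lin (f.π c)).smul, hcv]
      have e1 := hall _ hwv
      have e2 : f.π uC (gW v) = (gW * gW) (f.π uC v) := by
        rw [← e]; simp
      rw [gW_apply, e1, hall v hcv, Equiv.Perm.mul_apply, gW_apply, gW_apply, smul_smul] at e2
      have e3 : (F4.w * F4.w - F4.w) • v = 0 := by rw [sub_smul, ← e2, sub_self]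
      rcases smul_eq_zero.1 e3 with h' | h'
      · exact hw1.2.2 (sub_eq_zero.1 h')
      · exact hv0 h'

end Cfsg.Agent.Spor.JFour
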