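import Cfsg.Agent.Lib.Spor.JFourEleven.CentB
import Cfsg.Agent.Lib.Spor.JFourEleven.CSide
import Cfsg.Agent.Lib.Spor.JFourLoc.SevenTop

/-!
The facts needed about the element of order eleven, for a group of Janko four type.
-/

set_option autoImplicit false
set_option maxRecDepth 100000
set_option linter.unusedSectionVars false

namespace Cfsg.Agent.Spor.JFour

open Cfsg.Agent.Spor.LFT (iT)

attribute [local irreducible] Gam Kp Chk.app

/-- two involutions of `M24` whose product has order four -/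
theorem eightPair_facts :
    (psig * (pd * pa * pt * psig * (pd * pa * pt)⁻¹)) ^ 4 = 1 ∧
    (psig * (pd * pa * pt * psig * (pd * pa * pt)⁻¹)) ^ 2 ≠ 1 := by
  decide +kernel

/-- a Sylow two-subgroup of `M24` is not commutative -/
theorem m24_sylow_noncomm (A : Subgroup Cfsg.M24) (hA : Nat.card A = 2 ^ 10) :
    ¬ ∀ a ∈ A, ∀ c ∈ A, Commute a c := by
  classical
  intro hab
  haveI : Fact (Nat.Prime 2) := ⟨Nat.prime_two⟩
  obtain ⟨h4, h2⟩ := eightPair_facts
  set gg : Equiv.Perm GolayPt := pd * pa * pt with hgg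
  have hggm : gg ∈ Cfsg.M24 := mul_mem (mul_mem pd_mem.1.1 pa_mem.1.1) pt_mem.1.1
  set u : Cfsg.M24 := ⟨psig, psig_mem⟩
  set v : Cfsg.M24 := ⟨gg * psig * gg⁻¹, mul_mem (mul_mem hggm psig_mem) (inv_mem hggm)⟩
  have hu2 : u * u = 1 := Subtype.ext psig_sq
  have hv2 : v * v = 1 := Subtype.ext (by
    show gg * psig * gg⁻¹ * (gg * psig * gg⁻¹) = 1
    rw [conj_mul, psig_sq, mul_one, mul_inv_cancel])
  set r := u * v with hr
  have hr4 : r ^ 4 = 1 := Subtype.ext (by rw [SubmonoidClass.coe_pow]; exact h4)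
  have hr2 : r ^ 2 ≠ 1 := fun e => h2 (by
    have e' : ((r ^ 2 : Cfsg.M24) : Equiv.Perm GolayPt) = 1 := congrArg Subtype.val e
    rw [SubmonoidClass.coe_pow] at e'
    exact e')
  have huinv : u⁻¹ = u := inv_eq_of_mul_eq_one_right hu2
  have hur : u * r * u⁻¹ = r⁻¹ := by
    rw [hr, huinv, mul_inv_rev, inv_eq_of_mul_eq_one_right hv2, huinv, ← mul_assoc, hu2, one_mul]
  have hn : Subgroup.zpowers u ≤ Subgroup.normalizer (Subgroup.zpowers r : Set Cfsg.M24) := by
    refine Subgroup.zpowers_le.2 (Subgroup.mem_normalizer_fintype ?_)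
    rintro _ ⟨i, rfl⟩
    show u * r ^ i * u⁻¹ ∈ (Subgroup.zpowers r : Set Cfsg.M24)
    rw [← conj_zpow, hur]
    exact Subgroup.zpow_mem _ (inv_mem (Subgroup.mem_zpowers r)) i
  have hP1 : IsPGroup 2 (Subgroup.zpowers r) := by
    intro y
    obtain ⟨i, hi⟩ := y.2
    refine ⟨2, Subtype.ext ?_⟩
    rw [SubmonoidClass.coe_pow, ← show r ^ i = (y : Cfsg.M24) from hi, ← zpow_natCast, ← zpow_mul, mul_comm, zpow_mul,
      zpow_natCast, show r ^ (2 ^ 2) = 1 from hr4, one_zpow, OneMemClass.coe_one]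
  have hP2 : IsPGroup 2 (Subgroup.zpowers u) := by
    intro y
    obtain ⟨i, hi⟩ := y.2
    refine ⟨1, Subtype.ext ?_⟩
    rw [SubmonoidClass.coe_pow, ← show u ^ i = (y : Cfsg.M24) from hi, ← zpow_natCast, ← zpow_mul, mul_comm, zpow_mul,
      zpow_natCast, show u ^ (2 ^ 1) = 1 by rw [pow_one, pow_two, hu2], one_zpow, OneMemClass.coe_one]
  have hP : IsPGroup 2 (Subgroup.zpowers r ⊔ Subgroup.zpowers u : Subgroup Cfsg.M24) :=
    hP1.to_sup_of_normal_left' hP2 hn
  obtain ⟨T, hT⟩ := hP.exists_le_sylow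
  have hfac : (Nat.card Cfsg.M24).factorization 2 = 10 := by
    rw [Spor.card_M24, Nat.factorization_def _ Nat.prime_two, show (244823040 : ℕ) = 2 ^ 10 * 239085 by norm_num,
      padicValNat.mul (by norm_num) (by norm_num), padicValNat.prime_pow, padicValNat.eq_zero_of_not_dvd (by norm_num)]
  let SA : Sylow 2 Cfsg.M24 := Sylow.ofCard A (by rw [hA, hfac])
  obtain ⟨k, hk⟩ := MulAction.exists_smul_eq Cfsg.M24 T SA
  have hin : ∀ y ∈ (T : Subgroup Cfsg.M24), k * y * k⁻¹ ∈ A := fun y hy => by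
    have : MulAut.conj k • y ∈ (k • T : Sylow 2 Cfsg.M24) := Subgroup.smul_mem_pointwise_smul _ (MulAut.conj k) _ hy
    rw [hk] at this
    exact this
  have huT : u ∈ (T : Subgroup Cfsg.M24) := hT (Subgroup.mem_sup_right (Subgroup.mem_zpowers u))
  have hrT : r ∈ (T : Subgroup Cfsg.M24) := hT (Subgroup.mem_sup_left (Subgroup.mem_zpowers r))
  have hc : Commute u r := (Commute.conj_iff k).1 (hab _ (hin u huT) _ (hin r hrT))
  rw [hc.eq, mul_inv_cancel_right] at hur
  exact hr2 (by rw [pow_two]; exact eq_inv_iff_mul_eq_one.1 hur)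

universe u

variable {G : Type u} [Group G] [Finite G] {z : G} {Q N : Subgroup G} {x : G}
variable (S : Big z Q N x) (f : Frame z Q x)

theorem card_cent_single (g i : G) :
    Nat.card (Subgroup.centralizer ({g * i * g⁻¹} : Set G)) = Nat.card (Subgroup.centralizer ({i} : Set G)) := by
  have e : ∀ v : G, Subgroup.centralizer ({v} : Set G) ⊓ Subgroup.centralizer ({(1 : G)} : Set G) =
      Subgroup.centralizer ({v} : Set G) := fun v =>
    inf_eq_left.2 fun c _ => Subgroup.mem_centralizer_singleton_iff.2 (by rw [mul_one, one_mul])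
  have h := Eleven.card_cent_conj g i 1
  rwa [mul_one, mul_inv_cancel, e, e] at h

include S f

/-- the centraliser of an element of order five has no element of order eleven -/
theorem Big.no_five_eleven {p d : G} (hp : orderOf p = 5) (hd : orderOf d = 11) : ¬ Commute p d := by
  classical
  haveI : Fact (Nat.Prime 5) := ⟨by norm_num⟩
  intro hc
  obtain ⟨p₀, hp₀⟩ := exists_prime_orderOf_dvd_card' (G := Subgroup.centralizer ({z} : Set G)) 5
    (by rw [S.card_C f]; norm_num)
  set q : G := (p₀ : G) with hq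
  have hqo : orderOf q = 5 := by rw [hq, Subgroup.orderOf_coe, hp₀]
  have hq5 : q ^ 5 = 1 := hqo ▸ pow_orderOf_eq_one q
  have hq1 : q ≠ 1 := fun e => by rw [e, orderOf_one] at hqo; norm_num at hqo
  have hqz : Commute q z := Subgroup.mem_centralizer_singleton_iff.1 p₀.2
  obtain ⟨E, J, d', T⟩ := S.five_top f hq5 hq1 hqz
  have hf5 : 5 ∣ Nat.card G := hqo ▸ orderOf_dvd_natCard q
  obtain ⟨k, hk⟩ := M22U.PrimeCount.conj_of_card (p := 5) (by norm_num) hf5 T.n25
    (X := Subgroup.zpowers p) (Y := Subgroup.zpowers q)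
    (by rw [Nat.card_zpowers, hp]) (by rw [Nat.card_zpowers, hqo])
  have hkp : k * p * k⁻¹ ∈ Subgroup.zpowers q := hk ▸ ⟨p, Subgroup.mem_zpowers p, rfl⟩
  have hkp1 : k * p * k⁻¹ ≠ 1 := fun e => by
    rw [conj_eq_one_iff.1 e, orderOf_one] at hp; norm_num at hp
  obtain ⟨i, hi⟩ := zpowers_gen hq5 hkp hkp1
  have hmem : k * d * k⁻¹ ∈ Subgroup.centralizer ({q} : Set G) := by
    refine Subgroup.mem_centralizer_singleton_iff.2 ?_
    rw [← show (k * p * k⁻¹) ^ i = q from hi]
    exact (((Commute.conj_iff k).2 hc.symm).zpow_right i).eq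
  have h := Subgroup.orderOf_dvd_natCard _ hmem
  rw [← MulAut.conj_apply, show orderOf (MulAut.conj k d) = orderOf d from
    orderOf_injective (MulAut.conj k).toMonoidHom (MulAut.conj k).injective d, hd, T.loc.cardC] at h
  norm_num at h

/-- an involution and an element of order eleven commuting -/
theorem Big.invol_eleven {i d : G} (hi2 : i * i = 1) (hi1 : i ≠ 1) (hd : orderOf d = 11) (hdi : Commute d i) :
    Nat.card (Subgroup.centralizer ({i} : Set G) ⊓ Subgroup.centralizer ({d} : Set G) : Subgroup G) = 264 ∨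
    Nat.card (Subgroup.centralizer ({i} : Set G) ⊓ Subgroup.centralizer ({d} : Set G) : Subgroup G) = 22 := by
  by_cases hc : IsConj z i
  · exact Or.inl (S.cent_eleven_conj f hc hd hdi).1
  · obtain ⟨V, hVe, hVc, hiV⟩ := S.iT_in_V f hi2 ⟨hi1, hc⟩
    exact Or.inr (S.cent_eleven_t f hVe hVc hiV ⟨hi1, hc⟩ hd hdi).2.1

/-- the centraliser of an involution -/
theorem Big.invol_card {i : G} (hi2 : i * i = 1) (hi1 : i ≠ 1) :
    Nat.card (Subgroup.centralizer ({i} : Set G)) = 21799895040 ∨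
    Nat.card (Subgroup.centralizer ({i} : Set G)) = 1816657920 := by
  obtain ⟨A, hAe, hAc, -⟩ := S.A0_exists f
  obtain ⟨ψ, ⟨T⟩⟩ := S.exists_sect f hAe hAc
  rcases S.two_classes f hAe hAc T hi2 hi1 with h | h
  · obtain ⟨g, rfl⟩ := isConj_iff.1 h
    rw [card_cent_single, S.card_C f]
    left; norm_num
  · obtain ⟨g, rfl⟩ := isConj_iff.1 h
    rw [card_cent_single, T.card_cen S f hAe hAc]
    exact Or.inr rfl

/-- no element of order three has a centraliser with order divisible by `121` -/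
theorem Big.three_cent {y : G} (hy : orderOf y = 3) : ¬ 121 ∣ Nat.card (Subgroup.centralizer ({y} : Set G)) := by
  intro h
  obtain ⟨g, hg⟩ := isConj_iff.1 (S.one_class f hy)
  have e := card_cent_single g y
  rw [hg] at e
  have hle : Subgroup.centralizer ({x} : Set G) ≤ Subgroup.centralizer ({z} : Set G) := fun c hc =>
    Subgroup.mem_centralizer_singleton_iff.2 (S.cent_x f (Subgroup.mem_centralizer_singleton_iff.1 hc)).eq
  have h2 : 121 ∣ Nat.card (Subgroup.centralizer ({z} : Set G)) := (e.symm ▸ h).trans (Subgroup.card_dvd_of_le hle)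
  rw [S.card_C f] at h2
  norm_num at h2

/-- the setting of the key count -/
theorem Big.eleven_ctx : ∃ (V : Subgroup G) (t b : G) (π : ↥(Subgroup.normalizer (V : Set G)) →* Cfsg.M24),
    Cfsg.IsElementaryAbelian 2 V ∧ iT z t ∧ Eleven.Ctx V t b π := by
  classical
  haveI : Fact (Nat.Prime 11) := ⟨by norm_num⟩
  obtain ⟨hG, -⟩ := S.census f
  obtain ⟨V, hVe, hVc, -⟩ := S.A0_exists f
  obtain ⟨ψ, ⟨T⟩⟩ := S.exists_sect f hVe hVc
  obtain ⟨-, ψ', -, π, hπs, hπk, -⟩ := S.model_any f hVe hVc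
  obtain ⟨t2, t1, tnc⟩ := T.pair_invol
  set t := ψ OChkC.ntC with ht
  have htV : t ∈ V := T.pm.mem _ ntC_lt
  have hiT : iT z t := ⟨t1, tnc⟩
  obtain ⟨b₀, hb₀⟩ := exists_prime_orderOf_dvd_card' (G := Subgroup.centralizer ({t} : Set G)) 11
    (by rw [T.card_cen S f hVe hVc]; norm_num)
  set b : G := (b₀ : G) with hb
  have hbo : orderOf b = 11 := by rw [hb, Subgroup.orderOf_coe, hb₀]
  have hbt : Commute b t := Subgroup.mem_centralizer_singleton_iff.1 b₀.2
  obtain ⟨hbM, hcT, -⟩ := S.cent_eleven_t f hVe hVc htV hiT hbo hbt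
  have hfix := S.fixV_eleven f hVe hVc hbo fun v hv => (Subgroup.mem_normalizer_iff.1 hbM v).1 hv
  have hker : ∀ c, π c = 1 ↔ (c : G) ∈ V := fun c => by
    rw [← MonoidHom.mem_ker, hπk, Subgroup.mem_subgroupOf]
  have hM : Nat.card (Subgroup.normalizer (V : Set G)) = 501397585920 := by
    rw [Subgroup.card_eq_card_quotient_mul_card_subgroup π.ker,
      Nat.card_congr (QuotientGroup.quotientKerEquivOfSurjective π hπs).toEquiv, Spor.card_M24, hπk,
      Nat.card_congr (Subgroup.subgroupOfEquivOfLe Subgroup.le_normalizer).toEquiv, hVc]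
    norm_num
  have hcb : Nat.card (Subgroup.normalizer (V : Set G) ⊓ Subgroup.centralizer ({b} : Set G) : Subgroup G) = 22 := by
    rw [← hcT]
    congr 2
    refine le_antisymm (fun c hc => ⟨Subgroup.mem_centralizer_singleton_iff.2 ?_, hc.2⟩) (fun c hc => ⟨?_, hc.2⟩)
    · exact S.cen_pair f hVe hVc htV hiT (Subgroup.mem_centralizer_singleton_iff.1 hc.1)
    · have hcb' : Commute c b := Subgroup.mem_centralizer_singleton_iff.1 hc.2
      set W := V ⊓ Subgroup.centralizer ({b} : Set G) with hW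
      have htW : t ∈ W := ⟨htV, Subgroup.mem_centralizer_singleton_iff.2 hbt.symm.eq⟩
      have hmem : c * t * c⁻¹ ∈ W := by
        refine ⟨(Subgroup.mem_normalizer_iff.1 hc.1 t).1 htV, Subgroup.mem_centralizer_singleton_iff.2 ?_⟩
        have := (Commute.conj_iff c).2 hbt.symm
        rw [hcb'.eq, mul_inv_cancel_right] at this
        exact this.eq
      obtain ⟨y, -, hy⟩ := (Nat.card_eq_two_iff' (1 : W)).1 hfix
      have e1 : (⟨t, htW⟩ : W) = y := hy _ fun e => t1 (congrArg Subtype.val e)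
      have e2 : (⟨c * t * c⁻¹, hmem⟩ : W) = y := hy _ fun e => t1 (conj_eq_one_iff.1 (congrArg Subtype.val e))
      exact mul_inv_eq_iff_eq_mul.1 (congrArg Subtype.val (e2.trans e1.symm))
  refine ⟨V, t, b, π, hVe, hiT, ?_⟩
  refine
    { Vc := hVc
      sq := fun v hv => by rw [← pow_two]; exact hVe.2 v hv
      ker := hker
      cardM := hM
      tV := htV
      t1 := t1
      bo := hbo
      bM := hbM
      bt := hbt
      cb := hcb
      fixV := hfix
      cardG := hG
      hI := fun i d h1 h2 h3 h4 => S.invol_eleven f h1 h2 h3 h4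
      hI2 := fun i h1 h2 h => ?_
      cT := hcT
      h5 := fun p d h1 h2 => S.no_five_eleven f h1 h2
      h3 := fun y hy => S.three_cent f hy
      hS2 := m24_sylow_noncomm }
  rcases S.invol_card f h1 h2 with e | e <;> rw [e] at h <;> norm_num at h

end Cfsg.Agent.Spor.JFour
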