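import Mathlib

/-!
The arithmetic of the five large primes in the order of a group of Janko four type.
-/

set_option autoImplicit false
set_option maxRecDepth 100000

namespace Cfsg.Agent.Spor.JFour.Large

/-- the product of the five primes -/
def bigN : ℕ := 23 * 29 * 31 * 37 * 43

/-- the rest of the order -/
def smallM : ℕ := 2 ^ 21 * 3 ^ 3 * 5 * 7 * 11 ^ 3

/-- the divisors of `bigN` -/
def divN : List ℕ :=
  [23, 29, 31, 37, 43].foldr (fun q l => l ++ l.map (q * ·)) [1]

/-- whether a centraliser order and an automiser order fit the Sylow congruence -/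
def fits (p c m : ℕ) : Bool :=
  c % p == 0 && (p - 1) % m == 0 && (bigN * smallM) % (c * m) == 0 && (bigN * smallM / (c * m)) % p == 1

/-- the pairs of a centraliser order and a normaliser order for each prime -/
def optsOf (p : ℕ) : List (ℕ × ℕ) :=
  if p = 23 then [(23 * 31 * 43, 23 * 31 * 43), (23 * 29 * 31, 23 * 29 * 31 * 11), (23, 23 * 22),
    (23 * 29 * 37 * 43, 23 * 29 * 37 * 43 * 22)]
  else if p = 29 then [(29 * 31 * 43, 29 * 31 * 43), (29 * 43, 29 * 43 * 2), (29 * 31, 29 * 31 * 14), (29, 29 * 28)]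
  else if p = 31 then [(31 * 37 * 43, 31 * 37 * 43), (31 * 23 * 29 * 37 * 43, 31 * 23 * 29 * 37 * 43 * 2),
    (31 * 43, 31 * 43 * 6), (31, 31 * 10), (31 * 29 * 37 * 43, 31 * 29 * 37 * 43 * 15)]
  else if p = 37 then [(37 * 43, 37 * 43 * 2), (37 * 23 * 29 * 43, 37 * 23 * 29 * 43 * 2),
    (37 * 29 * 43, 37 * 29 * 43 * 9), (37, 37 * 12), (37 * 23 * 29, 37 * 23 * 29 * 12),
    (37 * 31 * 43, 37 * 31 * 43 * 12), (37 * 23 * 29 * 31 * 43, 37 * 23 * 29 * 31 * 43 * 12)]
  else [(43 * 31, 43 * 31 * 6), (43, 43 * 14), (43 * 29, 43 * 29 * 42), (43 * 31 * 37, 43 * 31 * 37 * 42)]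

/-- the five primes -/
def five : List ℕ := [23, 29, 31, 37, 43]

theorem opts_ok : (five.all fun p => divN.all fun c => (List.range p).all fun m =>
    !(fits p c m) || (optsOf p).contains (c, c * m)) = true := by
  decide +kernel

/-- the primes dividing one centraliser have the same data -/
def linked (d : List (ℕ × (ℕ × ℕ))) : Bool :=
  d.all fun a => d.all fun b => a.2.1 % b.1 != 0 || b.2 == a.2

theorem link_ok : ((optsOf 23).all fun a => (optsOf 29).all fun b => (optsOf 31).all fun c => (optsOf 37).all fun d =>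
    (optsOf 43).all fun e => !(linked [(23, a), (29, b), (31, c), (37, d), (43, e)]) || c.2 % 5 != 0 ||
      (a == (23, 23 * 22) && b == (29, 29 * 28) && c == (31, 31 * 10) && d == (37, 37 * 12) && e == (43, 43 * 14))) = true := by
  decide +kernel

theorem mem_divN {c : ℕ} (hc : c ∣ bigN) : c ∈ divN := by
  have h1 : ∀ {q : ℕ}, q.Prime → ∀ {c n : ℕ}, c ∣ q * n → c ∣ n ∨ ∃ c', c' ∣ n ∧ c = q * c' := by
    intro q hq c n h
    by_cases hqc : q ∣ c
    · obtain ⟨c', rfl⟩ := hqc
      exact Or.inr ⟨c', Nat.dvd_of_mul_dvd_mul_left hq.pos h, rfl⟩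
    · exact Or.inl (((hq.coprime_iff_not_dvd.2 hqc).symm).dvd_of_dvd_mul_left h)
  have h2 : ∀ l : List ℕ, (∀ q ∈ l, q.Prime) → ∀ c, c ∣ l.foldr (fun q n => q * n) 1 →
      c ∈ l.foldr (fun q s => s ++ s.map (q * ·)) [1] := by
    intro l
    induction l with
    | nil => intro _ c h; simpa using h
    | cons q l ih =>
      intro hl c h
      rcases h1 (hl q (List.mem_cons_self ..)) h with h' | ⟨c', h', rfl⟩
      · exact List.mem_append_left _ (ih (fun r hr => hl r (List.mem_cons_of_mem _ hr)) c h')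
      · exact List.mem_append_right _
          (List.mem_map.2 ⟨c', ih (fun r hr => hl r (List.mem_cons_of_mem _ hr)) c' h', rfl⟩)
  refine h2 [23, 29, 31, 37, 43] ?_ c (by rw [bigN] at hc; simpa using hc)
  intro q hq
  simp only [List.mem_cons, List.not_mem_nil, or_false] at hq
  rcases hq with rfl | rfl | rfl | rfl | rfl <;> norm_num

end Cfsg.Agent.Spor.JFour.Large
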