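import Cfsg.Agent.Lib.Spor.JFourEleven.CentA
import Cfsg.Agent.S3304

/-!
The normaliser of a Sylow eleven-subgroup.
-/

set_option autoImplicit false
set_option linter.unusedSectionVars false

namespace Cfsg.Agent.Spor.JFour

universe u

variable {G : Type u} [Group G] [Finite G] {z : G} {Q N : Subgroup G} {x : G}
variable (S : Big z Q N x) (f : Frame z Q x)
variable {a b t : G} {O : Subgroup G}

include S f

/-- conjugation inside the Sylow subgroup -/
theorem Big.sylow_eleven (E : ElevenCube a b O) (U : Sylow 11 G) :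
    ∃ g : G, (U : Subgroup G) = O.map (MulAut.conj g).toMonoidHom := by
  classical
  haveI : Fact (Nat.Prime 11) := ⟨by norm_num⟩
  obtain ⟨hG, -⟩ := S.census f
  let T : Sylow 11 G := Sylow.ofCard O (by
    rw [E.card, hG, Nat.factorization_def _ (by norm_num : Nat.Prime 11),
      show (86775571046077562880 : ℕ) = 11 ^ 3 * 65195770883604480 by norm_num,
      padicValNat.mul (by norm_num) (by norm_num), padicValNat.prime_pow,
      padicValNat.eq_zero_of_not_dvd (by norm_num)])
  obtain ⟨g, hg⟩ := MulAction.exists_smul_eq G T U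
  exact ⟨g, by rw [← hg]; rfl⟩

/-- two classes of elements of order eleven -/
theorem Big.eleven_classes : ∃ u v : G, orderOf u = 11 ∧ orderOf v = 11 ∧ ¬ IsConj u v ∧
    ∀ w : G, orderOf w = 11 → IsConj w u ∨ IsConj w v := by
  classical
  haveI : Fact (Nat.Prime 11) := ⟨by norm_num⟩
  obtain ⟨a, b, t, P⟩ := S.eleven_pair f
  obtain ⟨O, E⟩ := S.eleven_cube f P
  refine ⟨a, b, P.ao, P.bo, fun h => ?_, fun w hw => ?_⟩
  · obtain ⟨g, hg⟩ := isConj_iff.1 h
    have h2 := card_cent_single g a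
    rw [hg, P.bcard] at h2
    have h3 := P.big
    rw [← h2] at h3
    norm_num at h3
  · obtain ⟨U, hU⟩ := (IsPGroup.of_card (n := 1) (by rw [Nat.card_zpowers, hw, pow_one]) :
      IsPGroup 11 (Subgroup.zpowers w)).exists_le_sylow
    obtain ⟨g, hg⟩ := S.sylow_eleven f E U
    obtain ⟨o, ho, he⟩ : w ∈ O.map (MulAut.conj g).toMonoidHom := hg ▸ hU (Subgroup.mem_zpowers w)
    have hwo : IsConj o w := isConj_iff.2 ⟨g, he⟩
    by_cases hoa : o ∈ Subgroup.zpowers a
    · left
      obtain ⟨k, hk⟩ : o ∈ Submonoid.powers a := mem_powers_iff_mem_zpowers.2 hoa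
      have hk' : ¬ 11 ∣ k := fun hd => by
        have h1 : o = 1 := by
          rw [← show a ^ k = o from hk]; exact orderOf_dvd_iff_pow_eq_one.1 (P.ao.symm ▸ hd)
        rw [← he, h1, map_one, orderOf_one] at hw
        norm_num at hw
      obtain ⟨c, -, hc⟩ := (S.cent_eleven f P.ao P.az).2.2 k hk'
      exact hwo.symm.trans (isConj_iff.2 ⟨c, hc.trans hk⟩).symm
    · exact Or.inr (hwo.symm.trans (E.cover o ho hoa).symm)

theorem Big.eleven_normalizer (P : ElevenPair z a b t) (E : ElevenCube a b O) :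
    Subgroup.normalizer (O : Set G) = Subgroup.normalizer (Subgroup.zpowers a : Set G) ∧
    Nat.card (Subgroup.normalizer (O : Set G)) = 319440 := by
  classical
  haveI : Fact (Nat.Prime 11) := ⟨by norm_num⟩
  set A := Subgroup.zpowers a with hA
  have ha11 : a ^ 11 = 1 := P.ao ▸ pow_orderOf_eq_one a
  have hCA : Subgroup.centralizer (A : Set G) = Subgroup.centralizer ({a} : Set G) := by
    rw [hA, ← Subgroup.centralizer_closure ({a} : Set G), Subgroup.zpowers_eq_closure]
  have hNC : ∀ g ∈ Subgroup.normalizer (A : Set G), ∀ c, Commute c a → Commute (g * c * g⁻¹) a := by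
    intro g hg c hc
    obtain ⟨i, hi⟩ := (Subgroup.mem_normalizer_iff''.1 hg a).1 (Subgroup.mem_zpowers a)
    have h := (Commute.conj_iff g).2 (hc.zpow_right i)
    rw [show a ^ i = g⁻¹ * a * g from hi] at h
    rwa [show g * (g⁻¹ * a * g) * g⁻¹ = a by group] at h
  have heq : Subgroup.normalizer (O : Set G) = Subgroup.normalizer (A : Set G) := by
    refine le_antisymm (fun g hg => ?_) (fun g hg => ?_)
    · refine Subgroup.mem_normalizer_fintype fun y hy => ?_
      refine E.cen _ ((Subgroup.mem_normalizer_iff.1 hg y).1 ((Subgroup.zpowers_le.2 E.aO) hy)) fun o ho => ?_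
      have ho' := (Subgroup.mem_normalizer_iff''.1 hg o).1 ho
      have hya : Commute y (g⁻¹ * o * g) := by
        obtain ⟨i, hi⟩ := hy
        rw [← show a ^ i = y from hi]
        exact ((show Commute (g⁻¹ * o * g) a from
          Subgroup.mem_centralizer_singleton_iff.1 (E.le ho')).zpow_right i).symm
      have := (Commute.conj_iff g).2 hya
      rwa [show g * (g⁻¹ * o * g) * g⁻¹ = o by group] at this
    · -- the image of the Sylow subgroup consists of elements killed by `11` of the centraliser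
      refine Subgroup.mem_normalizer_fintype fun o ho => ?_
      set C := Subgroup.centralizer ({a} : Set G) with hC
      set OC := O.subgroupOf C with hOC
      haveI : OC.Normal := ⟨fun n hn c => Subgroup.mem_subgroupOf.2
        (E.nrm (c : G) (Subgroup.mem_centralizer_singleton_iff.1 c.2) _ (Subgroup.mem_subgroupOf.1 hn))⟩
      have hidx : OC.index = 24 := by
        have h := Subgroup.card_mul_index OC
        rw [Nat.card_congr (Subgroup.subgroupOfEquivOfLe E.le).toEquiv, E.card, E.cardC] at h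
        omega
      set u := g * o * g⁻¹ with hu
      have huC : u ∈ C := Subgroup.mem_centralizer_singleton_iff.2
        (hNC g hg o (Subgroup.mem_centralizer_singleton_iff.1 (E.le ho))).eq
      have hu11 : u ^ 11 = 1 := by rw [hu, conj_pow, E.pow11 o ho, mul_one, mul_inv_cancel]
      have h24 : (⟨u, huC⟩ : C) ^ 24 ∈ OC := hidx ▸ Subgroup.pow_index_mem OC _
      have e : u = (u ^ 24) ^ 6 := by
        rw [← pow_mul, show 24 * 6 = 11 * 13 + 1 by norm_num, pow_succ, pow_mul, hu11, one_pow, one_mul]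
      show u ∈ O
      rw [e]
      exact Subgroup.pow_mem _ (Subgroup.mem_subgroupOf.1 h24) _
  refine ⟨heq, ?_⟩
  rw [heq]
  set χ := A.normalizerMonoidHom with hχ
  have hsurj : Function.Surjective χ := by
    intro φ
    set y : G := ((φ ⟨a, Subgroup.mem_zpowers a⟩ : A) : G) with hy
    obtain ⟨k, hk⟩ : y ∈ Submonoid.powers a := mem_powers_iff_mem_zpowers.2 (φ ⟨a, Subgroup.mem_zpowers a⟩).2
    have hk' : ¬ 11 ∣ k := fun hd => by
      have h1 : φ ⟨a, Subgroup.mem_zpowers a⟩ = 1 := Subtype.ext (by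
        show y = 1
        rw [← show a ^ k = y from hk]; exact orderOf_dvd_iff_pow_eq_one.1 (P.ao.symm ▸ hd))
      have h2 : a = 1 := congrArg Subtype.val (φ.injective (h1.trans φ.map_one.symm))
      have := P.ao; rw [h2, orderOf_one] at this; norm_num at this
    obtain ⟨c, -, hc⟩ := (S.cent_eleven f P.ao P.az).2.2 k hk'
    have hcy : c * a * c⁻¹ = y := hc.trans hk
    have hcN : c ∈ Subgroup.normalizer (A : Set G) := by
      refine Subgroup.mem_normalizer_fintype ?_
      rintro _ ⟨i, rfl⟩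
      show c * a ^ i * c⁻¹ ∈ (A : Set G)
      rw [← conj_zpow, hcy]
      exact Subgroup.zpow_mem _ (φ ⟨a, Subgroup.mem_zpowers a⟩).2 i
    refine ⟨⟨c, hcN⟩, ?_⟩
    refine MulEquiv.ext fun ⟨v, i, hi⟩ => ?_
    have hv : (⟨v, i, hi⟩ : A) = (⟨a, Subgroup.mem_zpowers a⟩ : A) ^ i :=
      Subtype.ext (by rw [SubgroupClass.coe_zpow]; exact hi.symm)
    rw [hv, map_zpow, map_zpow]
    congr 1
    exact Subtype.ext hcy
  rw [Subgroup.card_eq_card_quotient_mul_card_subgroup χ.ker,
    Nat.card_congr (QuotientGroup.quotientKerEquivOfSurjective χ hsurj).toEquiv, IsCyclic.card_mulAut, Nat.card_zpowers,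
    P.ao, Nat.totient_prime (by norm_num), hχ, Subgroup.normalizerMonoidHom_ker, hCA,
    Nat.card_congr (Subgroup.subgroupOfEquivOfLe ?_).toEquiv, E.cardC]
  rw [← hCA]
  exact Subgroup.centralizer_le_normalizer _

/-- the general linear group of degree two over three elements inside the normaliser -/
theorem Big.eleven_gl (P : ElevenPair z a b t) :
    ∃ K : Subgroup G, K ≤ Subgroup.normalizer (Subgroup.zpowers a : Set G) ∧
      Nonempty (↥K ≃* GL (Fin 2) (ZMod 3)) := by
  classical
  haveI : Fact (Nat.Prime 2) := ⟨Nat.prime_two⟩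
  haveI : Fact (Nat.Prime 11) := ⟨by norm_num⟩
  set M := N ⊓ Subgroup.centralizer ({a} : Set G) with hM
  set T := Subgroup.zpowers t with hT
  have ha2 : a ≠ a⁻¹ := fun h => by
    have h2 : a ^ 2 = 1 := by rw [pow_two]; exact eq_inv_iff_mul_eq_one.1 h
    have := orderOf_dvd_of_pow_eq_one h2
    rw [P.ao] at this; norm_num at this
  have ht1 : t ≠ 1 := fun h => ha2 (by simpa [h] using P.ta)
  have hti : t⁻¹ = t := inv_eq_of_mul_eq_one_right P.t2
  have hTM : T ≤ Subgroup.normalizer (M : Set G) := by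
    refine Subgroup.zpowers_le.2 (Subgroup.mem_normalizer_fintype fun n hn => ?_)
    refine ⟨S.N_normal P.tz hn.1, Subgroup.mem_centralizer_singleton_iff.2 ?_⟩
    have h := (Commute.conj_iff t).2 (show Commute n a from Subgroup.mem_centralizer_singleton_iff.1 hn.2)
    rw [P.ta] at h
    exact (inv_inv a ▸ h.inv_right : Commute (t * n * t⁻¹) a).eq
  have hdis : ∀ {u : G}, u ∈ M → u ∈ T → u = 1 := by
    intro u hu hu'
    obtain ⟨k, hk⟩ : u ∈ Submonoid.powers t := mem_powers_iff_mem_zpowers.2 hu'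
    rcases Nat.even_or_odd k with ⟨m, rfl⟩ | ⟨m, rfl⟩
    · rw [← show t ^ (m + m) = u from hk, ← two_mul, pow_mul, pow_two, P.t2, one_pow]
    · exfalso
      have e : u = t := by rw [← show t ^ (2 * m + 1) = u from hk, pow_succ, pow_mul, pow_two, P.t2, one_pow, one_mul]
      refine ha2 ?_
      rw [← P.ta, ← e, (show Commute u a from Subgroup.mem_centralizer_singleton_iff.1 hu.2).eq, mul_inv_cancel_right]
  have hTc : Nat.card T = 2 := by
    rw [hT, Nat.card_zpowers]; exact orderOf_eq_prime (by rw [pow_two, P.t2]) ht1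
  set K := M ⊔ T with hK
  have hmemK : ∀ u ∈ K, ∃ m ∈ M, ∃ s ∈ T, m * s = u := fun u hu => by
    have hu' : u ∈ ((K : Subgroup G) : Set G) := hu
    rw [hK, Subgroup.coe_mul_of_right_le_normalizer_left _ _ hTM] at hu'
    obtain ⟨m, hm, s, hs, e⟩ := Set.mem_mul.1 hu'
    exact ⟨m, hm, s, hs, e⟩
  have hKc : Nat.card K = 48 := by
    have e : Nat.card (M × T) = Nat.card K := by
      refine Nat.card_congr (Equiv.ofBijective
        (fun p => ⟨(p.1 : G) * p.2, mul_mem (Subgroup.mem_sup_left p.1.2) (Subgroup.mem_sup_right p.2.2)⟩) ⟨?_, ?_⟩)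
      · rintro ⟨m, s⟩ ⟨m', s'⟩ h
        have h' : (m : G) * s = m' * s' := congrArg Subtype.val h
        have h1 : (m' : G)⁻¹ * m = s' * (s : G)⁻¹ := by
          calc (m' : G)⁻¹ * m = (m' : G)⁻¹ * ((m : G) * s) * (s : G)⁻¹ := by group
            _ = _ := by rw [h']; group
        have h2 := hdis (mul_mem (inv_mem m'.2) m.2) (h1 ▸ mul_mem s'.2 (inv_mem s.2))
        have h3 : (m' : G) = m := inv_mul_eq_one.1 h2
        rw [h2] at h1
        exact Prod.ext (Subtype.ext h3.symm) (Subtype.ext (mul_inv_eq_one.1 h1.symm).symm)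
      · rintro ⟨u, hu⟩
        obtain ⟨m, hm, s, hs, e⟩ := hmemK u hu
        exact ⟨(⟨m, hm⟩, ⟨s, hs⟩), Subtype.ext e⟩
    rw [← e, Nat.card_prod, S.middle_eleven f P.ao P.az, hTc]
  have hKz : ∀ u ∈ K, Commute u z := by
    intro u hu
    obtain ⟨m, hm, s, ⟨i, rfl⟩, rfl⟩ := hmemK u hu
    exact (S.base.le m hm.1).mul_left (P.tz.zpow_left i)
  have hKN : K ≤ Subgroup.normalizer (Subgroup.zpowers a : Set G) := by
    refine sup_le (fun m hm => ?_) (Subgroup.zpowers_le.2 (Subgroup.mem_normalizer_fintype ?_))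
    · refine Subgroup.mem_normalizer_fintype ?_
      rintro _ ⟨i, rfl⟩
      show m * a ^ i * m⁻¹ ∈ (Subgroup.zpowers a : Set G)
      rw [((show Commute m a from Subgroup.mem_centralizer_singleton_iff.1 hm.2).zpow_right i).eq, mul_inv_cancel_right]
      exact ⟨i, rfl⟩
    · rintro _ ⟨i, rfl⟩
      show t * a ^ i * t⁻¹ ∈ (Subgroup.zpowers a : Set G)
      rw [← conj_zpow, P.ta]
      exact Subgroup.zpow_mem _ (inv_mem (Subgroup.mem_zpowers a)) i
  refine ⟨K, hKN, ?_⟩
  set R := Q ⊓ Subgroup.centralizer ({a} : Set G) with hR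
  obtain ⟨hR8, hR2⟩ := S.fix_eleven f P.ao P.az
  have hRM : R ≤ M := fun r hr => ⟨S.base.QN hr.1, hr.2⟩
  have hRK : R ≤ K := hRM.trans le_sup_left
  haveI : (R.subgroupOf K).Normal := ⟨fun n hn k => Subgroup.mem_subgroupOf.2
    ⟨S.Q_normal f (hKz k k.2) (Subgroup.mem_subgroupOf.1 hn).1, by
      have hk := Subgroup.mem_normalizer_iff''.1 (hKN k.2) a
      obtain ⟨i, hi⟩ := hk.1 (Subgroup.mem_zpowers a)
      have h := (Commute.conj_iff (k : G)).2 ((show Commute (n : G) a from
        Subgroup.mem_centralizer_singleton_iff.1 (Subgroup.mem_subgroupOf.1 hn).2).zpow_right i)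
      rw [show a ^ i = (k : G)⁻¹ * a * k from hi, show (k : G) * ((k : G)⁻¹ * a * k) * (k : G)⁻¹ = a by group] at h
      exact Subgroup.mem_centralizer_singleton_iff.2 h.eq⟩⟩
  -- the quaternion group
  have hR2' : IsPGroup 2 R := IsPGroup.of_card (n := 3) (by rw [hR8]; norm_num)
  have hzR : z ∈ R := ⟨S.base.ord.xt.mem, Subgroup.mem_centralizer_singleton_iff.2 P.az.symm.eq⟩
  have huniq : Solv.UniqueOrderP 2 R := by
    intro u v hu hv hv1
    have key : ∀ w : R, w ^ 2 = 1 → w = 1 ∨ (w : G) = z := fun w hw => by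
      rw [pow_two] at hw
      exact (hR2 w w.2.1 (Subgroup.mem_centralizer_singleton_iff.1 w.2.2) (congrArg Subtype.val hw)).imp
        (fun e => Subtype.ext e) id
    rcases key u hu with e | e
    · rw [e]; exact one_mem _
    · rw [show u = v from Subtype.ext (e.trans ((key v hv).resolve_left hv1).symm)]
      exact Subgroup.mem_zpowers v
  have hnc : ¬ IsCyclic R := by
    intro hc
    obtain ⟨r, hr⟩ := hc.exists_generator
    have ho : orderOf r = 8 := by rw [orderOf_eq_card_of_forall_mem_zpowers hr, hR8]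
    have h4 : (r : G) ^ 4 = 1 := by
      have h := Solv.extraspecial_pow_sq S.base.extra ⟨(r : G), r.2.1⟩
      exact congrArg Subtype.val h
    have := orderOf_dvd_of_pow_eq_one (show r ^ 4 = 1 from Subtype.ext h4)
    rw [ho] at this
    norm_num at this
  obtain ⟨-, n, ⟨e⟩⟩ := (Solv.cyclic_or_quaternion hR2' huniq).resolve_left hnc
  have hn : n = 1 := by
    have h := Nat.card_congr e.toEquiv
    rw [hR8, Nat.card_eq_fintype_card, QuaternionGroup.card] at h
    have : 2 ^ n = 2 ^ 1 := by omega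
    exact Nat.pow_right_injective le_rfl this
  subst hn
  refine S3304.gl_iso hKc (R.subgroupOf K) (e.symm.trans (Subgroup.subgroupOfEquivOfLe hRK).symm) ?_
    (t := ⟨t, Subgroup.mem_sup_right (Subgroup.mem_zpowers t)⟩) ?_ ?_
  · intro u hu
    refine Subgroup.mem_subgroupOf.2 ?_
    have hcen : ∀ q ∈ Q, Commute q a → Commute (u : G) q := fun q hq hqa =>
      (congrArg Subtype.val (Subgroup.mem_centralizer_iff.1 hu
        ⟨q, hRK ⟨hq, Subgroup.mem_centralizer_singleton_iff.2 hqa.eq⟩⟩
        (Subgroup.mem_subgroupOf.2 ⟨hq, Subgroup.mem_centralizer_singleton_iff.2 hqa.eq⟩))).symm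
    obtain ⟨m, hm, s, hs, he⟩ := hmemK u u.2
    by_cases hsu : s = 1
    · rw [hsu, mul_one] at he
      rw [← he] at hcen ⊢
      exact ⟨S.moved_eleven f P.ao P.az (Or.inl ⟨hm.1, Subgroup.mem_centralizer_singleton_iff.1 hm.2⟩) hcen, hm.2⟩
    · exfalso
      have hst : s = t := by
        obtain ⟨k, hk⟩ : s ∈ Submonoid.powers t := mem_powers_iff_mem_zpowers.2 hs
        rcases Nat.even_or_odd k with ⟨j, rfl⟩ | ⟨j, rfl⟩
        · exact absurd (by rw [← show t ^ (j + j) = s from hk, ← two_mul, pow_mul, pow_two, P.t2, one_pow]) hsu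
        · rw [← show t ^ (2 * j + 1) = s from hk, pow_succ, pow_mul, pow_two, P.t2, one_pow, one_mul]
      have hinv : (u : G) * a * (u : G)⁻¹ = a⁻¹ := by
        rw [← he, hst, show m * t * a * (m * t)⁻¹ = m * (t * a * t⁻¹) * m⁻¹ by group, P.ta,
          (show Commute m a from Subgroup.mem_centralizer_singleton_iff.1 hm.2).inv_right.eq, mul_inv_cancel_right]
      have huQ := S.moved_eleven f P.ao P.az (Or.inr ⟨hKz u u.2, hinv⟩) hcen
      have h1 : (u : G) * (a * (u : G)⁻¹ * a⁻¹) ∈ Q := mul_mem huQ (S.Q_normal f P.az (inv_mem huQ))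
      have h1' : (a⁻¹) ^ 2 ∈ Q := by
        rw [show (u : G) * (a * (u : G)⁻¹ * a⁻¹) = (u : G) * a * (u : G)⁻¹ * a⁻¹ by group, hinv, ← pow_two] at h1
        exact h1
      have h4 := Solv.extraspecial_pow_sq S.base.extra ⟨_, h1'⟩
      have h4' : ((a⁻¹) ^ 2) ^ (2 ^ 2) = 1 := congrArg Subtype.val h4
      rw [← pow_mul, inv_pow, inv_eq_one] at h4'
      have := orderOf_dvd_of_pow_eq_one h4'
      rw [P.ao] at this
      norm_num at this
  · rw [← Subgroup.orderOf_coe]
    exact orderOf_eq_prime (by rw [pow_two, P.t2]) ht1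
  · intro h
    have h' : (t : G) ∈ R := Subgroup.mem_subgroupOf.1 h
    exact ht1 (hdis (hRM h') (Subgroup.mem_zpowers t))

end Cfsg.Agent.Spor.JFour
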