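import Cfsg.Agent.Lib.Spor.JFourEleven.LargeArith
import Cfsg.Agent.Lib.Spor.JFourEleven.Norm
import Cfsg.Agent.Lib.Spor.JFourLoc.FiveTop
import Cfsg.Agent.Lib.Spor.JFourTenApply

/-!
The Sylow subgroups of the five large prime orders.
-/

set_option autoImplicit false
set_option linter.unusedSectionVars false

namespace Cfsg.Agent.Spor.JFour

namespace Large

universe u

variable {K : Type u} [Group K] [Finite K]

/-- a group of squarefree order prime to its Euler function is cyclic -/
theorem cyclic_of_coprime (h : Squarefree (Nat.card K)) (hco : Nat.Coprime (Nat.card K) (Nat.totient (Nat.card K))) :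
    IsCyclic K := by
  haveI := IsZGroup.of_squarefree h
  set D := commutator K
  haveI : IsCyclic D := IsZGroup.isCyclic_commutator K
  let φ : K →* MulAut D := MulAut.conjNormal
  have h1 : Nat.card φ.range ∣ Nat.card K := Subgroup.card_range_dvd φ
  have h2 : Nat.card φ.range ∣ Nat.totient (Nat.card K) := by
    refine ((Subgroup.card_subgroup_dvd_card φ.range).trans (dvd_of_eq (IsCyclic.card_mulAut D))).trans ?_
    exact Nat.totient_dvd_of_dvd (Subgroup.card_subgroup_dvd_card D)
  have h3 : φ.range = ⊥ := Subgroup.eq_bot_of_card_eq _ (Nat.eq_one_of_dvd_coprimes hco h1 h2)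
  have h4 : D ≤ Subgroup.center K := fun d hd => Subgroup.mem_center_iff.2 fun k => by
    have h5 : φ k = 1 := Subgroup.mem_bot.1 (h3 ▸ ⟨k, rfl⟩)
    have h6 := congrArg (fun e : MulAut D => ((e ⟨d, hd⟩ : D) : K)) h5
    exact mul_inv_eq_iff_eq_mul.1 h6
  haveI : Group.IsNilpotent K := by
    refine Subgroup.isNilpotent_of_ker_le_center (Abelianization.of : K →* Abelianization K) ?_
    rwa [Abelianization.ker_of]
  infer_instance

/-- the Singer element of `SL(5,2)` -/
def singS : Matrix.SpecialLinearGroup (Fin 5) (ZMod 2) :=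
  ⟨!![0, 0, 0, 0, 1; 1, 0, 0, 0, 0; 0, 1, 0, 0, 1; 0, 0, 1, 0, 0; 0, 0, 0, 1, 0], by decide +kernel⟩

/-- the Frobenius element normalising the Singer element -/
def singF : Matrix.SpecialLinearGroup (Fin 5) (ZMod 2) :=
  ⟨!![1, 0, 0, 0, 1; 0, 0, 0, 1, 0; 0, 1, 0, 0, 1; 0, 0, 0, 1, 1; 0, 0, 1, 0, 0], by decide +kernel⟩

theorem sing_facts : singS ^ 31 = 1 ∧ singS ≠ 1 ∧ singF ^ 5 = 1 ∧ singF ≠ 1 ∧ singF * singS = singS ^ 2 * singF := by
  decide +kernel

end Large

open Cfsg.Agent.Spor.LFT (iT)
open Large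

universe u

variable {G : Type u} [Group G] [Finite G] {z : G} {Q N : Subgroup G} {x : G}
variable (S : Big z Q N x) (f : Frame z Q x)

include S f

/-- the centraliser of an element of one of the large prime orders has no small prime divisor -/
theorem Big.large_cent {p : ℕ} (hp : p ∈ five) {u : G} (hu : orderOf u = p) :
    Nat.card (Subgroup.centralizer ({u} : Set G)) ∣ bigN := by
  classical
  haveI : Fact (Nat.Prime 11) := ⟨by norm_num⟩
  obtain ⟨hG, -⟩ := S.census f
  set C := Subgroup.centralizer ({u} : Set G) with hC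
  have hdvd : Nat.card C ∣ bigN * smallM := by
    refine (Subgroup.card_subgroup_dvd_card C).trans (dvd_of_eq ?_)
    rw [hG, bigN, smallM]; norm_num
  refine Nat.Coprime.dvd_of_dvd_mul_right ?_ hdvd
  by_contra hco
  obtain ⟨r, hr, hrC, hrM⟩ := Nat.Prime.not_coprime_iff_dvd.1 hco
  haveI : Fact r.Prime := ⟨hr⟩
  obtain ⟨y, hy⟩ := exists_prime_orderOf_dvd_card' (G := C) r hrC
  have hyo : orderOf (y : G) = r := by rw [Subgroup.orderOf_coe, hy]
  have hdiv : p ∣ Nat.card (Subgroup.centralizer ({(y : G)} : Set G)) :=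
    hu ▸ Subgroup.orderOf_dvd_natCard _ (Subgroup.mem_centralizer_singleton_iff.2
      (Subgroup.mem_centralizer_singleton_iff.1 y.2).symm)
  simp only [five, List.mem_cons, List.not_mem_nil, or_false] at hp
  have key : ∀ n, Nat.card (Subgroup.centralizer ({(y : G)} : Set G)) ∣ n → p ∣ n := fun n h => hdiv.trans h
  have hrlist : r = 2 ∨ r = 3 ∨ r = 5 ∨ r = 7 ∨ r = 11 := by
    have hd : ∀ {q k : ℕ}, q.Prime → r ∣ q ^ k → r = q := fun hq h => (Nat.prime_dvd_prime_iff_eq hr hq).1 (hr.dvd_of_dvd_pow h)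
    rw [smallM] at hrM
    rcases (Nat.Prime.dvd_mul hr).1 hrM with h | h
    · rcases (Nat.Prime.dvd_mul hr).1 h with h | h
      · rcases (Nat.Prime.dvd_mul hr).1 h with h | h
        · rcases (Nat.Prime.dvd_mul hr).1 h with h | h
          · exact Or.inl (hd Nat.prime_two h)
          · exact Or.inr (Or.inl (hd Nat.prime_three h))
        · exact Or.inr (Or.inr (Or.inl ((Nat.prime_dvd_prime_iff_eq hr (by norm_num)).1 h)))
      · exact Or.inr (Or.inr (Or.inr (Or.inl ((Nat.prime_dvd_prime_iff_eq hr (by norm_num)).1 h))))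
    · exact Or.inr (Or.inr (Or.inr (Or.inr (hd (by norm_num : Nat.Prime 11) h))))
  have hzC := S.card_C f
  rcases hrlist with rfl | rfl | rfl | rfl | rfl
  · have y2 : (y : G) * y = 1 := by rw [← pow_two]; exact hyo ▸ pow_orderOf_eq_one (y : G)
    have y1 : (y : G) ≠ 1 := fun e => by rw [e, orderOf_one] at hyo; norm_num at hyo
    rcases S.invol_card f y2 y1 with h | h <;> have h' := key _ (dvd_of_eq h) <;>
      rcases hp with rfl | rfl | rfl | rfl | rfl <;> norm_num at h'
  · obtain ⟨g, hg⟩ := isConj_iff.1 (S.one_class f hyo)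
    have e := card_cent_single g (y : G)
    rw [hg] at e
    have hle : Subgroup.centralizer ({x} : Set G) ≤ Subgroup.centralizer ({z} : Set G) := fun c hc =>
      Subgroup.mem_centralizer_singleton_iff.2 (S.cent_x f (Subgroup.mem_centralizer_singleton_iff.1 hc)).eq
    have h' := key _ ((dvd_of_eq e.symm).trans (Subgroup.card_dvd_of_le hle))
    rw [hzC] at h'
    rcases hp with rfl | rfl | rfl | rfl | rfl <;> norm_num at h'
  · obtain ⟨q₀, hq₀⟩ := exists_prime_orderOf_dvd_card' (G := Subgroup.centralizer ({z} : Set G)) 5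
      (by rw [hzC]; norm_num)
    have hqo : orderOf (q₀ : G) = 5 := by rw [Subgroup.orderOf_coe, hq₀]
    have hq5 : (q₀ : G) ^ 5 = 1 := hqo ▸ pow_orderOf_eq_one _
    have hq1 : (q₀ : G) ≠ 1 := fun e => by rw [e, orderOf_one] at hqo; norm_num at hqo
    obtain ⟨E, J, d, T⟩ := S.five_top f hq5 hq1 (Subgroup.mem_centralizer_singleton_iff.1 q₀.2)
    obtain ⟨k, hk⟩ := M22U.PrimeCount.conj_of_card (p := 5) (by norm_num) (hqo ▸ orderOf_dvd_natCard (q₀ : G)) T.n25
      (X := Subgroup.zpowers (y : G)) (Y := Subgroup.zpowers (q₀ : G))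
      (by rw [Nat.card_zpowers, hyo]) (by rw [Nat.card_zpowers, hqo])
    have hmem : k * (y : G) * k⁻¹ ∈ Subgroup.zpowers (q₀ : G) := hk ▸ ⟨(y : G), Subgroup.mem_zpowers _, rfl⟩
    have hne : k * (y : G) * k⁻¹ ≠ 1 := fun e => by
      rw [conj_eq_one_iff.1 e, orderOf_one] at hyo; norm_num at hyo
    obtain ⟨i, hi⟩ := zpowers_gen (q := 5) hq5 hmem hne
    have hle : Subgroup.centralizer ({k * (y : G) * k⁻¹} : Set G) ≤ Subgroup.centralizer ({(q₀ : G)} : Set G) :=
      fun c hc => by
        rw [Subgroup.mem_centralizer_singleton_iff, ← show (k * (y : G) * k⁻¹) ^ i = (q₀ : G) from hi]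
        exact ((show Commute c (k * (y : G) * k⁻¹) from Subgroup.mem_centralizer_singleton_iff.1 hc).zpow_right i).eq
    have h' := key _ ((dvd_of_eq (card_cent_single k (y : G)).symm).trans (Subgroup.card_dvd_of_le hle))
    rw [T.loc.cardC] at h'
    rcases hp with rfl | rfl | rfl | rfl | rfl <;> norm_num at h'
  · obtain ⟨q₀, hq₀⟩ := exists_prime_orderOf_dvd_card' (G := Subgroup.centralizer ({z} : Set G)) 7
      (by rw [hzC]; norm_num)
    have hqo : orderOf (q₀ : G) = 7 := by rw [Subgroup.orderOf_coe, hq₀]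
    have hq5 : (q₀ : G) ^ 7 = 1 := hqo ▸ pow_orderOf_eq_one _
    have hq1 : (q₀ : G) ≠ 1 := fun e => by rw [e, orderOf_one] at hqo; norm_num at hqo
    obtain ⟨h49, -, hcard, -⟩ := S.seven_top f hq5 hq1 (Subgroup.mem_centralizer_singleton_iff.1 q₀.2)
    obtain ⟨k, hk⟩ := M22U.PrimeCount.conj_of_card (p := 7) (by norm_num) (hqo ▸ orderOf_dvd_natCard (q₀ : G)) h49
      (X := Subgroup.zpowers (y : G)) (Y := Subgroup.zpowers (q₀ : G))
      (by rw [Nat.card_zpowers, hyo]) (by rw [Nat.card_zpowers, hqo])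
    have hmem : k * (y : G) * k⁻¹ ∈ Subgroup.zpowers (q₀ : G) := hk ▸ ⟨(y : G), Subgroup.mem_zpowers _, rfl⟩
    have hne : k * (y : G) * k⁻¹ ≠ 1 := fun e => by
      rw [conj_eq_one_iff.1 e, orderOf_one] at hyo; norm_num at hyo
    obtain ⟨i, hi⟩ := zpowers_gen (q := 7) hq5 hmem hne
    have hle : Subgroup.centralizer ({k * (y : G) * k⁻¹} : Set G) ≤ Subgroup.centralizer ({(q₀ : G)} : Set G) :=
      fun c hc => by
        rw [Subgroup.mem_centralizer_singleton_iff, ← show (k * (y : G) * k⁻¹) ^ i = (q₀ : G) from hi]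
        exact ((show Commute c (k * (y : G) * k⁻¹) from Subgroup.mem_centralizer_singleton_iff.1 hc).zpow_right i).eq
    have h' := key _ ((dvd_of_eq (card_cent_single k (y : G)).symm).trans (Subgroup.card_dvd_of_le hle))
    rw [hcard] at h'
    rcases hp with rfl | rfl | rfl | rfl | rfl <;> norm_num at h'
  · obtain ⟨a, b, t, P⟩ := S.eleven_pair f
    obtain ⟨O, E⟩ := S.eleven_cube f P
    obtain ⟨U, hU⟩ := (IsPGroup.of_card (n := 1) (by rw [Nat.card_zpowers, hyo, pow_one]) :
      IsPGroup 11 (Subgroup.zpowers (y : G))).exists_le_sylow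
    obtain ⟨g, hg⟩ := S.sylow_eleven f E U
    obtain ⟨o, ho, he⟩ : (y : G) ∈ O.map (MulAut.conj g).toMonoidHom := hg ▸ hU (Subgroup.mem_zpowers _)
    have hcy : Nat.card (Subgroup.centralizer ({(y : G)} : Set G)) = Nat.card (Subgroup.centralizer ({o} : Set G)) := by
      rw [← he]; exact card_cent_single g o
    by_cases hoa : o ∈ Subgroup.zpowers a
    · have ho1 : o ≠ 1 := fun e => by rw [← he, e, map_one, orderOf_one] at hyo; norm_num at hyo
      have h' := key _ (dvd_of_eq (hcy.trans (by rw [cent_eq_of_mem P.ao hoa ho1, E.cardC])))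
      rcases hp with rfl | rfl | rfl | rfl | rfl <;> norm_num at h'
    · obtain ⟨k, hk⟩ := isConj_iff.1 (E.cover o ho hoa)
      have h' := key _ (dvd_of_eq (hcy.trans (by rw [← hk, card_cent_single, P.bcard])))
      rcases hp with rfl | rfl | rfl | rfl | rfl <;> norm_num at h'

omit S f in
theorem five_prime {p : ℕ} (hp : p ∈ five) : p.Prime := by
  simp only [five, List.mem_cons, List.not_mem_nil, or_false] at hp
  rcases hp with rfl | rfl | rfl | rfl | rfl <;> norm_num

/-- such a prime divides the order exactly once -/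
theorem Big.five_once {p : ℕ} (hp : p ∈ five) : p ∣ Nat.card G ∧ ¬ p * p ∣ Nat.card G := by
  obtain ⟨hG, -⟩ := S.census f
  rw [hG]
  simp only [five, List.mem_cons, List.not_mem_nil, or_false] at hp
  rcases hp with rfl | rfl | rfl | rfl | rfl <;> norm_num

/-- the centraliser is cyclic -/
theorem Big.large_cyclic {p : ℕ} (hp : p ∈ five) {u : G} (hu : orderOf u = p) :
    IsCyclic (Subgroup.centralizer ({u} : Set G)) := by
  have h := S.large_cent f hp hu
  have hsq : Squarefree bigN := by
    rw [bigN, Nat.squarefree_mul (by norm_num), Nat.squarefree_mul (by norm_num), Nat.squarefree_mul (by norm_num),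
      Nat.squarefree_mul (by norm_num)]
    refine ⟨⟨⟨⟨?_, ?_⟩, ?_⟩, ?_⟩, ?_⟩ <;> exact ((by norm_num : Nat.Prime _).prime.irreducible.squarefree)
  refine Large.cyclic_of_coprime (hsq.squarefree_of_dvd h) ?_
  have htot : Nat.totient bigN = 22 * 28 * 30 * 36 * 42 := by
    rw [bigN, Nat.totient_mul (by norm_num), Nat.totient_mul (by norm_num), Nat.totient_mul (by norm_num),
      Nat.totient_mul (by norm_num), Nat.totient_prime (by norm_num), Nat.totient_prime (by norm_num),
      Nat.totient_prime (by norm_num), Nat.totient_prime (by norm_num), Nat.totient_prime (by norm_num)]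
  refine Nat.Coprime.coprime_dvd_left h (Nat.Coprime.coprime_dvd_right (Nat.totient_dvd_of_dvd h) ?_)
  rw [htot, bigN]
  norm_num

omit S f in
theorem cent_zpowers (u : G) :
    Subgroup.centralizer (Subgroup.zpowers u : Set G) = Subgroup.centralizer ({u} : Set G) := by
  rw [← Subgroup.centralizer_closure ({u} : Set G), Subgroup.zpowers_eq_closure]

omit S f in
theorem le_normalizer_of_conj {H : Subgroup G} {g : G} (h : ∀ y ∈ H, g * y * g⁻¹ ∈ H) :
    g ∈ Subgroup.normalizer (H : Set G) :=
  Subgroup.mem_normalizer_fintype h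

/-- the order of the centraliser and of the normaliser of the group generated by an element -/
noncomputable abbrev dataOf (u : G) : ℕ × ℕ :=
  (Nat.card (Subgroup.centralizer ({u} : Set G)), Nat.card (Subgroup.normalizer (Subgroup.zpowers u : Set G)))

omit S f in
theorem data_conj {u v : G} {g : G} (h : (Subgroup.zpowers u).map (MulAut.conj g).toMonoidHom = Subgroup.zpowers v) :
    dataOf u = dataOf v := by
  have hinj : Function.Injective (MulAut.conj g).toMonoidHom := (MulAut.conj g).injective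
  refine Prod.ext ?_ ?_
  · show Nat.card (Subgroup.centralizer ({u} : Set G)) = Nat.card (Subgroup.centralizer ({v} : Set G))
    have e : Subgroup.centralizer ({v} : Set G) = Subgroup.centralizer ({g * u * g⁻¹} : Set G) := by
      rw [← cent_zpowers, ← cent_zpowers, ← h, MonoidHom.map_zpowers]
      rfl
    rw [e, card_cent_single]
  · show Nat.card (Subgroup.normalizer (Subgroup.zpowers u : Set G)) =
      Nat.card (Subgroup.normalizer (Subgroup.zpowers v : Set G))
    rw [← Subgroup.card_map_of_injective hinj, ← h]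
    exact congrArg (fun H : Subgroup G => Nat.card H) (Subgroup.map_equiv_normalizer_eq _ (MulAut.conj g))

/-- primes dividing one centraliser give the same data -/
theorem Big.large_link {p q : ℕ} (hp : p ∈ five) (hq : q ∈ five) {u v : G} (hu : orderOf u = p) (hv : orderOf v = q)
    (hdvd : q ∣ Nat.card (Subgroup.centralizer ({u} : Set G))) : dataOf v = dataOf u := by
  classical
  haveI : Fact q.Prime := ⟨five_prime hq⟩
  haveI : Fact p.Prime := ⟨five_prime hp⟩
  obtain ⟨w₀, hw₀⟩ := exists_prime_orderOf_dvd_card' (G := Subgroup.centralizer ({u} : Set G)) q hdvd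
  set w : G := (w₀ : G) with hwdef
  have hw : orderOf w = q := by rw [hwdef, Subgroup.orderOf_coe, hw₀]
  obtain ⟨hq1, hq2⟩ := S.five_once f hq
  obtain ⟨g, hg⟩ := M22U.PrimeCount.conj_of_card (five_prime hq) hq1 hq2 (X := Subgroup.zpowers v)
    (Y := Subgroup.zpowers w) (by rw [Nat.card_zpowers, hv]) (by rw [Nat.card_zpowers, hw])
  rw [data_conj hg]
  have hwu : Commute w u := Subgroup.mem_centralizer_singleton_iff.1 w₀.2
  haveI := S.large_cyclic f hp hu
  haveI := S.large_cyclic f hq hw
  letI := IsCyclic.commGroup (α := Subgroup.centralizer ({u} : Set G))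
  have hcomm : ∀ {y : G} (_ : IsCyclic (Subgroup.centralizer ({y} : Set G))) {c d : G}, Commute c y → Commute d y →
      Commute c d := by
    intro y hy c d hc hd
    haveI := hy
    have h := mul_comm' (⟨c, Subgroup.mem_centralizer_singleton_iff.2 hc.eq⟩ : Subgroup.centralizer ({y} : Set G))
      ⟨d, Subgroup.mem_centralizer_singleton_iff.2 hd.eq⟩
    exact congrArg Subtype.val h
  have hC : Subgroup.centralizer ({w} : Set G) = Subgroup.centralizer ({u} : Set G) := by
    refine le_antisymm (fun c hc => ?_) (fun c hc => ?_)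
    · exact Subgroup.mem_centralizer_singleton_iff.2
        (hcomm (S.large_cyclic f hq hw) (Subgroup.mem_centralizer_singleton_iff.1 hc) hwu.symm).eq
    · exact Subgroup.mem_centralizer_singleton_iff.2
        (hcomm (S.large_cyclic f hp hu) (Subgroup.mem_centralizer_singleton_iff.1 hc) hwu).eq
  -- in a cyclic group there is one subgroup of each order
  have huniq : ∀ {r : ℕ} {y y' : G}, r.Prime → Commute y u → Commute y' u → orderOf y = r → y' ^ r = 1 →
      y' ∈ Subgroup.zpowers y := by
    intro r y y' hr hy hy' hyo hy'r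
    set C := Subgroup.centralizer ({u} : Set G)
    set yC : C := ⟨y, Subgroup.mem_centralizer_singleton_iff.2 hy.eq⟩
    set yC' : C := ⟨y', Subgroup.mem_centralizer_singleton_iff.2 hy'.eq⟩
    have hyCo : orderOf yC = r := by rw [← Subgroup.orderOf_coe]; exact hyo
    have hy'C : yC' ^ r = 1 := Subtype.ext hy'r
    have hmem : yC' ∈ Subgroup.zpowers yC := by
      by_cases h1 : yC' = 1
      · rw [h1]; exact one_mem _
      haveI := Fintype.ofFinite C
      have hsub : (Subgroup.zpowers yC : Set C) ⊆ {v : C | v ^ r = 1} := fun v hv =>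
        orderOf_dvd_iff_pow_eq_one.1 (hyCo ▸ orderOf_dvd_of_mem_zpowers hv)
      have hle : ({v : C | v ^ r = 1} : Set C).ncard ≤ (Subgroup.zpowers yC : Set C).ncard := by
        rw [← Nat.card_coe_set_eq (Subgroup.zpowers yC : Set C)]
        show _ ≤ Nat.card (Subgroup.zpowers yC)
        rw [Nat.card_zpowers, hyCo, Set.ncard_eq_toFinset_card']
        simpa using IsCyclic.card_pow_eq_one_le (α := C) hr.pos
      have he := Set.eq_of_subset_of_ncard_le hsub hle (Set.toFinite _)
      exact SetLike.mem_coe.1 (he.symm.subset (show yC' ∈ {v : C | v ^ r = 1} from hy'C))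
    obtain ⟨i, hi⟩ := hmem
    refine ⟨i, ?_⟩
    have := congrArg Subtype.val (show yC ^ i = yC' from hi)
    rw [SubgroupClass.coe_zpow] at this
    exact this
  have hN : ∀ g, (∀ c, Commute c u → Commute (g * c * g⁻¹) u) → ∀ {r : ℕ} {y : G}, r.Prime → Commute y u →
      orderOf y = r → g ∈ Subgroup.normalizer (Subgroup.zpowers y : Set G) := by
    intro g hgC r y hr hy hyo
    refine le_normalizer_of_conj ?_
    rintro _ ⟨i, rfl⟩
    show g * y ^ i * g⁻¹ ∈ Subgroup.zpowers y
    rw [← conj_zpow]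
    refine Subgroup.zpow_mem _ (huniq hr hy (hgC y hy) hyo ?_) i
    rw [conj_pow, show y ^ r = 1 from hyo ▸ pow_orderOf_eq_one y, mul_one, mul_inv_cancel]
  have hNC : ∀ {y g : G}, g ∈ Subgroup.normalizer (Subgroup.zpowers y : Set G) → ∀ c, Commute c y →
      Commute (g * c * g⁻¹) y := by
    intro y g hg c hc
    obtain ⟨i, hi⟩ := (Subgroup.mem_normalizer_iff''.1 hg y).1 (Subgroup.mem_zpowers y)
    have h := (Commute.conj_iff g).2 (hc.zpow_right i)
    rw [show y ^ i = g⁻¹ * y * g from hi] at h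
    rwa [show g * (g⁻¹ * y * g) * g⁻¹ = y by group] at h
  have hiff : ∀ c, Commute c w ↔ Commute c u := fun c => by
    have := SetLike.ext_iff.1 hC c
    rwa [Subgroup.mem_centralizer_singleton_iff, Subgroup.mem_centralizer_singleton_iff] at this
  have hNN : Subgroup.normalizer (Subgroup.zpowers w : Set G) = Subgroup.normalizer (Subgroup.zpowers u : Set G) := by
    refine le_antisymm (fun g hg => ?_) (fun g hg => ?_)
    · exact hN g (fun c hc => (hiff _).1 (hNC hg c ((hiff c).2 hc))) (five_prime hp) (Commute.refl u) hu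
    · exact hN g (hNC hg) (five_prime hq) hwu hw
  exact Prod.ext (by show Nat.card (Subgroup.centralizer ({w} : Set G)) = _; rw [hC])
    (by show Nat.card (Subgroup.normalizer (Subgroup.zpowers w : Set G)) = _; rw [hNN])

/-- the data fit the Sylow congruence -/
theorem Big.large_opts {p : ℕ} (hp : p ∈ five) {u : G} (hu : orderOf u = p) : dataOf u ∈ optsOf p := by
  obtain ⟨hG, -⟩ := S.census f
  obtain ⟨h1, h2⟩ := S.five_once f hp
  obtain ⟨m, n, hm, hn, hN, hGe⟩ := M22U.PrimeCount.card_normalizer (five_prime hp) h1 h2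
    (X := Subgroup.zpowers u) (by rw [Nat.card_zpowers, hu])
  rw [cent_zpowers] at hN hGe
  set c := Nat.card (Subgroup.centralizer ({u} : Set G)) with hc
  have hcm : 0 < c * m := hN ▸ Nat.card_pos
  have hpc : p ∣ c := hu ▸ Subgroup.orderOf_dvd_natCard _ (Subgroup.mem_centralizer_singleton_iff.2 rfl)
  have hp1 : 0 < p - 1 := by have := (five_prime hp).two_le; omega
  have hmlt : m < p := by have := Nat.le_of_dvd hp1 hm; omega
  have hGM : bigN * smallM = c * m * n := by rw [← hGe, hG, bigN, smallM]; norm_num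
  have hf : fits p c m = true := by
    simp only [fits, Bool.and_eq_true, beq_iff_eq]
    refine ⟨⟨⟨Nat.mod_eq_zero_of_dvd hpc, Nat.mod_eq_zero_of_dvd hm⟩, ?_⟩, ?_⟩
    · rw [hGM]; exact Nat.mul_mod_right _ _
    · rw [hGM, Nat.mul_div_cancel_left _ hcm]; exact hn
  have h := opts_ok
  rw [List.all_eq_true] at h
  have h' := h p hp
  rw [List.all_eq_true] at h'
  have h'' := h' c (mem_divN (S.large_cent f hp hu))
  rw [List.all_eq_true] at h''
  have h''' := h'' m (List.mem_range.2 hmlt)
  rw [hf] at h'''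
  simp only [Bool.not_true, Bool.false_or, List.contains_iff_mem] at h'''
  rwa [dataOf, hN]

/-- five divides the order of the normaliser of an element of order thirty one -/
theorem Big.five_dvd_n31 {u : G} (hu : orderOf u = 31) :
    5 ∣ Nat.card (Subgroup.normalizer (Subgroup.zpowers u : Set G)) := by
  classical
  haveI : Fact (Nat.Prime 31) := ⟨by norm_num⟩
  haveI : Fact (Nat.Prime 5) := ⟨by norm_num⟩
  obtain ⟨V, ψ, κ, SP, hVc⟩ := S.exists_spl f
  obtain ⟨B, -, -, -, ⟨e⟩⟩ := S.ten_compl f SP hVc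
  obtain ⟨s31, s1, f5, f1, hFS⟩ := sing_facts
  let ψ' : Matrix.SpecialLinearGroup (Fin 5) (ZMod 2) →* G := B.subtype.comp e.symm.toMonoidHom
  have hψ : Function.Injective ψ' := B.subtype_injective.comp e.symm.injective
  set s := ψ' singS with hs
  set φ := ψ' singF with hφ
  have hso : orderOf s = 31 := orderOf_eq_prime (by rw [hs, ← map_pow, s31, map_one])
    (fun h => s1 (hψ (h.trans (map_one ψ').symm)))
  have hφo : orderOf φ = 5 := orderOf_eq_prime (by rw [hφ, ← map_pow, f5, map_one])
    (fun h => f1 (hψ (h.trans (map_one ψ').symm)))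
  have hconj : φ * s * φ⁻¹ = s ^ 2 := by
    rw [mul_inv_eq_iff_eq_mul, hs, hφ, ← map_pow, ← map_mul, ← map_mul, hFS]
  have hmem : φ ∈ Subgroup.normalizer (Subgroup.zpowers s : Set G) := by
    refine le_normalizer_of_conj ?_
    rintro _ ⟨i, rfl⟩
    show φ * s ^ i * φ⁻¹ ∈ Subgroup.zpowers s
    rw [← conj_zpow, hconj]
    exact Subgroup.zpow_mem _ (Subgroup.pow_mem _ (Subgroup.mem_zpowers s) 2) i
  obtain ⟨h1, h2⟩ := S.five_once f (p := 31) (by simp [five])
  obtain ⟨g, hg⟩ := M22U.PrimeCount.conj_of_card (p := 31) (by norm_num) h1 h2 (X := Subgroup.zpowers u)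
    (Y := Subgroup.zpowers s) (by rw [Nat.card_zpowers, hu]) (by rw [Nat.card_zpowers, hso])
  have h := congrArg Prod.snd (data_conj hg)
  change Nat.card (Subgroup.normalizer (Subgroup.zpowers u : Set G)) =
    Nat.card (Subgroup.normalizer (Subgroup.zpowers s : Set G)) at h
  rw [h, ← hφo]
  exact Subgroup.orderOf_dvd_natCard _ hmem

/-- the centralisers and normalisers for the five large primes -/
theorem Big.large_data {p : ℕ} (hp : p ∈ five) {u : G} (hu : orderOf u = p) :
    dataOf u = (p, if p = 23 then 23 * 22 else if p = 29 then 29 * 28 else if p = 31 then 31 * 10 else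
      if p = 37 then 37 * 12 else 43 * 14) := by
  classical
  have hex : ∀ q : ℕ, q ∈ five → ∃ y : G, orderOf y = q := fun q hq => by
    haveI : Fact q.Prime := ⟨five_prime hq⟩
    exact exists_prime_orderOf_dvd_card' q (S.five_once f hq).1
  choose! el hel using hex
  have m23 : (23 : ℕ) ∈ five := by simp [five]
  have m29 : (29 : ℕ) ∈ five := by simp [five]
  have m31 : (31 : ℕ) ∈ five := by simp [five]
  have m37 : (37 : ℕ) ∈ five := by simp [five]
  have m43 : (43 : ℕ) ∈ five := by simp [five]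
  have hlink : linked [(23, dataOf (el 23)), (29, dataOf (el 29)), (31, dataOf (el 31)), (37, dataOf (el 37)),
      (43, dataOf (el 43))] = true := by
    have gen : ∀ q ∈ five, ∀ r ∈ five, (((dataOf (el q)).1 % r != 0) || (dataOf (el r) == dataOf (el q))) = true := by
      intro q hq r hr
      by_cases h : (dataOf (el q)).1 % r = 0
      · simp [S.large_link f hq hr (hel q hq) (hel r hr) (Nat.dvd_of_mod_eq_zero h)]
      · simp [h]
    simp only [linked, List.all_cons, List.all_nil, Bool.and_true, Bool.and_eq_true]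
    refine ⟨⟨?_, ?_, ?_, ?_, ?_⟩, ⟨?_, ?_, ?_, ?_, ?_⟩, ⟨?_, ?_, ?_, ?_, ?_⟩, ⟨?_, ?_, ?_, ?_, ?_⟩,
      ⟨?_, ?_, ?_, ?_, ?_⟩⟩ <;> exact gen _ (by simp [five]) _ (by simp [five])
  have h := link_ok
  rw [List.all_eq_true] at h
  have h := h _ (S.large_opts f m23 (hel 23 m23))
  rw [List.all_eq_true] at h
  have h := h _ (S.large_opts f m29 (hel 29 m29))
  rw [List.all_eq_true] at h
  have h := h _ (S.large_opts f m31 (hel 31 m31))
  rw [List.all_eq_true] at h
  have h := h _ (S.large_opts f m37 (hel 37 m37))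
  rw [List.all_eq_true] at h
  have h := h _ (S.large_opts f m43 (hel 43 m43))
  have h5 : (dataOf (el 31)).2 % 5 = 0 := Nat.mod_eq_zero_of_dvd (S.five_dvd_n31 f (hel 31 m31))
  simp only [hlink, h5, Bool.not_true, bne_self_eq_false, Bool.false_or, Bool.and_eq_true, beq_iff_eq] at h
  obtain ⟨⟨⟨⟨e23, e29⟩, e31⟩, e37⟩, e43⟩ := h
  have hu' : dataOf u = dataOf (el p) := by
    obtain ⟨h1, h2⟩ := S.five_once f hp
    obtain ⟨g, hg⟩ := M22U.PrimeCount.conj_of_card (five_prime hp) h1 h2 (X := Subgroup.zpowers u)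
      (Y := Subgroup.zpowers (el p)) (by rw [Nat.card_zpowers, hu]) (by rw [Nat.card_zpowers, hel p hp])
    exact data_conj hg
  rw [hu']
  simp only [five, List.mem_cons, List.not_mem_nil, or_false] at hp
  rcases hp with rfl | rfl | rfl | rfl | rfl
  · exact e23
  · exact e29
  · exact e31
  · exact e37
  · exact e43

/-- the statement for a Sylow subgroup -/
theorem Big.large_sylow {p : ℕ} (hp : p ∈ five) (U : Sylow p G) :
    Subgroup.centralizer ((U : Subgroup G) : Set G) = (U : Subgroup G) ∧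
    Nat.card (Subgroup.normalizer ((U : Subgroup G) : Set G)) =
      if p = 23 then 23 * 22 else if p = 29 then 29 * 28 else if p = 31 then 31 * 10 else
        if p = 37 then 37 * 12 else 43 * 14 := by
  classical
  haveI : Fact p.Prime := ⟨five_prime hp⟩
  obtain ⟨h1, h2⟩ := S.five_once f hp
  obtain ⟨u, hu⟩ := exists_prime_orderOf_dvd_card' p h1
  obtain ⟨P, hP⟩ := M22U.PrimeCount.sylow_of_card (five_prime hp) h1 h2 (X := Subgroup.zpowers u)
    (by rw [Nat.card_zpowers, hu])
  have hUc : Nat.card (U : Subgroup G) = p := by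
    rw [Nat.card_congr (Sylow.equiv U P).toEquiv, hP, Nat.card_zpowers, hu]
  obtain ⟨v, hv⟩ := exists_prime_orderOf_dvd_card' (G := (U : Subgroup G)) p (dvd_of_eq hUc.symm)
  have hvo : orderOf (v : G) = p := by rw [Subgroup.orderOf_coe, hv]
  have hUeq : (U : Subgroup G) = Subgroup.zpowers (v : G) :=
    (Subgroup.eq_of_le_of_card_ge (Subgroup.zpowers_le.2 v.2) (by rw [Nat.card_zpowers, hvo, hUc])).symm
  have h := S.large_data f hp hvo
  obtain ⟨hc, hn⟩ := Prod.ext_iff.1 h
  rw [hUeq, cent_zpowers]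
  refine ⟨(Subgroup.eq_of_le_of_card_ge (Subgroup.zpowers_le.2 (Subgroup.mem_centralizer_singleton_iff.2 rfl))
    (le_of_eq (hc.trans ?_))).symm, hn⟩
  rw [Nat.card_zpowers, hvo]

end Cfsg.Agent.Spor.JFour
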