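import Cfsg.Agent.Lib.Char.ZStar
import Cfsg.Agent.Lib.Solv.Extraspecial
import Cfsg.Agent.Lib.Fusion.Product.Local
import Cfsg.Agent.Lib.Fusion.Cores
import Cfsg.Agent.Lib.Spor.JFourEleven.Generic

/-!
General lemmas for the structure of the centraliser of an element of order eleven.
-/

set_option autoImplicit false
set_option linter.unusedSectionVars false

open scoped commutatorElement

namespace Cfsg.Agent.Spor.JFour.Eleven

universe u

variable {E : Type u} [Group E] [Finite E]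

/-- a noncommutative group of order a cube of a prime is extraspecial -/
theorem cube_extraspecial {p : ℕ} [hp : Fact p.Prime] (hc : Nat.card E = p ^ 3) {u v : E} (huv : u * v ≠ v * u) :
    Cfsg.IsExtraspecial p E := by
  classical
  have hP : IsPGroup p E := IsPGroup.of_card hc
  have hp2 : 2 ≤ p := hp.out.two_le
  haveI : Nontrivial E := Finite.one_lt_card_iff_nontrivial.1 (by
    rw [hc]; exact Nat.one_lt_pow (by norm_num) hp.out.one_lt)
  haveI := hP.center_nontrivial
  obtain ⟨k, hk3, hk⟩ := (Nat.dvd_prime_pow hp.out).1 (hc ▸ Subgroup.card_subgroup_dvd_card (Subgroup.center E))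
  have hnc : ¬ IsCyclic (E ⧸ Subgroup.center E) := fun h => huv
    (commutative_of_cyclic_center_quotient (QuotientGroup.mk' (Subgroup.center E)) (by rw [QuotientGroup.ker_mk']) u v)
  have hq : Nat.card (E ⧸ Subgroup.center E) * p ^ k = p ^ 3 := by
    rw [← hk, ← Subgroup.card_eq_card_quotient_mul_card_subgroup, hc]
  have hk1 : k = 1 := by
    have h0 : k ≠ 0 := fun e => by
      have := Finite.one_lt_card (α := Subgroup.center E)
      rw [hk, e, pow_zero] at this
      omega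
    by_contra h1
    apply hnc
    rcases (by omega : k = 2 ∨ k = 3) with e | e
    · refine isCyclic_of_prime_card (p := p) ?_
      rw [e, pow_succ' p 2] at hq
      exact Nat.eq_of_mul_eq_mul_right (pow_pos hp.out.pos 2) hq
    · rw [e] at hq
      have h1' : Nat.card (E ⧸ Subgroup.center E) = 1 := by
        simpa using Nat.eq_of_mul_eq_mul_right (pow_pos hp.out.pos 3) (hq.trans (one_mul _).symm)
      haveI := (Nat.card_eq_one_iff_unique.1 h1').1
      infer_instance
  subst hk1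
  rw [pow_one] at hk hq
  have hq2 : Nat.card (E ⧸ Subgroup.center E) = p ^ 2 := by
    rw [pow_succ p 2] at hq
    exact Nat.eq_of_mul_eq_mul_right hp.out.pos hq
  have hcomm : commutator E ≤ Subgroup.center E := by
    rw [commutator_def, Subgroup.commutator_le]
    intro a _ b _
    rw [← QuotientGroup.eq_one_iff (N := Subgroup.center E), ← QuotientGroup.mk'_apply, map_commutatorElement,
      commutatorElement_eq_one_iff_mul_comm]
    exact IsPGroup.commutative_of_card_eq_prime_sq hq2 _ _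
  refine Solv.isExtraspecial_of hP hk ?_ ?_
  · refine Subgroup.eq_of_le_of_card_ge hcomm ?_
    rcases (Nat.dvd_prime hp.out).1 (hk ▸ Subgroup.card_dvd_of_le hcomm) with h | h
    · refine absurd ?_ huv
      have hm : ⁅u, v⁆ ∈ commutator E :=
        Subgroup.commutator_mem_commutator (Subgroup.mem_top u) (Subgroup.mem_top v)
      rw [Subgroup.eq_bot_of_card_eq _ h, Subgroup.mem_bot] at hm
      exact commutatorElement_eq_one_iff_mul_comm.1 hm
    · rw [hk, h]
  · intro x
    rw [← QuotientGroup.eq_one_iff (N := Subgroup.center E), QuotientGroup.mk_pow]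
    by_contra hx
    apply hnc
    obtain ⟨i, hi2, hi⟩ := (Nat.dvd_prime_pow hp.out).1
      (hq2 ▸ orderOf_dvd_natCard (x : E ⧸ Subgroup.center E))
    refine isCyclic_of_orderOf_eq_card (x : E ⧸ Subgroup.center E) ?_
    rw [hi, hq2]
    rcases (by omega : i = 0 ∨ i = 1 ∨ i = 2) with rfl | rfl | rfl
    · exact absurd (by rw [orderOf_eq_one_iff.1 (hi.trans (pow_zero p)), one_pow]) hx
    · exact absurd (by rw [← pow_one p, ← hi]; exact pow_orderOf_eq_one _) hx
    · rfl

variable {K : Type u} [Group K] [Finite K]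

/-- the Frattini argument for an isolated involution -/
theorem frattini_isolated {z : K} (hz : Cfsg.IsIsolatedInvolution z) (g : K) :
    ∃ h ∈ Cfsg.oddCore K, Commute (h⁻¹ * g) z := by
  classical
  have hzc := Char.zStar_isolated hz
  set O' := Cfsg.oddCore K with hO'
  obtain ⟨m, hm⟩ := StrongProd.oddCore_odd K
  have z2 : z * z = 1 := by rw [← pow_two, ← hz.1]; exact pow_orderOf_eq_one z
  set c := z * g * z⁻¹ * g⁻¹ with hc
  have hcO : c ∈ O' := hzc g
  have htc : z * c * z⁻¹ = c⁻¹ := by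
    rw [hc, show z * (z * g * z⁻¹ * g⁻¹) * z⁻¹ = (z * z) * g * z⁻¹ * g⁻¹ * z⁻¹ by group, z2,
      inv_eq_of_mul_eq_one_right z2]
    simp only [one_mul, mul_inv_rev, inv_inv, mul_assoc, inv_eq_of_mul_eq_one_right z2]
  set h := (c⁻¹) ^ (m + 1) with hh
  have hth : z * h * z⁻¹ = h⁻¹ := by
    rw [hh, ← conj_pow, ← conj_inv, htc, inv_pow, inv_pow, inv_inv]
  have hh2 : h * h = c⁻¹ := by
    rw [hh, ← pow_add, show m + 1 + (m + 1) = (2 * m + 1) + 1 by ring, pow_succ,
      show (c⁻¹) ^ (2 * m + 1) = 1 by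
        rw [← hm]
        exact orderOf_dvd_iff_pow_eq_one.1 (Subgroup.orderOf_dvd_natCard O' (inv_mem hcO)), one_mul]
  have e1 : h * z * h⁻¹ = g * z * g⁻¹ := by
    have e2 : h * z * h⁻¹ = h * (z * h⁻¹ * z⁻¹) * z := by group
    rw [e2, ← conj_inv, hth, inv_inv, hh2, hc, inv_eq_of_mul_eq_one_right z2]
    simp only [mul_inv_rev, inv_inv, mul_assoc, inv_eq_of_mul_eq_one_right z2, z2, mul_one]
  refine ⟨h, Subgroup.pow_mem _ (inv_mem hcO) _, mul_inv_eq_iff_eq_mul.1 ?_⟩
  calc h⁻¹ * g * z * (h⁻¹ * g)⁻¹ = h⁻¹ * (g * z * g⁻¹) * h := by group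
    _ = z := by rw [← e1]; group

/-- an involution whose fixed points on a subgroup of odd order lie in a central subgroup inverts modulo it -/
theorem invert_mod {z : K} (z2 : z * z = 1) {O A : Subgroup K} (hodd : Odd (Nat.card O))
    (hzO : ∀ o ∈ O, z * o * z⁻¹ ∈ O) (hAc : ∀ x ∈ A, ∀ k : K, Commute x k)
    (hfix : ∀ o ∈ O, Commute o z → o ∈ A) {o : K} (ho : o ∈ O) : z * o * z⁻¹ * o ∈ A := by
  obtain ⟨m, hm⟩ := hodd
  set s := o⁻¹ * (z * o * z⁻¹) with hs
  have hsO : s ∈ O := mul_mem (inv_mem ho) (hzO o ho)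
  have hzz : ∀ r : K, z * (z * r * z⁻¹) * z⁻¹ = r := fun r => by
    rw [show z * (z * r * z⁻¹) * z⁻¹ = (z * z) * r * (z * z)⁻¹ by group, z2]; group
  have hzs : z * s * z⁻¹ = s⁻¹ := by
    rw [hs, ← conj_mul, hzz, ← conj_inv]; group
  set h := s ^ (m + 1) with hh
  have hzh : z * h * z⁻¹ = h⁻¹ := by rw [hh, ← conj_pow, hzs, inv_pow]
  have hh2 : h * h = s := by
    rw [hh, ← pow_add, show m + 1 + (m + 1) = (2 * m + 1) + 1 by ring, pow_succ,
      show s ^ (2 * m + 1) = 1 by
        rw [← hm]; exact orderOf_dvd_iff_pow_eq_one.1 (Subgroup.orderOf_dvd_natCard O hsO), one_mul]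
  have hA : o * h ∈ A := by
    refine hfix _ (mul_mem ho (Subgroup.pow_mem _ hsO _)) (mul_inv_eq_iff_eq_mul.1 ?_).symm
    rw [← conj_mul, hzh, show z * o * z⁻¹ = o * s by rw [hs, mul_inv_cancel_left], ← hh2]
    group
  have e1 : z * (o * h) * z⁻¹ = o * h := by rw [(hAc _ hA z).symm.eq, mul_inv_cancel_right]
  have e2 : z * o * z⁻¹ * o = (o * h) * (h * (o * h)) * h⁻¹ := by
    calc z * o * z⁻¹ * o = z * (o * h) * z⁻¹ * (z * h * z⁻¹)⁻¹ * o := by group
      _ = (o * h) * h * o := by rw [e1, hzh, inv_inv]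
      _ = _ := by group
  rw [e2, (hAc _ hA h).symm.eq, mul_assoc, mul_inv_cancel_right]
  exact mul_mem hA hA

/-- inversion modulo a central subgroup makes the commutators central -/
theorem comm_mod {z : K} {O A : Subgroup K} (hAc : ∀ x ∈ A, ∀ k : K, Commute x k)
    (hinv : ∀ o ∈ O, z * o * z⁻¹ * o ∈ A) {o o' : K} (ho : o ∈ O) (ho' : o' ∈ O) :
    o * o' * o⁻¹ * o'⁻¹ ∈ A := by
  have h1 := hinv _ (inv_mem ho)
  have h2 := hinv _ (inv_mem ho')
  have h3 := hinv _ (mul_mem (inv_mem ho) (inv_mem ho'))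
  set α := z * o⁻¹ * z⁻¹ * o⁻¹ with hα
  set β := z * o'⁻¹ * z⁻¹ * o'⁻¹ with hβ
  set γ := z * (o⁻¹ * o'⁻¹) * z⁻¹ * (o⁻¹ * o'⁻¹) with hγ
  have e : γ * (o' * o) = α * β * (o * o') := by
    calc γ * (o' * o) = (α * o) * (β * o') := by rw [hγ, hα, hβ]; group
      _ = α * (o * β) * o' := by group
      _ = α * (β * o) * o' := by rw [(hAc _ h2 o).eq]
      _ = _ := by group
  have : o * o' * o⁻¹ * o'⁻¹ = (α * β)⁻¹ * γ := by
    calc o * o' * o⁻¹ * o'⁻¹ = (α * β)⁻¹ * (α * β * (o * o')) * (o' * o)⁻¹ := by group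
      _ = (α * β)⁻¹ * γ := by rw [← e]; group
  rw [this]
  exact mul_mem (inv_mem (mul_mem h1 h2)) h3

end Cfsg.Agent.Spor.JFour.Eleven
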