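import Cfsg.Agent.Lib.Spor.JFourEleven.Instance
import Cfsg.Agent.Lib.Spor.JFourEleven.Tools

/-!
A pair of commuting elements of order eleven, one from each class.
-/

set_option autoImplicit false

namespace Cfsg.Agent.Spor.JFour

open Cfsg.Agent.Spor.LFT (iT)

universe u

variable {G : Type u} [Group G] [Finite G] {z : G} {Q N : Subgroup G} {x : G}

/-- powers of an element of prime order generate the same centraliser -/
theorem cent_eq_of_mem {b d : G} (hb : orderOf b = 11) (hd : d ∈ Subgroup.zpowers b) (hd1 : d ≠ 1) :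
    Subgroup.centralizer ({d} : Set G) = Subgroup.centralizer ({b} : Set G) := by
  haveI : Fact (Nat.Prime 11) := ⟨by norm_num⟩
  obtain ⟨i, hi⟩ := zpowers_gen (q := 11) (hb ▸ pow_orderOf_eq_one b) hd hd1
  obtain ⟨j, hj⟩ := hd
  refine le_antisymm (fun c hc => ?_) (fun c hc => ?_)
  · rw [Subgroup.mem_centralizer_singleton_iff, ← show d ^ i = b from hi]
    exact ((show Commute c d from Subgroup.mem_centralizer_singleton_iff.1 hc).zpow_right i).eq
  · rw [Subgroup.mem_centralizer_singleton_iff, ← show b ^ j = d from hj]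
    exact ((show Commute c b from Subgroup.mem_centralizer_singleton_iff.1 hc).zpow_right j).eq

/-- an element of order eleven of the centre side, and one of the other class commuting with it -/
structure ElevenPair (z a b t : G) : Prop where
  ao : orderOf a = 11
  az : Commute a z
  big : 1331 ∣ Nat.card (Subgroup.centralizer ({a} : Set G))
  bo : orderOf b = 11
  ba : Commute b a
  bA : b ∉ Subgroup.zpowers a
  bcard : Nat.card (Subgroup.centralizer ({b} : Set G)) = 242
  zb : z * b * z⁻¹ = b⁻¹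
  bpow : ∀ k : ℕ, ¬ 11 ∣ k → ∃ c, c * b * c⁻¹ = b ^ k
  t2 : t * t = 1
  tz : Commute t z
  ta : t * a * t⁻¹ = a⁻¹

variable (S : Big z Q N x) (f : Frame z Q x)

include S f

theorem Big.eleven_pair : ∃ a b t, ElevenPair z a b t := by
  classical
  haveI : Fact (Nat.Prime 11) := ⟨by norm_num⟩
  obtain ⟨V, t, b, π, hVe, hiT, X⟩ := S.eleven_ctx f
  obtain ⟨g, w, W⟩ := X.cent_b
  have hbw : Commute b w := W.wb.symm
  have hw11 : w ^ 11 = 1 := W.wo ▸ pow_orderOf_eq_one w
  -- a Sylow subgroup over the pair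
  have hB : IsPGroup 11 (Subgroup.zpowers b) := IsPGroup.of_card (n := 1) (by rw [Nat.card_zpowers, X.bo, pow_one])
  have hW : IsPGroup 11 (Subgroup.zpowers w) := IsPGroup.of_card (n := 1) (by rw [Nat.card_zpowers, W.wo, pow_one])
  have hbn : Subgroup.zpowers w ≤ Subgroup.normalizer (Subgroup.zpowers b : Set G) := by
    refine Subgroup.zpowers_le.2 (Subgroup.mem_normalizer_fintype ?_)
    rintro _ ⟨i, rfl⟩
    show w * b ^ i * w⁻¹ ∈ (Subgroup.zpowers b : Set G)
    rw [(W.wb.zpow_right i).eq, mul_inv_cancel_right]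
    exact ⟨i, rfl⟩
  obtain ⟨U, hU⟩ := (hB.to_sup_of_normal_left' hW hbn).exists_le_sylow
  have hUc : Nat.card (U : Subgroup G) = 11 ^ 3 := by
    rw [U.card_eq_multiplicity, X.cardG]
    congr 1
    rw [Nat.factorization_def _ (by norm_num : Nat.Prime 11),
      show (86775571046077562880 : ℕ) = 11 ^ 3 * 65195770883604480 by norm_num,
      padicValNat.mul (by norm_num) (by norm_num), padicValNat.prime_pow,
      padicValNat.eq_zero_of_not_dvd (by norm_num)]
  have hbU : b ∈ (U : Subgroup G) := hU (Subgroup.mem_sup_left (Subgroup.mem_zpowers b))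
  have hwU : w ∈ (U : Subgroup G) := hU (Subgroup.mem_sup_right (Subgroup.mem_zpowers w))
  have hUodd : ∀ y ∈ (U : Subgroup G), Odd (orderOf y) := fun y hy => by
    have := Subgroup.orderOf_dvd_natCard _ hy
    rw [hUc] at this
    exact (by decide : Odd (11 ^ 3)).of_dvd_nat this
  set bU : (U : Subgroup G) := ⟨b, hbU⟩ with hbU'
  obtain ⟨s, hs⟩ : ∃ s : (U : Subgroup G), s * bU ≠ bU * s := by
    by_contra hno
    push Not at hno
    have h := Subgroup.card_dvd_of_le (fun y hy => Subgroup.mem_centralizer_singleton_iff.2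
      (congrArg Subtype.val (hno ⟨y, hy⟩)) : (U : Subgroup G) ≤ Subgroup.centralizer ({b} : Set G))
    rw [hUc, W.card] at h
    norm_num at h
  have hE : Cfsg.IsExtraspecial 11 (U : Subgroup G) := Eleven.cube_extraspecial hUc hs
  -- a generator of the centre
  set e : (U : Subgroup G) := s * bU * s⁻¹ * bU⁻¹ with he
  have hec : e ∈ Subgroup.center (U : Subgroup G) := hE.1.2.2 ▸
    Subgroup.commutator_mem_commutator (Subgroup.mem_top s) (Subgroup.mem_top bU)
  have he1 : e ≠ 1 := fun h => hs (mul_inv_eq_iff_eq_mul.1 (mul_inv_eq_one.1 h))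
  have hcb : ∀ y : (U : Subgroup G), Commute (e : G) y := fun y =>
    congrArg Subtype.val (Subgroup.mem_center_iff.1 hec y).symm
  set c : G := (e : G) with hc
  have hUle : (U : Subgroup G) ≤ Subgroup.centralizer ({c} : Set G) := fun y hy =>
    Subgroup.mem_centralizer_singleton_iff.2 (hcb ⟨y, hy⟩).symm.eq
  have hc11 : 1331 ∣ Nat.card (Subgroup.centralizer ({c} : Set G)) := by
    have := Subgroup.card_dvd_of_le hUle
    rwa [hUc] at this
  have hcw : c ∈ Subgroup.zpowers w := by
    have hmem : c ∈ ((Subgroup.zpowers b ⊔ Subgroup.zpowers w : Subgroup G) : Set G) :=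
      W.mem c (hcb bU) (hUodd c e.2)
    rw [Subgroup.coe_mul_of_right_le_normalizer_left _ _ hbn] at hmem
    obtain ⟨β, hβ, ω, hω, hbeq⟩ := Set.mem_mul.1 hmem
    have hβc : t * β * t⁻¹ = β := by
      obtain ⟨i, rfl⟩ := hβ
      show t * b ^ i * t⁻¹ = b ^ i
      rw [(X.bt.zpow_left i).symm.eq, mul_inv_cancel_right]
    have hωc : t * ω * t⁻¹ = ω⁻¹ := by
      obtain ⟨i, rfl⟩ := hω
      show t * w ^ i * t⁻¹ = (w ^ i)⁻¹
      rw [← conj_zpow, W.tw, inv_zpow]
    have hcom : Commute β ω := by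
      obtain ⟨i, rfl⟩ := hβ
      obtain ⟨j, rfl⟩ := hω
      exact (hbw.zpow_left i).zpow_right j
    -- the square of the part in the first factor
    set q := β * β with hq
    by_contra hne
    have hq1 : q ≠ 1 := fun h => hne (by
      have h11 : β ^ 11 = 1 := by
        have := Subgroup.orderOf_dvd_natCard _ hβ
        rw [Nat.card_zpowers, X.bo] at this
        exact orderOf_dvd_iff_pow_eq_one.1 this
      have h2 := pow_gcd_eq_one.2 ⟨(by rw [pow_two]; exact h : β ^ 2 = 1), h11⟩
      rw [show Nat.gcd 2 11 = 1 from rfl, pow_one] at h2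
      rw [← hbeq, h2, one_mul]
      exact hω)
    have hqb : q ∈ Subgroup.zpowers b := mul_mem hβ hβ
    have hCq := cent_eq_of_mem X.bo hqb hq1
    have hqU : q ∈ (U : Subgroup G) := (Subgroup.zpowers_le.2 hbU) hqb
    set qU : (U : Subgroup G) := ⟨q, hqU⟩
    set d : (U : Subgroup G) := s * qU * s⁻¹ * qU⁻¹ with hd
    have hdc : d ∈ Subgroup.center (U : Subgroup G) := hE.1.2.2 ▸
      Subgroup.commutator_mem_commutator (Subgroup.mem_top s) (Subgroup.mem_top qU)
    have hd1 : d ≠ 1 := fun h => hs (Subtype.ext (by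
      have h' : Commute (s : G) q := congrArg Subtype.val (mul_inv_eq_iff_eq_mul.1 (mul_inv_eq_one.1 h))
      exact Subgroup.mem_centralizer_singleton_iff.1 (hCq ▸ Subgroup.mem_centralizer_singleton_iff.2 h'.eq :
        (s : G) ∈ Subgroup.centralizer ({b} : Set G))))
    have hzd : Subgroup.zpowers d = Subgroup.center (U : Subgroup G) := by
      refine Subgroup.eq_of_le_of_card_ge (Subgroup.zpowers_le.2 hdc) ?_
      rw [hE.2, Nat.card_zpowers]
      have := Subgroup.orderOf_dvd_natCard _ hdc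
      rw [hE.2] at this
      exact (((Nat.dvd_prime (by norm_num)).1 this).resolve_left (fun h => hd1 (orderOf_eq_one_iff.1 h))).ge
    obtain ⟨n, hn⟩ : e⁻¹ ∈ Submonoid.powers d :=
      mem_powers_iff_mem_zpowers.2 (hzd.symm ▸ inv_mem hec)
    have hstep : ∀ k : ℕ, s ^ k * qU * (s ^ k)⁻¹ = qU * d ^ k := by
      intro k
      induction k with
      | zero => simp
      | succ k ih =>
        have hdq : ∀ r, Commute d r := fun r => (Subgroup.mem_center_iff.1 hdc r).symm
        calc s ^ (k + 1) * qU * (s ^ (k + 1))⁻¹ = s * (s ^ k * qU * (s ^ k)⁻¹) * s⁻¹ := by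
              rw [pow_succ']; group
          _ = s * qU * s⁻¹ * (s * d ^ k * s⁻¹) := by rw [ih]; group
          _ = d * qU * d ^ k := by
              rw [← (((hdq s).pow_left k)).eq, mul_inv_cancel_right, hd, inv_mul_cancel_right]
          _ = qU * (d * d ^ k) := by rw [(hdq qU).eq, mul_assoc]
          _ = qU * d ^ (k + 1) := by rw [pow_succ']
    have hconj : (s : G) ^ n * q * ((s : G) ^ n)⁻¹ = t * c * t⁻¹ := by
      have h1 : (s : G) ^ n * q * ((s : G) ^ n)⁻¹ = q * c⁻¹ := by
        have := congrArg Subtype.val (hstep n)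
        rw [show d ^ n = e⁻¹ from hn] at this
        exact this
      rw [h1, ← hbeq, ← conj_mul, hβc, hωc, hq, mul_inv_rev, hcom.inv_left.inv_right.symm.eq]
      group
    have h := card_cent_single ((s : G) ^ n) q
    rw [hconj, card_cent_single t c, hCq, W.card] at h
    rw [h] at hc11
    norm_num at hc11
  have hwc : Subgroup.centralizer ({c} : Set G) = Subgroup.centralizer ({w} : Set G) :=
    cent_eq_of_mem W.wo hcw fun h => he1 (Subtype.ext h)
  have hw1331 : 1331 ∣ Nat.card (Subgroup.centralizer ({w} : Set G)) := hwc ▸ hc11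
  -- the involution `g` is of the first class
  obtain ⟨-, t0, -, -, hcls⟩ := S.census f
  have hord : ∀ {i : G}, i * i = 1 → i ≠ 1 → orderOf i = 2 := fun h h' =>
    orderOf_eq_prime (by rw [pow_two, h]) h'
  have hzg : IsConj z g := by
    by_contra hno
    have h1 : IsConj g t := ((hcls g (hord W.g2 W.g1)).resolve_left fun h => hno h.symm).trans
      ((hcls t (hord X.t2 X.t1)).resolve_left fun h => hiT.2 h.symm).symm
    obtain ⟨k, hk⟩ := isConj_iff.1 h1
    set d := k * w * k⁻¹ with hd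
    have hdt : Commute d t := by
      have := (Commute.conj_iff k).2 W.gw.symm
      rwa [hk] at this
    set C := Subgroup.centralizer ({t} : Set G) with hC
    set dC : C := ⟨d, Subgroup.mem_centralizer_singleton_iff.2 hdt.eq⟩
    set bC : C := ⟨b, Subgroup.mem_centralizer_singleton_iff.2 X.bt.eq⟩
    have hdo : orderOf dC = 11 := by
      rw [← Subgroup.orderOf_coe]
      show orderOf (k * w * k⁻¹) = 11
      rw [← MulAut.conj_apply]
      exact (orderOf_injective (MulAut.conj k).toMonoidHom (MulAut.conj k).injective w).trans W.wo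
    have hbo : orderOf bC = 11 := by rw [← Subgroup.orderOf_coe]; exact X.bo
    obtain ⟨m, hm⟩ := M22U.PrimeCount.conj_of_card (p := 11) (by norm_num) (hbo ▸ orderOf_dvd_natCard bC)
      (X.hI2 t X.t2 X.t1) (X := Subgroup.zpowers dC) (Y := Subgroup.zpowers bC)
      (by rw [Nat.card_zpowers, hdo]) (by rw [Nat.card_zpowers, hbo])
    have hmem : m * dC * m⁻¹ ∈ Subgroup.zpowers bC := hm ▸ ⟨dC, Subgroup.mem_zpowers dC, rfl⟩
    have hne : m * dC * m⁻¹ ≠ 1 := fun h => by
      rw [conj_eq_one_iff.1 h, orderOf_one] at hdo; norm_num at hdo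
    obtain ⟨i, hi⟩ := hmem
    have e1 : (m : G) * d * (m : G)⁻¹ ∈ Subgroup.zpowers b := by
      refine ⟨i, ?_⟩
      have := congrArg Subtype.val (show bC ^ i = m * dC * m⁻¹ from hi)
      rw [SubgroupClass.coe_zpow] at this
      exact this
    have h2 := card_cent_single (m : G) d
    rw [cent_eq_of_mem X.bo e1 fun h => hne (Subtype.ext h), W.card, hd, card_cent_single] at h2
    rw [← h2] at hw1331
    norm_num at hw1331
  obtain ⟨k, hk⟩ := isConj_iff.1 hzg
  have hkz : z = k⁻¹ * g * (k⁻¹)⁻¹ := by rw [← hk]; group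
  have hco : ∀ y : G, orderOf (k⁻¹ * y * (k⁻¹)⁻¹) = orderOf y := fun y => by
    rw [← MulAut.conj_apply]
    exact orderOf_injective (MulAut.conj k⁻¹).toMonoidHom (MulAut.conj k⁻¹).injective y
  refine ⟨k⁻¹ * w * (k⁻¹)⁻¹, k⁻¹ * b * (k⁻¹)⁻¹, k⁻¹ * t * (k⁻¹)⁻¹, ?_⟩
  refine
    { ao := (hco w).trans W.wo
      az := by rw [hkz]; exact (Commute.conj_iff _).2 W.gw.symm
      big := by rw [card_cent_single]; exact hw1331
      bo := (hco b).trans X.bo
      ba := (Commute.conj_iff _).2 hbw
      bA := fun h => W.wB ?_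
      bcard := by rw [card_cent_single]; exact W.card
      zb := by
        conv_lhs => rw [hkz]
        rw [show (k⁻¹ * b * (k⁻¹)⁻¹)⁻¹ = k⁻¹ * b⁻¹ * (k⁻¹)⁻¹ by group, ← W.gb]; group
      bpow := fun i hi => ?_
      t2 := by rw [conj_mul, X.t2, mul_one, mul_inv_cancel]
      tz := by rw [hkz]; exact (Commute.conj_iff _).2 W.gt.symm
      ta := by rw [show (k⁻¹ * w * (k⁻¹)⁻¹)⁻¹ = k⁻¹ * w⁻¹ * (k⁻¹)⁻¹ by group, ← W.tw]; group }
  · obtain ⟨i, hi⟩ := h
    have hi' : (k⁻¹ * w * (k⁻¹)⁻¹) ^ i = k⁻¹ * b * (k⁻¹)⁻¹ := hi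
    rw [conj_zpow] at hi'
    have hbi : w ^ i = b := mul_left_cancel (mul_right_cancel hi')
    have hb1 : b ≠ 1 := fun e => by
      have := X.bo; rw [e, orderOf_one] at this; norm_num at this
    obtain ⟨j, hj⟩ := zpowers_gen (q := 11) hw11 (hbi ▸ Subgroup.zpow_mem _ (Subgroup.mem_zpowers w) i :
      b ∈ Subgroup.zpowers w) hb1
    exact ⟨j, hj⟩
  · obtain ⟨-, -, hp⟩ := S.cent_eleven_t f hVe X.Vc X.tV hiT X.bo X.bt
    obtain ⟨c', -, hc'⟩ := hp i hi
    refine ⟨k⁻¹ * c' * k, ?_⟩
    rw [conj_pow, ← hc']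
    group

end Cfsg.Agent.Spor.JFour
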