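import Cfsg.Agent.Lib.Spor.JFourEleven.Ctx
import Cfsg.Agent.Lib.Solv.Coprime
import Cfsg.Agent.Lib.Fusion.NPC
import Cfsg.Agent.Lib.Spor.MathieuSimple
import Mathlib.GroupTheory.GroupAction.Quotient

/-!
The stabiliser of a coset fixed by an element of order eleven contains an involution inverting that element.
-/

set_option autoImplicit false

namespace Cfsg.Agent.Spor.JFour.Eleven

universe u

variable {G : Type u} [Group G] [Finite G]

/-- moving inside a coset of `⟨b⟩` to an element fixed by `g` -/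
theorem fix_shift {b g o β : G} (hb : orderOf b = 11) (hg : g * b * g⁻¹ ∈ Subgroup.zpowers b)
    (hne : g * b * g⁻¹ ≠ b) (ho : g * o * g⁻¹ = o * β) (hβ : β ∈ Subgroup.zpowers b) :
    ∃ u ∈ Subgroup.zpowers b, Commute g (o * u) := by
  classical
  haveI : Fact (Nat.Prime 11) := ⟨by norm_num⟩
  have hmem : ∀ u ∈ Subgroup.zpowers b, g * u * g⁻¹ ∈ Subgroup.zpowers b := by
    rintro u ⟨k, rfl⟩
    rw [← conj_zpow]
    exact Subgroup.zpow_mem _ hg k
  let φ : Subgroup.zpowers b → Subgroup.zpowers b :=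
    fun u => ⟨g * (u : G) * g⁻¹ * (u : G)⁻¹, mul_mem (hmem u u.2) (inv_mem u.2)⟩
  have hcomm : ∀ u ∈ Subgroup.zpowers b, ∀ v ∈ Subgroup.zpowers b, Commute u v := by
    rintro _ ⟨i, rfl⟩ _ ⟨j, rfl⟩
    exact ((Commute.refl b).zpow_left i).zpow_right j
  have hinj : Function.Injective φ := by
    intro u v e
    by_contra huv
    have e' : g * (u : G) * g⁻¹ * (u : G)⁻¹ = g * (v : G) * g⁻¹ * (v : G)⁻¹ := congrArg Subtype.val e
    set w := (v : G)⁻¹ * u with hw
    have hw1 : w ≠ 1 := fun h => huv (Subtype.ext (inv_mul_eq_one.1 h).symm)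
    have hwB : w ∈ Subgroup.zpowers b := mul_mem (inv_mem v.2) u.2
    have hfix : g * w * g⁻¹ = w := by
      have e2 : g * (u : G) * g⁻¹ = g * (v : G) * g⁻¹ * ((v : G)⁻¹ * u) := by
        rw [← mul_assoc, ← e', inv_mul_cancel_right]
      calc g * w * g⁻¹ = (g * (v : G) * g⁻¹)⁻¹ * (g * (u : G) * g⁻¹) := by rw [hw]; group
        _ = w := by rw [e2, inv_mul_cancel_left]
    have ho' : orderOf w = 11 := by
      have := Subgroup.orderOf_dvd_natCard _ hwB
      rw [Nat.card_zpowers, hb] at this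
      exact ((Nat.dvd_prime (by norm_num)).1 this).resolve_left fun h => hw1 (orderOf_eq_one_iff.1 h)
    have hgen : Subgroup.zpowers w = Subgroup.zpowers b :=
      Subgroup.eq_of_le_of_card_ge (Subgroup.zpowers_le.2 hwB) (by rw [Nat.card_zpowers, Nat.card_zpowers, hb, ho'])
    obtain ⟨k, hk⟩ : b ∈ Subgroup.zpowers w := hgen ▸ Subgroup.mem_zpowers b
    refine hne ?_
    rw [← show w ^ k = b from hk, ← conj_zpow, hfix]
  obtain ⟨u, hu⟩ := Finite.injective_iff_surjective.1 hinj ⟨β⁻¹, inv_mem hβ⟩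
  have hu' : g * (u : G) * g⁻¹ * (u : G)⁻¹ = β⁻¹ := congrArg Subtype.val hu
  refine ⟨u, u.2, mul_inv_eq_iff_eq_mul.1 ?_⟩
  calc g * (o * u) * g⁻¹ = (g * o * g⁻¹) * (g * (u : G) * g⁻¹) := by group
    _ = o * β * (β⁻¹ * u) := by rw [ho, ← hu', inv_mul_cancel_right]
    _ = o * u := by group

variable {V : Subgroup G} {t b : G} {π : ↥(Subgroup.normalizer (V : Set G)) →* Cfsg.M24}
variable (X : Ctx V t b π)

include X

theorem Ctx.b_mem_of_conj {g : G} (hg : g * b * g⁻¹ ∈ Subgroup.zpowers b) {o : G} (ho : Commute o b) :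
    Commute (g * o * g⁻¹) b := by
  have ho' : orderOf (g * b * g⁻¹) = 11 := by
    rw [← X.bo, ← MulAut.conj_apply]
    exact orderOf_injective (MulAut.conj g).toMonoidHom (MulAut.conj g).injective b
  obtain ⟨k, hk⟩ : b ∈ Subgroup.zpowers (g * b * g⁻¹) := by
    rw [Subgroup.eq_of_le_of_card_ge (Subgroup.zpowers_le.2 hg) (by rw [Nat.card_zpowers, Nat.card_zpowers, X.bo, ho'])]
    exact Subgroup.mem_zpowers b
  have h := ((Commute.conj_iff g).2 ho).zpow_right k
  rwa [show (g * b * g⁻¹) ^ k = b from hk] at h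

/-- two subgroups of the normaliser moved without fixed points by `b` -/
theorem Ctx.two_group {W : Subgroup G} (hW : W ≤ Subgroup.normalizer (V : Set G)) {k : ℕ}
    (hk : Nat.card W = 2 ^ k) (hn : ∀ w ∈ W, b * w * b⁻¹ ∈ W)
    (hfix : W ⊓ Subgroup.centralizer ({b} : Set G) = ⊥) : W ≤ V ∧ (Nat.card W = 1 ∨ Nat.card W = 1024) := by
  classical
  haveI : Fact (Nat.Prime 11) := ⟨by norm_num⟩
  haveI : Fact (Nat.Prime 2) := ⟨Nat.prime_two⟩
  have hb11 : b ^ 11 = 1 := X.bo ▸ pow_orderOf_eq_one b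
  have hpow : ∀ i ≤ 11, 2 ^ i % 11 = 1 → i = 0 ∨ i = 10 := by decide +kernel
  have small : ∀ W' : Subgroup G, W' ≤ W → W' ≤ V → (∀ w ∈ W', b * w * b⁻¹ ∈ W') →
      Nat.card W' = 1 ∨ Nat.card W' = 1024 := by
    intro W' h1 h2 h3
    obtain ⟨i, hi, e⟩ := (Nat.dvd_prime_pow Nat.prime_two).1 (X.Vc ▸ Subgroup.card_dvd_of_le h2)
    have hm := card_modEq_cent (p := 11) hb11 h3
    rw [(eq_bot_iff.2 ((inf_le_inf_right _ h1).trans hfix.le) :
      W' ⊓ Subgroup.centralizer ({b} : Set G) = ⊥), Subgroup.card_bot, e] at hm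
    rcases hpow i hi hm with rfl | rfl
    · left; rw [e]; norm_num
    · right; rw [e]; norm_num
  suffices hWV : W ≤ V from ⟨hWV, small W le_rfl hWV hn⟩
  set bM : (Subgroup.normalizer (V : Set G)) := ⟨b, X.bM⟩
  set W' := W.subgroupOf (Subgroup.normalizer (V : Set G)) with hW'
  set Wb := W'.map π with hWb
  have hWbc : ∃ i, i ≤ 10 ∧ Nat.card Wb = 2 ^ i := by
    have h1 : Nat.card Wb ∣ 2 ^ k := by
      refine (Subgroup.card_map_dvd _ _).trans ?_
      rw [Nat.card_congr (Subgroup.subgroupOfEquivOfLe hW).toEquiv, hk]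
    obtain ⟨i, -, hi⟩ := (Nat.dvd_prime_pow Nat.prime_two).1 h1
    refine ⟨i, ?_, hi⟩
    by_contra hh
    have h2 := Subgroup.card_subgroup_dvd_card Wb
    rw [hi, Spor.card_M24] at h2
    have : 2 ^ 11 ∣ 244823040 := (pow_dvd_pow 2 (by omega)).trans h2
    norm_num at this
  obtain ⟨i, hi, hWbi⟩ := hWbc
  have hVn : ∀ w ∈ W ⊓ V, b * w * b⁻¹ ∈ W ⊓ V := fun w hw =>
    ⟨hn w hw.1, (Subgroup.mem_normalizer_iff.1 X.bM w).1 hw.2⟩
  -- no fixed points in the image
  have hfixb : ∀ w : (Subgroup.normalizer (V : Set G)), (w : G) ∈ W → Commute (π w) (π bM) → (w : G) ∈ V := by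
    set W1 : Subgroup G := (W' ⊓ (Subgroup.centralizer ({π bM} : Set Cfsg.M24)).comap π).map (Subgroup.normalizer (V : Set G)).subtype with hW1
    have hW1i : W ⊓ V ≤ W1 := by
      intro w hw
      refine ⟨⟨w, hW hw.1⟩, ⟨Subgroup.mem_subgroupOf.2 hw.1, ?_⟩, rfl⟩
      show π _ ∈ Subgroup.centralizer _
      rw [(X.ker ⟨w, hW hw.1⟩).2 hw.2]
      exact one_mem _
    have hle : Nat.card W1 ≤ Nat.card (W ⊓ V : Subgroup G) := by
      have hmem : ∀ w ∈ W1, b * w * b⁻¹ * w⁻¹ ∈ W ⊓ V := by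
        rintro _ ⟨w, ⟨hw1, hw2⟩, rfl⟩
        refine Subgroup.mem_inf.2 ⟨mul_mem (hn _ (Subgroup.mem_subgroupOf.1 hw1)) (inv_mem (Subgroup.mem_subgroupOf.1 hw1)), ?_⟩
        refine (X.ker (bM * w * bM⁻¹ * w⁻¹)).1 ?_
        rw [map_mul, map_mul, map_mul, map_inv, map_inv,
          ← (show Commute (π w) (π bM) from Subgroup.mem_centralizer_singleton_iff.1 hw2).eq, mul_inv_cancel_right,
          mul_inv_cancel]
      have hW1W : W1 ≤ W := by
        rintro _ ⟨w, ⟨hw1, -⟩, rfl⟩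
        exact Subgroup.mem_subgroupOf.1 hw1
      refine Nat.card_le_card_of_injective (fun w : W1 => (⟨_, hmem w w.2⟩ : (W ⊓ V : Subgroup G))) fun u v e => ?_
      have e' : b * (u : G) * b⁻¹ * (u : G)⁻¹ = b * (v : G) * b⁻¹ * (v : G)⁻¹ := congrArg Subtype.val e
      have hx : (v : G)⁻¹ * u ∈ W ⊓ Subgroup.centralizer ({b} : Set G) := by
        refine Subgroup.mem_inf.2 ⟨mul_mem (inv_mem (hW1W v.2)) (hW1W u.2), Subgroup.mem_centralizer_singleton_iff.2 ?_⟩
        refine (mul_inv_eq_iff_eq_mul.1 ?_).symm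
        have e2 : b * (u : G) * b⁻¹ = b * (v : G) * b⁻¹ * ((v : G)⁻¹ * u) := by
          rw [← mul_assoc, ← e', inv_mul_cancel_right]
        calc b * ((v : G)⁻¹ * u) * b⁻¹ = (b * (v : G) * b⁻¹)⁻¹ * (b * (u : G) * b⁻¹) := by group
          _ = _ := by rw [e2, inv_mul_cancel_left]
      rw [hfix, Subgroup.mem_bot, inv_mul_eq_one] at hx
      exact Subtype.ext hx.symm
    have heq := Subgroup.eq_of_le_of_card_ge hW1i hle
    intro w hw hc
    have : (w : G) ∈ W1 := ⟨w, ⟨Subgroup.mem_subgroupOf.2 hw, Subgroup.mem_centralizer_singleton_iff.2 hc⟩, rfl⟩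
    exact (heq ▸ this : (w : G) ∈ W ⊓ V).2
  have hfpf : Wb ⊓ Subgroup.centralizer ({π bM} : Set Cfsg.M24) = ⊥ := by
    rw [eq_bot_iff]
    rintro _ ⟨⟨w, hw, rfl⟩, hc⟩
    exact Subgroup.mem_bot.2 ((X.ker w).2 (hfixb w (Subgroup.mem_subgroupOf.1 hw)
      (Subgroup.mem_centralizer_singleton_iff.1 hc)))
  have hbn : ∀ y ∈ Wb, π bM * y * (π bM)⁻¹ ∈ Wb := by
    rintro _ ⟨w, hw, rfl⟩
    refine ⟨bM * w * bM⁻¹, Subgroup.mem_subgroupOf.2 (hn _ (Subgroup.mem_subgroupOf.1 hw)), ?_⟩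
    rw [map_mul, map_mul, map_inv]
  have hb11' : π bM ^ 11 = 1 := by
    rw [← map_pow, show bM ^ 11 = 1 from Subtype.ext (by rw [SubmonoidClass.coe_pow]; exact hb11), map_one]
  have mod1 : ∀ Y : Subgroup Cfsg.M24, Y ≤ Wb → (∀ y ∈ Y, π bM * y * (π bM)⁻¹ ∈ Y) →
      Nat.card Y = 1 ∨ Nat.card Y = 1024 := by
    intro Y h1 h2
    obtain ⟨j, hj, e⟩ := (Nat.dvd_prime_pow Nat.prime_two).1 (hWbi ▸ Subgroup.card_dvd_of_le h1)
    have hm := card_modEq_cent (p := 11) hb11' h2
    rw [(eq_bot_iff.2 ((inf_le_inf_right _ h1).trans hfpf.le) :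
      Y ⊓ Subgroup.centralizer ({π bM} : Set Cfsg.M24) = ⊥), Subgroup.card_bot, e] at hm
    rcases hpow j (by omega) hm with rfl | rfl
    · left; rw [e]; norm_num
    · right; rw [e]; norm_num
  rcases mod1 Wb le_rfl hbn with h1 | h1
  · intro w hw
    refine (X.ker ⟨w, hW hw⟩).1 ?_
    exact Subgroup.mem_bot.1 (Subgroup.card_eq_one.1 h1 ▸ (⟨⟨w, hW hw⟩, Subgroup.mem_subgroupOf.2 hw, rfl⟩ :
      π ⟨w, hW hw⟩ ∈ Wb))
  · exfalso
    set Zb := (Subgroup.center Wb).map Wb.subtype with hZb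
    have hZn : ∀ y ∈ Zb, π bM * y * (π bM)⁻¹ ∈ Zb := by
      rintro _ ⟨y, hy, rfl⟩
      refine ⟨⟨_, hbn y y.2⟩, Subgroup.mem_center_iff.2 fun c => Subtype.ext ?_, rfl⟩
      obtain ⟨c', hc'⟩ : ∃ c' : Wb, π bM * (c' : Cfsg.M24) * (π bM)⁻¹ = c := by
        let ψ : Wb → Wb := fun c' => ⟨_, hbn c' c'.2⟩
        have hi : Function.Injective ψ := fun u v e => Subtype.ext (by
          have e' : π bM * (u : Cfsg.M24) * (π bM)⁻¹ = π bM * (v : Cfsg.M24) * (π bM)⁻¹ := congrArg Subtype.val e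
          exact mul_left_cancel (mul_right_cancel e'))
        obtain ⟨c', hc'⟩ := Finite.injective_iff_surjective.1 hi c
        exact ⟨c', congrArg Subtype.val hc'⟩
      show (c : Cfsg.M24) * (π bM * y * (π bM)⁻¹) = π bM * y * (π bM)⁻¹ * c
      rw [← hc', conj_mul, conj_mul]
      rw [show (c' : Cfsg.M24) * y = (y : Cfsg.M24) * c' from congrArg Subtype.val (Subgroup.mem_center_iff.1 hy c')]
    have hZc : Nat.card Zb = Nat.card (Subgroup.center Wb) :=
      Subgroup.card_map_of_injective (Subgroup.subtype_injective _)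
    rcases mod1 Zb (Subgroup.map_subtype_le _) hZn with h2 | h2
    · have hp : IsPGroup 2 Wb := IsPGroup.of_card (n := 10) (by rw [h1]; norm_num)
      haveI : Nontrivial Wb := Finite.one_lt_card_iff_nontrivial.1 (by rw [h1]; norm_num)
      have hnt := hp.center_nontrivial
      rw [hZc] at h2
      exact absurd (Finite.one_lt_card_iff_nontrivial.2 hnt) (by omega)
    · refine X.hS2 Wb (by rw [h1]; norm_num) fun p hp q hq => ?_
      have htop : Subgroup.center Wb = ⊤ :=
        Subgroup.eq_top_of_card_eq _ (by rw [← hZc, h2, h1])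
      have hh : (⟨p, hp⟩ : Wb) ∈ Subgroup.center Wb := htop ▸ Subgroup.mem_top _
      exact (congrArg Subtype.val (Subgroup.mem_center_iff.1 hh ⟨q, hq⟩)).symm

/-- the stabiliser of a coset fixed by `b` -/
theorem Ctx.stab {O : Subgroup G} (hOb : O ≤ Subgroup.centralizer ({b} : Set G))
    (hOm : ∀ c, Commute c b → Odd (orderOf c) → c ∈ O) (hOodd : Odd (Nat.card O))
    (hinv : ∀ o ∈ O, t * o * t⁻¹ * o ∈ Subgroup.zpowers b)
    {s : G} (hs : s ∈ O) (hsB : s ∉ Subgroup.zpowers b) {m l : ℕ} (hm : s ^ m ∉ Subgroup.zpowers b)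
    (hl : (s ^ m) ^ 11 ^ l = 1) :
    ∃ g ∈ Subgroup.normalizer (V : Set G), g * g = 1 ∧ g * b * g⁻¹ = b⁻¹ ∧
      g * s * g⁻¹ * s⁻¹ ∈ Subgroup.zpowers b := by
  classical
  haveI : Fact (Nat.Prime 11) := ⟨by norm_num⟩
  set M := Subgroup.normalizer (V : Set G) with hM
  set K : Subgroup G := M ⊓ M.comap (MulAut.conj s⁻¹).toMonoidHom with hK
  have hKmem : ∀ {g}, g ∈ K ↔ g ∈ M ∧ s⁻¹ * g * s ∈ M := fun {g} => by
    rw [hK, Subgroup.mem_inf, Subgroup.mem_comap]
    show _ ∧ MulAut.conj s⁻¹ g ∈ M ↔ _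
    rw [MulAut.conj_apply, inv_inv]
  have hsb : Commute s b := Subgroup.mem_centralizer_singleton_iff.1 (hOb hs)
  have hbK : b ∈ K := hKmem.2 ⟨X.bM, by rw [mul_assoc, ← hsb.eq, inv_mul_cancel_left]; exact X.bM⟩
  have hoO : ∀ o ∈ O, Odd (orderOf o) := fun o ho => hOodd.of_dvd_nat (Subgroup.orderOf_dvd_natCard O ho)
  have hOB : ∀ o ∈ O, o ∈ M → o ∈ Subgroup.zpowers b := fun o ho hoM =>
    X.odd_mem hoM (Subgroup.mem_centralizer_singleton_iff.1 (hOb ho)) (hoO o ho)
  have hnorm : ∀ g ∈ K, g * b * g⁻¹ ∈ Subgroup.zpowers b → g * s * g⁻¹ * s⁻¹ ∈ Subgroup.zpowers b := by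
    intro g hg hgb
    have h1 : g * s * g⁻¹ ∈ O := hOm _ (X.b_mem_of_conj hgb hsb) (by
      rw [← MulAut.conj_apply, show orderOf (MulAut.conj g s) = orderOf s from
        orderOf_injective (MulAut.conj g).toMonoidHom (MulAut.conj g).injective s]
      exact hoO s hs)
    have h2 : s⁻¹ * (g * s * g⁻¹) ∈ Subgroup.zpowers b := by
      refine hOB _ (mul_mem (inv_mem hs) h1) ?_
      rw [show s⁻¹ * (g * s * g⁻¹) = s⁻¹ * g * s * g⁻¹ by group]
      exact mul_mem (hKmem.1 hg).2 (inv_mem (hKmem.1 hg).1)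
    obtain ⟨k, hk⟩ := h2
    refine ⟨k, ?_⟩
    have e : g * s * g⁻¹ = s * b ^ k := by rw [show b ^ k = _ from hk, mul_inv_cancel_left]
    show b ^ k = _
    rw [e, (hsb.zpow_right k).eq, mul_inv_cancel_right]
  have htK : t ∉ K := by
    intro h
    have hgb : t * b * t⁻¹ ∈ Subgroup.zpowers b := by
      rw [← X.bt.eq, mul_inv_cancel_right]; exact Subgroup.mem_zpowers b
    have h1 := hnorm t h hgb
    have h2 := mul_mem (inv_mem h1) (hinv s hs)
    rw [show (t * s * t⁻¹ * s⁻¹)⁻¹ * (t * s * t⁻¹ * s) = s * s by group] at h2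
    obtain ⟨n, hn⟩ := hoO s hs
    have e : s = (s * s) ^ (n + 1) := by
      rw [← pow_two, ← pow_mul, show 2 * (n + 1) = 2 * n + 1 + 1 by ring, pow_succ _ (2 * n + 1), ← hn,
        pow_orderOf_eq_one, one_mul]
    exact hsB (e ▸ Subgroup.pow_mem _ h2 _)
  have hCK : ∀ c ∈ K, Commute c b → c ∈ Subgroup.zpowers b := by
    intro c hc hcb
    set D := M ⊓ Subgroup.centralizer ({b} : Set G) with hD
    have hbD : b ∈ D := ⟨X.bM, Subgroup.mem_centralizer_singleton_iff.2 rfl⟩
    set B := (Subgroup.zpowers b).subgroupOf D with hB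
    have hBi : B.index = 2 := by
      have h := Subgroup.card_mul_index B
      rw [Nat.card_congr (Subgroup.subgroupOfEquivOfLe (Subgroup.zpowers_le.2 hbD)).toEquiv, Nat.card_zpowers,
        X.bo, show Nat.card D = 22 from X.cb] at h
      omega
    by_contra hcB
    have hcD : c ∈ D := ⟨(hKmem.1 hc).1, Subgroup.mem_centralizer_singleton_iff.2 hcb.eq⟩
    have htD : t ∈ D := ⟨Subgroup.le_normalizer X.tV, Subgroup.mem_centralizer_singleton_iff.2 X.bt.symm.eq⟩
    have htB : t ∉ Subgroup.zpowers b := fun h => X.t1 (by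
      have h11 := orderOf_dvd_iff_pow_eq_one.1 (show orderOf t ∣ 11 by
        have := Subgroup.orderOf_dvd_natCard _ h; rwa [Nat.card_zpowers, X.bo] at this)
      have := pow_gcd_eq_one.2 ⟨(by rw [pow_two, X.t2] : t ^ 2 = 1), h11⟩
      rwa [show Nat.gcd 2 11 = 1 from rfl, pow_one] at this)
    have h3 : (⟨c, hcD⟩ : D) * ⟨t, htD⟩ ∈ B := by
      rw [Subgroup.mul_mem_iff_of_index_two hBi]
      exact iff_of_false (fun h' => hcB (Subgroup.mem_subgroupOf.1 h')) (fun h' => htB (Subgroup.mem_subgroupOf.1 h'))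
    have h4 : c * t ∈ K := Subgroup.zpowers_le.2 hbK (Subgroup.mem_subgroupOf.1 h3)
    exact htK (by simpa using mul_mem (inv_mem hc) h4)
  -- the normaliser of `⟨b⟩` in the stabiliser
  set D := K ⊓ Subgroup.normalizer (Subgroup.zpowers b : Set G) with hD
  set χ : D →* MulAut (Subgroup.zpowers b) :=
    (Subgroup.zpowers b).normalizerMonoidHom.comp (Subgroup.inclusion inf_le_right) with hχ
  have hker : Nat.card χ.ker = 11 := by
    rw [← X.bo, ← Nat.card_zpowers]
    refine Nat.card_congr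
      { toFun := fun c => ⟨((c : D) : G), hCK _ (c : D).2.1 ?_⟩
        invFun := fun c => ⟨⟨c, Subgroup.zpowers_le.2 hbK c.2, Subgroup.le_normalizer c.2⟩, ?_⟩
        left_inv := fun _ => rfl
        right_inv := fun _ => rfl }
    · have h : Subgroup.inclusion (inf_le_right : D ≤ _) c.1 ∈ (Subgroup.zpowers b).normalizerMonoidHom.ker := c.2
      rw [Subgroup.normalizerMonoidHom_ker] at h
      exact (Subgroup.mem_centralizer_iff.1 h b (Subgroup.mem_zpowers b)).symm
    · show _ ∈ (Subgroup.zpowers b).normalizerMonoidHom.ker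
      rw [Subgroup.normalizerMonoidHom_ker]
      refine Subgroup.mem_centralizer_iff.2 ?_
      rintro _ ⟨i, rfl⟩
      obtain ⟨j, hj⟩ := c.2
      show b ^ i * (c : G) = (c : G) * b ^ i
      rw [← show b ^ j = (c : G) from hj, ← zpow_add, ← zpow_add, add_comm]
  have hr : Nat.card χ.range ∣ 10 := by
    refine (Subgroup.card_subgroup_dvd_card _).trans (dvd_of_eq ?_)
    rw [IsCyclic.card_mulAut, Nat.card_zpowers, X.bo, Nat.totient_prime (by norm_num)]
  have hDc : Nat.card D = Nat.card χ.range * 11 := by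
    rw [Subgroup.card_eq_card_quotient_mul_card_subgroup χ.ker,
      Nat.card_congr (QuotientGroup.quotientKerEquivRange χ).toEquiv, hker]
  have hDb : ∀ g ∈ D, g * b * g⁻¹ ∈ Subgroup.zpowers b := fun g hg =>
    (Subgroup.mem_normalizer_iff.1 hg.2 b).1 (Subgroup.mem_zpowers b)
  have hordb : ∀ g ∈ D, g * b * g⁻¹ = b → g ∈ Subgroup.zpowers b := fun g hg e =>
    hCK g hg.1 (mul_inv_eq_iff_eq_mul.1 e)
  by_cases h5 : 5 ∣ Nat.card D
  · exfalso
    haveI : Fact (Nat.Prime 5) := ⟨by norm_num⟩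
    obtain ⟨f, hf⟩ := exists_prime_orderOf_dvd_card' 5 h5
    have hfo : orderOf (f : G) = 5 := by rw [Subgroup.orderOf_coe, hf]
    have hne : (f : G) * b * (f : G)⁻¹ ≠ b := fun e => by
      have := Subgroup.orderOf_dvd_natCard _ (hordb _ f.2 e)
      rw [Nat.card_zpowers, X.bo, hfo] at this
      norm_num at this
    obtain ⟨k, hk⟩ := hnorm _ f.2.1 (hDb _ f.2)
    have hfs : (f : G) * s * (f : G)⁻¹ = s * b ^ k := by
      rw [(hsb.zpow_right k).eq, show b ^ k = _ from hk, inv_mul_cancel_right]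
    have hfu : (f : G) * s ^ m * (f : G)⁻¹ = s ^ m * (b ^ k) ^ m := by
      rw [← conj_pow, hfs, (hsb.zpow_right k).mul_pow]
    obtain ⟨u, hu, hcu⟩ := fix_shift X.bo (hDb _ f.2) hne hfu (Subgroup.pow_mem _ (Subgroup.zpow_mem _ (Subgroup.mem_zpowers b) k) m)
    set w := s ^ m * u with hw
    obtain ⟨i, hi⟩ := hu
    have hw1 : w ≠ 1 := fun e => hm (by
      rw [eq_inv_of_mul_eq_one_left e]; exact inv_mem ⟨i, hi⟩)
    have hwl : w ^ 11 ^ (l + 1) = 1 := by
      rw [hw, ← show b ^ i = u from hi, ((hsb.pow_left m).zpow_right i).mul_pow, pow_succ, pow_mul, hl, one_pow,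
        one_mul, mul_comm, pow_mul, ← zpow_natCast (b ^ i), ← zpow_mul, mul_comm, zpow_mul, zpow_natCast,
        show b ^ 11 = 1 from X.bo ▸ pow_orderOf_eq_one b, one_zpow, one_pow]
    obtain ⟨j, -, hj⟩ := (Nat.dvd_prime_pow (by norm_num : Nat.Prime 11)).1 (orderOf_dvd_of_pow_eq_one hwl)
    have hj0 : j ≠ 0 := fun e => hw1 (orderOf_eq_one_iff.1 (by rw [hj, e, pow_zero]))
    obtain ⟨j, rfl⟩ := Nat.exists_eq_succ_of_ne_zero hj0
    refine X.h5 f (w ^ 11 ^ j) hfo ?_ (hcu.pow_right _)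
    rw [orderOf_pow, hj, pow_succ, Nat.gcd_mul_right_left, Nat.mul_div_cancel_left _ (pow_pos (by norm_num) j)]
  by_cases h2 : 2 ∣ Nat.card D
  · haveI : Fact (Nat.Prime 2) := ⟨Nat.prime_two⟩
    obtain ⟨g, hg⟩ := exists_prime_orderOf_dvd_card' 2 h2
    have hgo : orderOf (g : G) = 2 := by rw [Subgroup.orderOf_coe, hg]
    have hg2 : (g : G) * g = 1 := by rw [← pow_two, ← hgo, pow_orderOf_eq_one]
    refine ⟨g, (hKmem.1 g.2.1).1, hg2, ?_, hnorm _ g.2.1 (hDb _ g.2)⟩
    set c := (g : G) * b * (g : G)⁻¹ with hc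
    have hcB : c ∈ Subgroup.zpowers b := hDb _ g.2
    have hgc : (g : G) * c * (g : G)⁻¹ = b := by
      rw [hc, show (g : G) * ((g : G) * b * (g : G)⁻¹) * (g : G)⁻¹ = ((g : G) * g) * b * ((g : G) * g)⁻¹ by group,
        hg2]
      group
    have hcb : Commute c b := by
      obtain ⟨i, hi⟩ := hcB
      rw [← show b ^ i = c from hi]
      exact (Commute.refl b).zpow_left i
    have hfix : (g : G) * (c * b) * (g : G)⁻¹ = c * b := by
      rw [← conj_mul, hgc, ← hc, hcb.eq]
    by_contra hne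
    have hd1 : c * b ≠ 1 := fun e => hne (eq_inv_of_mul_eq_one_left e)
    have hd : c * b ∈ Subgroup.zpowers b := mul_mem hcB (Subgroup.mem_zpowers b)
    have hdo : orderOf (c * b) = 11 := by
      have := Subgroup.orderOf_dvd_natCard _ hd
      rw [Nat.card_zpowers, X.bo] at this
      exact ((Nat.dvd_prime (by norm_num)).1 this).resolve_left fun h => hd1 (orderOf_eq_one_iff.1 h)
    obtain ⟨i, hi⟩ : b ∈ Subgroup.zpowers (c * b) := by
      rw [Subgroup.eq_of_le_of_card_ge (Subgroup.zpowers_le.2 hd) (by rw [Nat.card_zpowers, Nat.card_zpowers, X.bo, hdo])]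
      exact Subgroup.mem_zpowers b
    have hgb : (g : G) * b * (g : G)⁻¹ = b := by rw [← show (c * b) ^ i = b from hi, ← conj_zpow, hfix]
    have := Subgroup.orderOf_dvd_natCard _ (hordb _ g.2 hgb)
    rw [Nat.card_zpowers, X.bo, hgo] at this
    norm_num at this
  exfalso
  -- the normaliser is the centraliser
  have hDB : ∀ g ∈ D, g ∈ Subgroup.zpowers b := by
    have hr1 : Nat.card χ.range = 1 := by
      rw [hDc] at h5 h2
      obtain ⟨d, hd⟩ : ∃ d, d = Nat.card χ.range := ⟨_, rfl⟩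
      rw [← hd] at hr h5 h2 ⊢
      have hle := Nat.le_of_dvd (by norm_num) hr
      interval_cases d <;> first | rfl | omega
    intro g hg
    have h1 : χ ⟨g, hg⟩ = 1 := Subgroup.mem_bot.1 (Subgroup.card_eq_one.1 hr1 ▸ (⟨_, rfl⟩ : χ ⟨g, hg⟩ ∈ χ.range))
    have h : Subgroup.inclusion (inf_le_right : D ≤ _) ⟨g, hg⟩ ∈ (Subgroup.zpowers b).normalizerMonoidHom.ker := h1
    rw [Subgroup.normalizerMonoidHom_ker] at h
    exact hCK g hg.1 (Subgroup.mem_centralizer_iff.1 h b (Subgroup.mem_zpowers b)).symm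
  have hMc := X.cardM
  have hKdvd : Nat.card K ∣ 501397585920 := hMc ▸ Subgroup.card_dvd_of_le inf_le_left
  have hK121 : ¬ 11 * 11 ∣ Nat.card K := fun h => by
    have := h.trans hKdvd
    norm_num at this
  set P : Subgroup K := (Subgroup.zpowers b).subgroupOf K with hP
  have hPc : Nat.card P = 11 := by
    rw [Nat.card_congr (Subgroup.subgroupOfEquivOfLe (Subgroup.zpowers_le.2 hbK)).toEquiv, Nat.card_zpowers, X.bo]
  have hfac : (Nat.card K).factorization 11 = 1 := by
    obtain ⟨n, hn⟩ : 11 ∣ Nat.card K := hPc ▸ Subgroup.card_subgroup_dvd_card P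
    rw [hn, Nat.factorization_mul (by norm_num) (fun e => by rw [hn, e] at hK121; simp at hK121), Finsupp.add_apply,
      (by norm_num : Nat.Prime 11).factorization_self,
      Nat.factorization_eq_zero_of_not_dvd (fun h => hK121 (hn ▸ Nat.mul_dvd_mul_left 11 h))]
  let PS : Sylow 11 K := Sylow.ofCard P (by rw [hPc, hfac, pow_one])
  have hNC : Subgroup.normalizer ((PS : Subgroup K) : Set K) ≤ Subgroup.centralizer ((PS : Subgroup K) : Set K) := by
    intro c hc
    have hcD : (c : G) ∈ D := ⟨c.2, Subgroup.mem_normalizer_fintype fun y hy => by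
      have h := (Subgroup.mem_normalizer_iff.1 hc ⟨y, Subgroup.zpowers_le.2 hbK hy⟩).1
        (show (⟨y, _⟩ : K) ∈ P from Subgroup.mem_subgroupOf.2 hy)
      exact Subgroup.mem_subgroupOf.1 (show c * (⟨y, _⟩ : K) * c⁻¹ ∈ P from h)⟩
    obtain ⟨i, hi⟩ := hDB _ hcD
    refine Subgroup.mem_centralizer_iff.2 fun y hy => Subtype.ext ?_
    obtain ⟨j, hj⟩ := Subgroup.mem_subgroupOf.1 (show y ∈ P from hy)
    show (y : G) * (c : G) = (c : G) * y
    rw [← show b ^ i = (c : G) from hi, ← show b ^ j = (y : G) from hj, ← zpow_add, ← zpow_add, add_comm]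
  obtain ⟨L', hL'n, hL'c⟩ := Fusion.hnpc_exists_complement (Fusion.hnpc_of_normalizer_le_centralizer PS hNC) PS
  set L := L'.map K.subtype with hL
  have hLK : L ≤ K := Subgroup.map_subtype_le _
  have hLc : Nat.card L * 11 = Nat.card K := by
    rw [hL, Subgroup.card_map_of_injective (Subgroup.subtype_injective _), ← hL'c.card_mul_card]
    congr 1
    exact hPc.symm
  have hL11 : ¬ 11 ∣ Nat.card L := fun h => hK121 (hLc ▸ Nat.mul_dvd_mul_right h 11)
  have hLn : ∀ w ∈ L, b * w * b⁻¹ ∈ L := by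
    rintro _ ⟨w, hw, rfl⟩
    exact ⟨⟨b, hbK⟩ * w * ⟨b, hbK⟩⁻¹, hL'n.conj_mem w hw _, rfl⟩
  have hLfix : L ⊓ Subgroup.centralizer ({b} : Set G) = ⊥ := by
    rw [eq_bot_iff]
    rintro w ⟨hw, hwc⟩
    have h1 : w ∈ Subgroup.zpowers b := hCK w (hLK hw) (Subgroup.mem_centralizer_singleton_iff.1 hwc)
    obtain ⟨w', hw', e⟩ := hw
    have hm' : w' ∈ L' ⊓ (PS : Subgroup K) := ⟨hw', show w' ∈ P from Subgroup.mem_subgroupOf.2 (e ▸ h1 :)⟩
    rw [hL'c.disjoint.eq_bot, Subgroup.mem_bot] at hm'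
    rw [Subgroup.mem_bot, ← e, hm']
    rfl
  have hbig : 2898 ≤ Nat.card K := by
    have hMi : M.index = 173067389 := by
      have h := Subgroup.card_mul_index M
      rw [X.cardG, hMc] at h
      omega
    have hM' : (M.comap (MulAut.conj s⁻¹).toMonoidHom).index = 173067389 := by
      rw [Subgroup.index_comap_of_surjective _ (MulAut.conj s⁻¹).surjective, hMi]
    have hi : K.index ≤ M.index * (M.comap (MulAut.conj s⁻¹).toMonoidHom).index := Subgroup.index_inf_le
    rw [hMi, hM'] at hi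
    have h := Subgroup.card_mul_index K
    rw [X.cardG] at h
    have := Nat.mul_le_mul_left (Nat.card K) hi
    rw [h] at this
    omega
  haveI hBsol : Group.IsSolvable (Subgroup.zpowers b) := inferInstance
  have hBn : Subgroup.zpowers b ≤ Subgroup.normalizer (L : Set G) :=
    Subgroup.zpowers_le.2 (Subgroup.mem_normalizer_fintype hLn)
  have hco : (Nat.card (Subgroup.zpowers b)).Coprime (Nat.card L) := by
    rw [Nat.card_zpowers, X.bo]
    exact (Nat.Prime.coprime_iff_not_dvd (by norm_num)).2 hL11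
  have syl : ∀ p : ℕ, p.Prime → ∃ W : Subgroup G, W ≤ L ∧ Nat.card W = p ^ (Nat.card L).factorization p ∧
      (∀ w ∈ W, b * w * b⁻¹ ∈ W) ∧ W ⊓ Subgroup.centralizer ({b} : Set G) = ⊥ := by
    intro p hp
    haveI : Fact p.Prime := ⟨hp⟩
    obtain ⟨W, ⟨hWL, hWc⟩, hWn⟩ := Solv.exists_invariant_sylow hBn hco (Or.inl hBsol) p
    exact ⟨W, hWL, hWc, fun w hw => (Subgroup.mem_normalizer_iff.1 (hWn (Subgroup.mem_zpowers b)) w).1 hw,
      eq_bot_iff.2 ((inf_le_inf_right _ hWL).trans hLfix.le)⟩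
  have hLdvd : Nat.card L ∣ 501397585920 := (Dvd.intro 11 hLc).trans hKdvd
  have hb11 : b ^ 11 = 1 := X.bo ▸ pow_orderOf_eq_one b
  have hodd : ∀ p a : ℕ, p.Prime → ¬ p ^ (a + 1) ∣ 501397585920 → (∀ i ≤ a, p ^ i % 11 = 1 → i = 0) →
      (Nat.card L).factorization p = 0 := by
    intro p a hp hpa hpi
    obtain ⟨W, hWL, hWc, hWn, hWf⟩ := syl p hp
    have hle : (Nat.card L).factorization p ≤ a := by
      by_contra hh
      exact hpa (((pow_dvd_pow p (by omega)).trans (Nat.ordProj_dvd (Nat.card L) p)).trans hLdvd)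
    have hm := card_modEq_cent (p := 11) hb11 hWn
    rw [hWf, Subgroup.card_bot, hWc] at hm
    exact hpi _ hle hm
  obtain ⟨W, hWL, hWc, hWn, hWf⟩ := syl 2 Nat.prime_two
  obtain ⟨hWV, hW1 | hW1⟩ := X.two_group (hWL.trans (hLK.trans inf_le_left)) hWc hWn hWf
  · -- no even part
    have h2' : (Nat.card L).factorization 2 = 0 := by
      rw [hWc] at hW1
      exact (pow_eq_one_iff.1 hW1).resolve_left (by norm_num)
    have h3' := hodd 3 3 Nat.prime_three (by norm_num) (by decide +kernel)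
    have h5' := hodd 5 1 (by norm_num) (by norm_num) (by decide +kernel)
    have h7' := hodd 7 1 (by norm_num) (by norm_num) (by decide +kernel)
    have hnd : ∀ p : ℕ, p.Prime → (Nat.card L).factorization p = 0 → ¬ p ∣ Nat.card L := fun p hp h h' => by
      have := (hp.dvd_iff_one_le_factorization Nat.card_pos.ne').1 h'
      omega
    have hcop : (Nat.card L).Coprime (2 ^ 21 * 3 ^ 3 * 5 * 7 * 11) := by
      refine Nat.Coprime.mul_right (Nat.Coprime.mul_right (Nat.Coprime.mul_right (Nat.Coprime.mul_right ?_ ?_) ?_) ?_) ?_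
      · exact ((Nat.Prime.coprime_iff_not_dvd Nat.prime_two).2 (hnd 2 Nat.prime_two h2')).symm.pow_right 21
      · exact ((Nat.Prime.coprime_iff_not_dvd Nat.prime_three).2 (hnd 3 Nat.prime_three h3')).symm.pow_right 3
      · exact ((Nat.Prime.coprime_iff_not_dvd (by norm_num)).2 (hnd 5 (by norm_num) h5')).symm
      · exact ((Nat.Prime.coprime_iff_not_dvd (by norm_num)).2 (hnd 7 (by norm_num) h7')).symm
      · exact ((Nat.Prime.coprime_iff_not_dvd (by norm_num)).2 hL11).symm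
    have h23 : Nat.card L ∣ 23 := hcop.dvd_of_dvd_mul_left
      (by rwa [show 2 ^ 21 * 3 ^ 3 * 5 * 7 * 11 * 23 = 501397585920 by norm_num])
    have := Nat.le_of_dvd (by norm_num) h23
    omega
  -- a subgroup of order 2 ^ 10 inside `V`
  set U' := W.comap (MulAut.conj s).toMonoidHom with hU'
  have hU'mem : ∀ {u}, u ∈ U' ↔ s * u * s⁻¹ ∈ W := fun {u} => Iff.rfl
  have hU'c : Nat.card U' = 2 ^ 10 := by
    rw [show (2 : ℕ) ^ 10 = 1024 by norm_num, ← hW1]
    exact Nat.card_congr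
      { toFun := fun u => ⟨s * u * s⁻¹, u.2⟩
        invFun := fun w => ⟨s⁻¹ * w * s, by
          show s * (s⁻¹ * (w : G) * s) * s⁻¹ ∈ W
          rw [show s * (s⁻¹ * (w : G) * s) * s⁻¹ = w by group]
          exact w.2⟩
        left_inv := fun u => Subtype.ext (by show s⁻¹ * (s * (u : G) * s⁻¹) * s = u; group)
        right_inv := fun w => Subtype.ext (by show s * (s⁻¹ * (w : G) * s) * s⁻¹ = w; group) }
  have hU'M : U' ≤ M := fun u hu => by
    have := (hKmem.1 (hLK (hWL (hU'mem.1 hu)))).2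
    rwa [show s⁻¹ * (s * u * s⁻¹) * s = u by group] at this
  have hsbb : s * b * s⁻¹ = b := by rw [hsb.eq, mul_inv_cancel_right]
  have hU'n : ∀ u ∈ U', b * u * b⁻¹ ∈ U' := fun u hu => by
    show s * (b * u * b⁻¹) * s⁻¹ ∈ W
    rw [show s * (b * u * b⁻¹) * s⁻¹ = (s * b * s⁻¹) * (s * u * s⁻¹) * (s * b * s⁻¹)⁻¹ by group, hsbb]
    exact hWn _ hu
  have hU'f : U' ⊓ Subgroup.centralizer ({b} : Set G) = ⊥ := by
    rw [eq_bot_iff]
    rintro u ⟨hu, huc⟩
    have h : s * u * s⁻¹ ∈ W ⊓ Subgroup.centralizer ({b} : Set G) := by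
      refine ⟨hu, Subgroup.mem_centralizer_singleton_iff.2 ?_⟩
      have := (Commute.conj_iff s).2 (show Commute u b from Subgroup.mem_centralizer_singleton_iff.1 huc)
      rwa [hsbb] at this
    rw [hWf, Subgroup.mem_bot, conj_eq_one_iff] at h
    exact Subgroup.mem_bot.2 h
  obtain ⟨hU'V, -⟩ := X.two_group hU'M hU'c hU'n hU'f
  have hWU : W = U' := by
    have hI : ∀ w ∈ W ⊓ U', b * w * b⁻¹ ∈ W ⊓ U' := fun w hw => ⟨hWn w hw.1, hU'n w hw.2⟩
    have hIf : W ⊓ U' ⊓ Subgroup.centralizer ({b} : Set G) = ⊥ :=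
      eq_bot_iff.2 ((inf_le_inf_right _ inf_le_left).trans hWf.le)
    obtain ⟨i, -, hi⟩ := (Nat.dvd_prime_pow Nat.prime_two).1 (hU'c ▸ Subgroup.card_dvd_of_le (inf_le_right : W ⊓ U' ≤ U'))
    rcases (X.two_group (inf_le_right.trans hU'M) hi hI hIf).2 with h | h
    · exfalso
      have hle : W ≤ Subgroup.normalizer (U' : Set G) := fun w hw => by
        refine Subgroup.mem_normalizer_fintype fun u hu => ?_
        have hsq : ∀ v ∈ V, v⁻¹ = v := fun v hv => inv_eq_of_mul_eq_one_right (X.sq v hv)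
        have hcm : w * u = u * w := by
          have h3 := hsq _ (mul_mem (hWV hw) (hU'V hu))
          rw [mul_inv_rev, hsq w (hWV hw), hsq u (hU'V hu)] at h3
          exact h3.symm
        rw [hcm, mul_inv_cancel_right]
        exact hu
      have hp := Solv.card_sup_mul_card_inf' U' W hle
      rw [inf_comm, h, hU'c, hW1, mul_one] at hp
      have := Subgroup.card_le_of_le (sup_le hU'V hWV)
      rw [hp, X.Vc] at this
      norm_num at this
    · exact (Subgroup.eq_of_le_of_card_ge inf_le_left (by rw [h, hW1])).symm.trans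
        (Subgroup.eq_of_le_of_card_ge inf_le_right (by rw [h, hU'c]; norm_num))
  -- a group of exponent a power of eleven normalising it
  set v := s ^ m with hv
  have hvb : Commute v b := hsb.pow_left m
  have hvn : ∀ w ∈ W, v * w * v⁻¹ ∈ W := by
    have hs1 : ∀ w ∈ W, s * w * s⁻¹ ∈ W := fun w hw => hU'mem.1 (hWU ▸ hw)
    have hle : Subgroup.zpowers s ≤ Subgroup.normalizer (W : Set G) :=
      Subgroup.zpowers_le.2 (Subgroup.mem_normalizer_fintype hs1)
    exact fun w hw => (Subgroup.mem_normalizer_iff.1 (hle (Subgroup.pow_mem _ (Subgroup.mem_zpowers s) m)) w).1 hw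
  set A := Subgroup.closure ({b, v} : Set G) with hA
  have hbA : b ∈ A := Subgroup.subset_closure (Or.inl rfl)
  have hvA : v ∈ A := Subgroup.subset_closure (Or.inr rfl)
  have hAn : A ≤ Subgroup.normalizer (W : Set G) := (Subgroup.closure_le _).2 (by
    rintro _ (rfl | rfl)
    · exact Subgroup.mem_normalizer_fintype hWn
    · exact Subgroup.mem_normalizer_fintype hvn)
  have hAb : ∀ a ∈ A, Commute a b := fun a ha => Subgroup.mem_centralizer_singleton_iff.1
    ((Subgroup.closure_le _).2 (by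
      rintro _ (rfl | rfl)
      · exact Subgroup.mem_centralizer_singleton_iff.2 rfl
      · exact Subgroup.mem_centralizer_singleton_iff.2 hvb.eq) ha : a ∈ Subgroup.centralizer ({b} : Set G))
  have hAp : IsPGroup 11 A := by
    have hP1 : IsPGroup 11 (Subgroup.zpowers b) := IsPGroup.of_card (n := 1) (by rw [Nat.card_zpowers, X.bo, pow_one])
    obtain ⟨j, -, hj⟩ := (Nat.dvd_prime_pow (by norm_num : Nat.Prime 11)).1 (orderOf_dvd_of_pow_eq_one hl)
    have hP2 : IsPGroup 11 (Subgroup.zpowers v) := IsPGroup.of_card (n := j) (by rw [Nat.card_zpowers, hj])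
    have : A = Subgroup.zpowers b ⊔ Subgroup.zpowers v := by
      rw [hA, Set.insert_eq, Subgroup.closure_union, ← Subgroup.zpowers_eq_closure, ← Subgroup.zpowers_eq_closure]
    rw [this]
    refine hP2.to_sup_of_normal_left' hP1 (Subgroup.zpowers_le.2 ?_) |> fun h => by rwa [sup_comm] at h
    refine Subgroup.mem_normalizer_fintype fun y hy => ?_
    obtain ⟨i, rfl⟩ := hy
    show b * v ^ i * b⁻¹ ∈ (Subgroup.zpowers v : Set G)
    rw [← (hvb.zpow_left i).eq, mul_inv_cancel_right]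
    exact Subgroup.zpow_mem _ (Subgroup.mem_zpowers v) i
  obtain ⟨e, he⟩ := hAp.exists_card_eq
  have he2 : 2 ≤ e := by
    by_contra hlt
    have hc11 : Nat.card A ≤ Nat.card (Subgroup.zpowers b) := by
      rw [Nat.card_zpowers, X.bo, he]
      exact (Nat.pow_le_pow_right (by norm_num) (by omega : e ≤ 1)).trans_eq (pow_one 11)
    exact hm ((Subgroup.eq_of_le_of_card_ge (Subgroup.zpowers_le.2 hbA) hc11).symm ▸ hvA :)
  -- some element of it centralises the subgroup
  obtain ⟨a, ha1, haW⟩ : ∃ a : A, a ≠ 1 ∧ ∀ w ∈ W, Commute (a : G) w := by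
    by_contra hno
    push Not at hno
    letI : MulAction A W :=
      { smul := fun a w => ⟨(a : G) * w * (a : G)⁻¹, (Subgroup.mem_normalizer_iff.1 (hAn a.2) w).1 w.2⟩
        one_smul := fun w => Subtype.ext (by show (1 : G) * w * (1 : G)⁻¹ = w; group)
        mul_smul := fun a c w => Subtype.ext (by
          show ((a : G) * c) * w * ((a : G) * c)⁻¹ = a * (c * w * (c : G)⁻¹) * (a : G)⁻¹
          group) }
    letI := Fintype.ofFinite A
    letI := Fintype.ofFinite W
    letI := Fintype.ofFinite (Quotient (MulAction.orbitRel A W))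
    have hsum := MulAction.sum_card_fixedBy_eq_card_orbits_mul_card_group A W
    have hone : ∀ a : A, Fintype.card (MulAction.fixedBy W a) = if a = 1 then 1024 else 1 := by
      intro a
      rw [← Nat.card_eq_fintype_card]
      split_ifs with h
      · subst h
        rw [← hW1]
        exact Nat.card_congr (Equiv.subtypeUnivEquiv fun w => one_smul _ _)
      · have e' : Nat.card (MulAction.fixedBy W a) =
            Nat.card (W ⊓ Subgroup.centralizer ({(a : G)} : Set G) : Subgroup G) :=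
          Nat.card_congr
            { toFun := fun w => ⟨(w.1 : G), w.1.2, Subgroup.mem_centralizer_singleton_iff.2
                (mul_inv_eq_iff_eq_mul.1 (congrArg Subtype.val (w.2 : a • w.1 = w.1))).symm⟩
              invFun := fun w => ⟨⟨w, w.2.1⟩, Subtype.ext (by
                show (a : G) * w * (a : G)⁻¹ = w
                rw [← Subgroup.mem_centralizer_singleton_iff.1 w.2.2, mul_inv_cancel_right])⟩
              left_inv := fun _ => rfl
              right_inv := fun _ => rfl }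
        rw [e']
        set Y := W ⊓ Subgroup.centralizer ({(a : G)} : Set G) with hY
        have hYn : ∀ w ∈ Y, b * w * b⁻¹ ∈ Y := fun w hw => ⟨hWn w hw.1,
          Subgroup.mem_centralizer_singleton_iff.2 (by
            have := (Commute.conj_iff b).2 (show Commute w a from Subgroup.mem_centralizer_singleton_iff.1 hw.2)
            rwa [show b * (a : G) * b⁻¹ = a by rw [← (hAb a a.2).eq, mul_inv_cancel_right]] at this)⟩
        obtain ⟨i, -, hi⟩ := (Nat.dvd_prime_pow Nat.prime_two).1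
          (show Nat.card Y ∣ 2 ^ 10 by
            rw [show (2 : ℕ) ^ 10 = 1024 by norm_num, ← hW1]; exact Subgroup.card_dvd_of_le inf_le_left)
        rcases (X.two_group (inf_le_left.trans (hWV.trans Subgroup.le_normalizer)) hi hYn
          (eq_bot_iff.2 ((inf_le_inf_right _ inf_le_left).trans hWf.le))).2 with h' | h'
        · exact h'
        · exfalso
          obtain ⟨w, hw, hne⟩ := hno a h
          refine hne ?_
          have hYW : Y = W := Subgroup.eq_of_le_of_card_ge inf_le_left (by rw [h', hW1])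
          exact (show Commute w (a : G) from Subgroup.mem_centralizer_singleton_iff.1 (hYW ▸ hw : w ∈ Y).2).symm
    simp only [hone] at hsum
    rw [Finset.sum_ite, Finset.sum_const, Finset.sum_const, smul_eq_mul, smul_eq_mul,
      Finset.filter_eq' Finset.univ (1 : A), if_pos (Finset.mem_univ _), Finset.card_singleton,
      Finset.filter_ne' Finset.univ (1 : A), Finset.card_erase_of_mem (Finset.mem_univ _), Finset.card_univ] at hsum
    have hA2 : Fintype.card A = 121 * 11 ^ (e - 2) := by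
      rw [← Nat.card_eq_fintype_card, he, show (121 : ℕ) = 11 ^ 2 by norm_num, ← pow_add]
      congr 1
      omega
    rw [hA2] at hsum
    generalize 11 ^ (e - 2) = q at hsum
    generalize Fintype.card (Quotient (MulAction.orbitRel A W)) = n at hsum
    rw [show n * (121 * q) = 121 * (n * q) by ring] at hsum
    omega
  -- an element of order eleven
  have hapow : ∃ d : G, orderOf d = 11 ∧ ∀ w ∈ W, Commute d w := by
    obtain ⟨j, hj⟩ := hAp a
    obtain ⟨i, -, hi⟩ := (Nat.dvd_prime_pow (by norm_num : Nat.Prime 11)).1 (orderOf_dvd_of_pow_eq_one hj)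
    have hi0 : i ≠ 0 := fun e' => ha1 (orderOf_eq_one_iff.1 (by rw [hi, e', pow_zero]))
    obtain ⟨i, rfl⟩ := Nat.exists_eq_succ_of_ne_zero hi0
    refine ⟨(a : G) ^ 11 ^ i, ?_, fun w hw => (haW w hw).pow_left _⟩
    rw [orderOf_pow, Subgroup.orderOf_coe, hi, pow_succ, Nat.gcd_mul_right_left,
      Nat.mul_div_cancel_left _ (pow_pos (by norm_num) i)]
  obtain ⟨d, hd, hdW⟩ := hapow
  obtain ⟨⟨w, hw⟩, hw1⟩ : ∃ w : W, w ≠ 1 := by
    haveI : Nontrivial W := Finite.one_lt_card_iff_nontrivial.1 (by rw [hW1]; norm_num)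
    exact exists_ne 1
  have hle : W ≤ Subgroup.centralizer ({w} : Set G) ⊓ Subgroup.centralizer ({d} : Set G) := fun u hu => by
    refine ⟨Subgroup.mem_centralizer_singleton_iff.2 ?_, Subgroup.mem_centralizer_singleton_iff.2 (hdW u hu).symm.eq⟩
    have hsq : ∀ v' ∈ V, v'⁻¹ = v' := fun v' hv' => inv_eq_of_mul_eq_one_right (X.sq v' hv')
    have h3 := hsq _ (mul_mem (hWV hu) (hWV hw))
    rw [mul_inv_rev, hsq w (hWV hw), hsq u (hWV hu)] at h3
    exact h3.symm
  have hcard := Subgroup.card_le_of_le hle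
  rw [hW1] at hcard
  rcases X.hI w d (X.sq w (hWV hw)) (fun e' => hw1 (Subtype.ext e')) hd (hdW w hw) with h | h <;> omega

end Cfsg.Agent.Spor.JFour.Eleven
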